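import Cfsg.Agent.TAB.B.Ch_m3
import Cfsg.Agent.H633.Ore.Co2Ore
import Cfsg.Agent.Leech.FrameAux
import Cfsg.Agent.Lib.ListFast
import Cfsg.Agent.BabyM.GroupInst
import Cfsg.Agent.BabyM.KLink
import Cfsg.Agent.H300.Ru.Theta
import Cfsg.Agent.H740.K4.Equiv_m3
import Cfsg.Agent.H714.K4.Defs
import Cfsg.Agent.H603.SporElim
import Cfsg.Agent.RuLat.Main
import Cfsg.Agent.Prune
set_option linter.all false

section
prune_inst 0x7ffefbfcefb8bbffffff7e7ff7f9effc93f51fffe6dff973ffe9ebffdfbf23650bc5fbaf6de490feced6e01410b87853fb7eeeffe06fdc7ffffdfff41ffbee4ff7ff350951d894a40fb46fff93f07fa86f3fffffffffffffffffffffffffffffffbfffffffff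

-- part: TAB/B/C2/Mat
section
prune_inst 0x104031045440000000000080210030802c0000900028800020000204094823028000010004201102100a9290100000000010008000000000000034000003000008a8420062a50104a00006803005790c00000000000000000000000000000004000000000
set_option linter.all false
open scoped Cfsg.Agent.FastGrp

/-!
# Packed matrices of elements of `Co0` (helper48)

`M γ p q` is the entry of `8 γ`; `HY γ Y` : `Y` is the list of the packed columns; `HA γ A` : the list of the columns.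
-/

set_option autoImplicit false

namespace Cfsg.Agent.TAB.B.C2

open Cfsg Cfsg.Agent.SporadicA Cfsg.Agent.SporadicA.GolayBase
open Cfsg.Agent.SporadicStructure.Co0Matrix (vec leechB vec_mem_of_leechB act row dotL)
open Cfsg.Agent.SporadicStructure.Co2RankThree (toCo0)
open Cfsg.Agent.H633.Ore (force force_eq nth nth_eq mapF mapF_eq)
open Cfsg.Agent.H633.Ore.Co2 (tt wd)
open Cfsg.Agent.H633.Ore.Co2D (R0 R1 R2)
open Cfsg.Agent.Leech.FrameAux (toHom co0_sqNorm)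
open Finset

private noncomputable def _root_.Cfsg.Agent.LsF.f86412c_0 : {f // @Cfsg.Agent.SporadicA.GolayBase.enc = f} := ⟨_, by first | (delta Cfsg.Agent.SporadicA.GolayBase.enc; rewrite [Cfsg.Agent.LsF.nmul_pat, Cfsg.Agent.LsF.nmod_pat, Cfsg.Agent.LsF.nxor_pat, Cfsg.Agent.LsF.nshr_pat]; exact rfl) | exact rfl⟩
private noncomputable def _root_.Cfsg.Agent.LsF.f86412c_1 : {f // @Cfsg.Agent.SporadicA.GolayBase.isCode = f} := ⟨_, by first | (delta Cfsg.Agent.SporadicA.GolayBase.isCode; rewrite [Cfsg.Agent.LsF.f86412c_0.2]; exact rfl) | exact rfl⟩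
private noncomputable def _root_.Cfsg.Agent.LsF.f86412c_2 : {f // @Cfsg.Agent.SporadicStructure.Co0Matrix.maskL = f} := ⟨_, by first | (delta Cfsg.Agent.SporadicStructure.Co0Matrix.maskL List.brecOn List.brecOn.go Cfsg.Agent.SporadicStructure.Co0Matrix.maskL._f; rewrite [Cfsg.Agent.LsF.nadd_pat, Cfsg.Agent.LsF.nmul_pat, Cfsg.Agent.LsF.imod_pat, Cfsg.Agent.LsF.toNat_eq]; (try delta Cfsg.Agent.SporadicStructure.Co0Matrix.maskL.match_1); (try delta List.casesOn); first | dsimp -zeta only | exact rfl) | exact rfl⟩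
private noncomputable def _root_.Cfsg.Agent.LsF.f86412c_3 : {f // @Cfsg.Agent.SporadicStructure.Co0Matrix.leechB = f} := ⟨_, by first | (delta Cfsg.Agent.SporadicStructure.Co0Matrix.leechB; rewrite [Cfsg.Agent.LsF.f86412c_1.2, Cfsg.Agent.LsF.f86412c_2.2, Cfsg.Agent.LsF.imul_pat, Cfsg.Agent.LsF.isub_pat, Cfsg.Agent.LsF.imod_pat, Cfsg.Agent.LsF.and_eq, Cfsg.Agent.LsF.all_eq, Cfsg.Agent.LsF.map_eq, Cfsg.Agent.LsF.sum_eq, Cfsg.Agent.LsF.headD_eq, Cfsg.Agent.LsF.instIAdd_eq, Cfsg.Agent.LsF.instIDecEq_eq, Cfsg.Agent.LsF.length_eq, Cfsg.Agent.LsF.decide_eq]; exact rfl) | exact rfl⟩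
theorem e8_ok : ∀ q < 24, leechB ((List.range 24).map fun j => if j = q then 8 else 0) = true := by (refine of_decide_eq_true ?_; (try (rewrite [Cfsg.Agent.LsF.f86412c_3.2, Cfsg.Agent.LsF.instDecEq_eq, Cfsg.Agent.LsF.map_eq, Cfsg.Agent.LsF.range_eq, Cfsg.Agent.LsF.dBoolEq_eq, Cfsg.Agent.LsF.dBallLT_eq, Cfsg.Agent.LsF.ite_eq, Cfsg.Agent.LsF.decide_eq])); decide +kernel)

theorem e8_mem (q : ℕ) : (fun p => if idx p = q then (8 : ℤ) else 0) ∈ leechLattice := by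
  by_cases h : q < 24
  · have h1 := vec_mem_of_leechB (e8_ok q h)
    rwa [show vec ((List.range 24).map fun j => if j = q then 8 else 0) = fun p => if idx p = q then (8 : ℤ) else 0 from
      funext fun p => SporadicStructure.Co0Matrix.getD_range_map _ p] at h1
  · rw [show (fun p => if idx p = q then (8 : ℤ) else 0) = 0 from funext fun p => if_neg (by have := idx_lt p; omega)]
    exact zero_mem _

/-- eight times a unit vector -/
def E8 (q : ℕ) : leechLattice := ⟨fun p => if idx p = q then 8 else 0, e8_mem q⟩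

/-- a coordinate -/
def co (v : leechLattice) (p : ℕ) : ℤ := (v : GolayPt → ℤ) (pt p)

theorem co_E8 {p : ℕ} (hp : p < 24) (q : ℕ) : co (E8 q) p = if p = q then 8 else 0 := by
  show (if idx (pt p) = q then (8 : ℤ) else 0) = _
  rw [idx_pt hp]

/-- the entries of the matrix -/
def M (γ : Co0) (p q : ℕ) : ℤ := co (γ • E8 q) p

theorem eight_eq (v : leechLattice) : (8 : ℤ) • v = ∑ r ∈ range 24, co v r • E8 r := by
  apply Subtype.ext
  funext p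
  rw [AddSubgroupClass.coe_zsmul, AddSubmonoidClass.coe_finsetSum, Finset.sum_apply, sum_eq_single (idx p)]
  · show 8 * (v : GolayPt → ℤ) p = co v (idx p) * (if idx p = idx p then 8 else 0)
    rw [if_pos rfl, co, pt_idx, mul_comm]
  · intro r _ hr
    show co v r * (if idx p = r then 8 else 0) = 0
    rw [if_neg (Ne.symm hr), mul_zero]
  · intro h
    exact absurd (mem_range.2 (idx_lt p)) h

theorem eight_co (γ : Co0) (v : leechLattice) (p : ℕ) : 8 * co (γ • v) p = ∑ r ∈ range 24, co v r * M γ p r := by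
  have h1 := congrArg (toHom γ) (eight_eq v)
  rw [map_zsmul, map_sum] at h1
  simp only [map_zsmul] at h1
  have h2 := congrArg (fun x : leechLattice => (x : GolayPt → ℤ) (pt p)) h1
  simp only [AddSubgroupClass.coe_zsmul, AddSubmonoidClass.coe_finsetSum, Finset.sum_apply, Pi.smul_apply,
    smul_eq_mul] at h2
  exact h2

theorem M_abs (γ : Co0) (p : ℕ) {q : ℕ} (hq : q < 24) : -8 ≤ M γ p q ∧ M γ p q ≤ 8 := by
  have h1 : sqNorm ((γ • E8 q : leechLattice) : GolayPt → ℤ) = 64 := by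
    rw [co0_sqNorm, sqNorm, sum_pt, sum_eq_single q]
    · exact (congrArg (· ^ 2) (co_E8 hq q)).trans (by rw [if_pos rfl]; rfl)
    · intro r hr hrq
      exact (congrArg (· ^ 2) (co_E8 (mem_range.1 hr) q)).trans (by rw [if_neg hrq]; rfl)
    · intro h
      exact absurd (mem_range.2 hq) h
  have h2 : M γ p q ^ 2 ≤ 64 := h1 ▸ single_le_sum (f := fun i => ((γ • E8 q : leechLattice) : GolayPt → ℤ) i ^ 2)
    (fun _ _ => sq_nonneg _) (mem_univ (pt p))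
  exact abs_le.1 (abs_le_of_sq_le_sq (by linarith) (by norm_num))

/-- the functional -/
def LA : List ℤ := [-1275, -523, -1519, -734, -1628, 1414, 1930, -1723, 1515, 1335, -1888, 1085, -59, 1721, 953, 1589, 1931, 510, 1329, 106, 1845, 321, 231, 1275]

/-- the value of the functional -/
def lam (v : leechLattice) : ℤ := ∑ p ∈ range 24, LA.getD p 0 * co v p

/-- the packing -/
def FF (v : leechLattice) : ℤ := ∑ p ∈ range 24, co v p * 256 ^ p + lam v * 256 ^ 24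

/-- the offset -/
def OFF : ℕ := 0x100000080808080808080808080808080808080808080808080808

theorem OFF_eq : (OFF : ℤ) = ∑ p ∈ range 24, 8 * 256 ^ p + 2 ^ 20 * 256 ^ 24 := by decide +kernel

theorem eight_FF (γ : Co0) (v : leechLattice) : 8 * FF (γ • v) = ∑ r ∈ range 24, co v r * FF (γ • E8 r) := by
  unfold FF lam
  simp only [mul_add, sum_add_distrib, mul_sum, sum_mul]
  rw [sum_comm (s := range 24) (t := range 24) (f := fun r p => co v r * (co (γ • E8 r) p * 256 ^ p)),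
    sum_comm (s := range 24) (t := range 24) (f := fun r p => co v r * (LA.getD p 0 * co (γ • E8 r) p * 256 ^ 24))]
  refine congrArg₂ (· + ·) (sum_congr rfl fun p _ => ?_) (sum_congr rfl fun p _ => ?_)
  · rw [← mul_assoc, eight_co, sum_mul]
    exact sum_congr rfl fun r _ => by unfold M; ring
  · rw [show 8 * (LA.getD p 0 * co (γ • v) p * 256 ^ 24) = LA.getD p 0 * (8 * co (γ • v) p) * 256 ^ 24 by ring, eight_co,
      mul_sum, sum_mul]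
    exact sum_congr rfl fun r _ => by unfold M; ring

theorem lam_abs (γ : Co0) {q : ℕ} (hq : q < 24) : -2 ^ 20 ≤ lam (γ • E8 q) := by
  have h1 : -2 ^ 20 ≤ ∑ p ∈ range 24, -(|LA.getD p 0| * 8) := by decide +kernel
  refine h1.trans (sum_le_sum fun p _ => ?_)
  have h2 := abs_le.2 (M_abs γ p hq)
  refine le_trans ?_ (neg_abs_le _)
  rw [abs_mul]
  exact neg_le_neg (mul_le_mul_of_nonneg_left h2 (abs_nonneg _))

/-- the packed columns -/
def HY (γ : Co0) (Y : List ℕ) : Prop := Y.length = 24 ∧ ∀ q < 24, (Y.getD q 0 : ℤ) = FF (γ • E8 q) + OFF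

/-- the columns -/
def HA (γ : Co0) (A : List (List ℕ)) : Prop :=
  A.length = 24 ∧ ∀ q < 24, (A.getD q []).length = 24 ∧ ∀ r < 24, ((A.getD q []).getD r 0 : ℤ) = M γ r q + 8

/-- a digit -/
noncomputable def dgt (y p : ℕ) : ℕ := Nat.land (Nat.shiftRight y (Nat.mul 8 p)) 255

theorem FF_eq (γ : Co0) {q : ℕ} (hq : q < 24) : FF (γ • E8 q) + OFF =
    ((∑ p ∈ range 24, (M γ p q + 8).toNat * 256 ^ p + (lam (γ • E8 q) + 2 ^ 20).toNat * 256 ^ 24 : ℕ) : ℤ) := by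
  have h1 : ∀ p ∈ range 24, (((M γ p q + 8).toNat * 256 ^ p : ℕ) : ℤ) = M γ p q * 256 ^ p + 8 * 256 ^ p := fun p _ => by
    rw [Nat.cast_mul, Int.toNat_of_nonneg (by have := M_abs γ p hq; omega)]
    push_cast
    ring
  rw [OFF_eq, Nat.cast_add, Nat.cast_sum, Nat.cast_mul, Int.toNat_of_nonneg (by have := lam_abs γ hq; omega),
    sum_congr rfl h1, sum_add_distrib]
  generalize ∑ p ∈ range 24, (8 : ℤ) * 256 ^ p = c
  unfold FF M
  push_cast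
  ring

theorem HY.dig {γ : Co0} {Y : List ℕ} (h : HY γ Y) {q : ℕ} (hq : q < 24) :
    (∀ p < 24, (dgt (Y.getD q 0) p : ℤ) = M γ p q + 8) ∧
      ((Nat.shiftRight (Y.getD q 0) 192 : ℕ) : ℤ) = lam (γ • E8 q) + 2 ^ 20 := by
  have h1 := h.2 q hq
  rw [FF_eq γ hq, Nat.cast_inj] at h1
  obtain ⟨h2, h3⟩ := C2.dig (B := 256) 24 (fun p => (M γ p q + 8).toNat) (lam (γ • E8 q) + 2 ^ 20).toNat fun p _ => by
    have := M_abs γ p hq
    omega
  rw [← h1] at h2 h3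
  refine ⟨fun p hp => ?_, ?_⟩
  · have h4 : dgt (Y.getD q 0) p = Y.getD q 0 / 256 ^ p % 256 := by
      show (Y.getD q 0 >>> (8 * p)) &&& (2 ^ 8 - 1) = _
      rw [Nat.and_two_pow_sub_one_eq_mod, Nat.shiftRight_eq_div_pow, pow_mul]
      rfl
    rw [h4, h2 p hp, Int.toNat_of_nonneg (by have := M_abs γ p hq; omega)]
  · have h4 : Nat.shiftRight (Y.getD q 0) 192 = Y.getD q 0 / 256 ^ 24 := Nat.shiftRight_eq_div_pow _ _
    rw [h4, h3, Int.toNat_of_nonneg (by have := lam_abs γ hq; omega)]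

/-- the numbers below 24 -/
def R24 : List ℕ := [0, 1, 2, 3, 4, 5, 6, 7, 8, 9, 10, 11, 12, 13, 14, 15, 16, 17, 18, 19, 20, 21, 22, 23]

/-- the digits -/
noncomputable def dgs (Y : List ℕ) : List (List ℕ) := Y.map fun y => R24.map (dgt y)

theorem HY.ha {γ : Co0} {Y : List ℕ} (h : HY γ Y) : HA γ (dgs Y) := by
  refine ⟨by rw [dgs, List.length_map, h.1], fun q hq => ?_⟩
  have h1 : (dgs Y).getD q [] = R24.map (dgt (Y.getD q 0)) := by
    rw [List.getD_eq_getElem _ _ (by rw [dgs, List.length_map, h.1]; exact hq),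
      List.getD_eq_getElem _ _ (by rw [h.1]; exact hq)]
    exact List.getElem_map _
  rw [h1]
  refine ⟨by rw [List.length_map]; rfl, fun r hr => ?_⟩
  rw [← (h.dig hq).1 r hr, show R24 = List.range 24 from rfl, List.getD_eq_getElem _ _ (by simpa using hr),
    List.getElem_map, List.getElem_range]

/-- eager version -/
noncomputable def dgsF {β : Type} (Y : List ℕ) : (List (List ℕ) → β) → β :=
  List.rec (fun k => k []) (fun y _ ih k => mapF (dgt y) R24 fun a => ih fun A => k (a :: A)) Y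

theorem dgsF_eq {β : Type} : ∀ (Y : List ℕ) (k : List (List ℕ) → β), dgsF Y k = k (dgs Y)
  | [], _ => rfl
  | y :: Y, k => by
    show mapF (dgt y) R24 (fun a => dgsF Y fun A => k (a :: A)) = _
    rw [mapF_eq, dgsF_eq Y]
    rfl

/-- scalar product -/
noncomputable def dot (a : List ℕ) : List ℕ → ℕ :=
  List.rec (fun _ => 0) (fun x _ ih Y => List.casesOn Y 0 fun y Y' => Nat.add (Nat.mul x y) (ih Y')) a

/-- sum -/
noncomputable def sm (a : List ℕ) : ℕ := List.rec 0 (fun x _ ih => Nat.add x ih) a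

theorem dot_eq' : ∀ a Y : List ℕ, dot a Y = ∑ r ∈ range a.length, a.getD r 0 * Y.getD r 0
  | [], _ => rfl
  | _ :: _, [] => by simp [show ∀ x a, dot (x :: a) [] = 0 from fun _ _ => rfl]
  | x :: a, y :: Y => by
    show x * y + dot a Y = _
    rw [dot_eq' a Y, List.length_cons, sum_range_succ', add_comm]
    rfl

theorem sm_eq : ∀ a : List ℕ, sm a = ∑ r ∈ range a.length, a.getD r 0
  | [] => rfl
  | x :: a => by
    show x + sm a = _
    rw [sm_eq a, List.length_cons, sum_range_succ', add_comm]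
    rfl

/-- one column of the product -/
noncomputable def stepY (Y : List ℕ) (S : ℕ) (a : List ℕ) : ℕ :=
  Nat.shiftRight (Nat.sub (Nat.add (dot a Y) (Nat.mul 200 OFF)) (Nat.add (Nat.mul 8 S) (Nat.mul OFF (sm a)))) 3

/-- the product -/
noncomputable def mulY (Y : List ℕ) (A : List (List ℕ)) : List ℕ := A.map (stepY Y (sm Y))

theorem HY.mul {γ δ : Co0} {Y : List ℕ} {A : List (List ℕ)} (h : HY γ Y) (hA : HA δ A) : HY (γ * δ) (mulY Y A) := by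
  refine ⟨by rw [mulY, List.length_map, hA.1], fun q hq => ?_⟩
  have h1 : (mulY Y A).getD q 0 = stepY Y (sm Y) (A.getD q []) := by
    rw [List.getD_eq_getElem _ _ (by rw [mulY, List.length_map, hA.1]; exact hq),
      List.getD_eq_getElem _ _ (by rw [hA.1]; exact hq)]
    exact List.getElem_map _
  obtain ⟨h2, h3⟩ := hA.2 q hq
  obtain ⟨t, ht⟩ : ∃ t : ℕ, FF ((γ * δ) • E8 q) + OFF = t := ⟨_, FF_eq _ hq⟩
  have h4 : dot (A.getD q []) Y + 200 * OFF = 8 * t + (8 * sm Y + OFF * sm (A.getD q [])) := by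
    zify
    rw [← ht, dot_eq', sm_eq, sm_eq, h2, h.1, mul_add, mul_smul, eight_FF]
    simp only [Nat.cast_sum, Nat.cast_mul]
    rw [sum_congr rfl fun r hr => by rw [h3 r (mem_range.1 hr), h.2 r (mem_range.1 hr)],
      sum_congr rfl fun r hr => h.2 r (mem_range.1 hr), sum_congr rfl fun r hr => h3 r (mem_range.1 hr)]
    simp only [M, mul_add, add_mul, sum_add_distrib, sum_const, card_range, ← mul_sum, ← sum_mul, nsmul_eq_mul]
    push_cast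
    ring
  rw [h1, ht]
  show (((dot (A.getD q []) Y + 200 * OFF - (8 * sm Y + OFF * sm (A.getD q []))) >>> 3 : ℕ) : ℤ) = _
  rw [h4, Nat.add_sub_cancel, Nat.shiftRight_eq_div_pow, show 2 ^ 3 = 8 from rfl, Nat.mul_div_cancel_left _ (by norm_num)]

/-- eager map -/
noncomputable def mapG {α β : Type} (f : α → ℕ) (L : List α) : (List ℕ → β) → β :=
  List.rec (fun k => k []) (fun a _ ih k => force (f a) fun b => ih fun l => k (b :: l)) L

theorem mapG_eq {α β : Type} (f : α → ℕ) : ∀ (L : List α) (k : List ℕ → β), mapG f L k = k (L.map f)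
  | [], _ => rfl
  | a :: L, k => by
    show force (f a) (fun b => mapG f L fun l => k (b :: l)) = _
    rw [force_eq, mapG_eq f L]
    rfl

/-- eager version -/
noncomputable def mulYF {β : Type} (Y : List ℕ) (A : List (List ℕ)) (k : List ℕ → β) : β :=
  force (sm Y) fun S => mapG (stepY Y S) A k

theorem mulYF_eq {β : Type} (Y : List ℕ) (A : List (List ℕ)) (k : List ℕ → β) : mulYF Y A k = k (mulY Y A) := by
  unfold mulYF
  rw [force_eq, mapG_eq]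
  rfl

/-- the identity -/
def YI : List ℕ := [0xfd828080808080808080808080808080808080808080808080810, 0xfefa8080808080808080808080808080808080808080808081008, 0xfd088080808080808080808080808080808080808080808100808, 0xfe910080808080808080808080808080808080808080810080808, 0xfcd20080808080808080808080808080808080808081008080808, 0x102c30080808080808080808080808080808080808100808080808, 0x103c50080808080808080808080808080808080810080808080808, 0xfca28080808080808080808080808080808081008080808080808, 0x102f58080808080808080808080808080808100808080808080808, 0x1029b8080808080808080808080808080810080808080808080808, 0xfc500080808080808080808080808081008080808080808080808, 0x1021e8080808080808080808080808100808080808080808080808, 0xffe28080808080808080808080810080808080808080808080808, 0x1035c8080808080808080808081008080808080808080808080808, 0x101dc8080808080808080808100808080808080808080808080808,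 0x1031a8080808080808080810080808080808080808080808080808, 0x103c58080808080808081008080808080808080808080808080808, 0x100ff0080808080808100808080808080808080808080808080808, 0x102988080808080810080808080808080808080808080808080808, 0x100350080808081008080808080808080808080808080808080808, 0x1039a8080808100808080808080808080808080808080808080808, 0x100a08080810080808080808080808080808080808080808080808, 0x100738081008080808080808080808080808080808080808080808, 0x1027d8100808080808080808080808080808080808080808080808]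

theorem hy_one : HY 1 YI := by
  refine ⟨rfl, fun q hq => ?_⟩
  have h1 : ∀ q < 24, (YI.getD q 0 : ℤ) = ∑ p ∈ range 24, (if p = q then 8 else 0) * 256 ^ p +
      (∑ p ∈ range 24, LA.getD p 0 * if p = q then 8 else 0) * 256 ^ 24 + OFF := by decide +kernel
  rw [h1 q hq, one_smul]
  unfold FF lam
  rw [sum_congr rfl fun p hp => congrArg (· * 256 ^ p) (co_E8 (mem_range.1 hp) q),
    sum_congr rfl fun p hp => congrArg (LA.getD p 0 * ·) (co_E8 (mem_range.1 hp) q)]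

/-- the matrices of the generators -/
def RR (k : ℕ) : List (List ℤ) := Nat.rec R0 (fun k _ => Nat.rec R1 (fun _ _ => R2) k) k

theorem M_tt (k p : ℕ) {q : ℕ} (hp : p < 24) (hq : q < 24) : M (toCo0 (tt k)) p q = ((RR k).getD p []).getD q 0 := by
  have h1 : M (toCo0 (tt k)) p q = act (RR k) (E8 q) (pt p) := by
    match k with
    | 0 => rfl
    | 1 => rfl
    | _ + 2 => rfl
  have h2 : dotInt ((E8 q : leechLattice) : GolayPt → ℤ) (row (RR k) (pt p)) = 8 * ((RR k).getD p []).getD q 0 := by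
    rw [dotInt, sum_pt, sum_eq_single q]
    · show co (E8 q) q * ((RR k).getD (idx (pt p)) []).getD (idx (pt q)) 0 = _
      rw [co_E8 hq, if_pos rfl, idx_pt hp, idx_pt hq]
    · intro r hr hrq
      show co (E8 q) r * _ = 0
      rw [co_E8 (mem_range.1 hr), if_neg hrq, zero_mul]
    · intro h
      exact absurd (mem_range.2 hq) h
  rw [h1, act, h2, Int.mul_ediv_cancel_left _ (by norm_num)]

/-- the columns of a generator -/
def GA0 : List (List ℕ) := [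
  [10, 8, 8, 8, 10, 6, 8, 8, 8, 6, 8, 8, 8, 8, 6, 8, 6, 8, 8, 8, 6, 8, 8, 14],
  [8, 6, 6, 10, 8, 8, 6, 6, 6, 8, 10, 10, 6, 10, 8, 6, 8, 6, 6, 6, 8, 10, 10, 8],
  [8, 6, 6, 10, 8, 8, 10, 10, 10, 8, 10, 6, 10, 10, 8, 6, 8, 6, 10, 10, 8, 6, 10, 8],
  [8, 10, 10, 6, 8, 8, 6, 10, 6, 8, 10, 6, 6, 10, 8, 6, 8, 10, 10, 10, 8, 10, 10, 8],
  [10, 8, 8, 8, 2, 6, 8, 8, 8, 6, 8, 8, 8, 8, 6, 8, 6, 8, 8, 8, 6, 8, 8, 6],
  [6, 8, 8, 8, 6, 2, 8, 8, 8, 10, 8, 8, 8, 8, 10, 8, 10, 8, 8, 8, 10, 8, 8, 10],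
  [8, 6, 10, 6, 8, 8, 6, 10, 10, 8, 6, 10, 6, 6, 8, 6, 8, 6, 6, 10, 8, 6, 10, 8],
  [8, 6, 10, 10, 8, 8, 10, 6, 6, 8, 6, 6, 6, 10, 8, 6, 8, 10, 6, 10, 8, 6, 6, 8],
  [8, 6, 10, 6, 8, 8, 10, 6, 6, 8, 6, 6, 10, 6, 8, 6, 8, 6, 10, 6, 8, 10, 10, 8],
  [6, 8, 8, 8, 6, 10, 8, 8, 8, 2, 8, 8, 8, 8, 10, 8, 10, 8, 8, 8, 10, 8, 8, 10],
  [8, 10, 10, 10, 8, 8, 6, 6, 6, 8, 6, 10, 10, 10, 8, 10, 8, 6, 10, 10, 8, 6, 10, 8],
  [8, 10, 6, 6, 8, 8, 10, 6, 6, 8, 10, 6, 6, 6, 8, 10, 8, 6, 6, 10, 8, 6, 10, 8],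
  [8, 6, 10, 6, 8, 8, 6, 6, 10, 8, 10, 6, 6, 10, 8, 10, 8, 6, 10, 6, 8, 6, 6, 8],
  [8, 10, 10, 10, 8, 8, 6, 10, 6, 8, 10, 6, 10, 6, 8, 6, 8, 6, 6, 6, 8, 6, 6, 8],
  [6, 8, 8, 8, 6, 10, 8, 8, 8, 10, 8, 8, 8, 8, 2, 8, 10, 8, 8, 8, 10, 8, 8, 10],
  [8, 6, 6, 6, 8, 8, 6, 6, 6, 8, 10, 10, 10, 6, 8, 6, 8, 10, 10, 10, 8, 6, 6, 8],
  [6, 8, 8, 8, 6, 10, 8, 8, 8, 10, 8, 8, 8, 8, 10, 8, 2, 8, 8, 8, 10, 8, 8, 10],
  [8, 6, 6, 10, 8, 8, 6, 10, 6, 8, 6, 6, 6, 6, 8, 10, 8, 6, 10, 10, 8, 10, 6, 8],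
  [8, 6, 10, 10, 8, 8, 6, 6, 10, 8, 10, 6, 10, 6, 8, 10, 8, 10, 6, 10, 8, 10, 10, 8],
  [8, 6, 10, 10, 8, 8, 10, 10, 6, 8, 10, 10, 6, 6, 8, 10, 8, 10, 10, 6, 8, 6, 10, 8],
  [6, 8, 8, 8, 6, 10, 8, 8, 8, 10, 8, 8, 8, 8, 10, 8, 10, 8, 8, 8, 2, 8, 8, 10],
  [8, 10, 6, 10, 8, 8, 6, 6, 10, 8, 6, 6, 6, 6, 8, 6, 8, 10, 10, 6, 8, 6, 10, 8],
  [8, 10, 10, 10, 8, 8, 10, 6, 10, 8, 10, 10, 6, 6, 8, 6, 8, 6, 10, 10, 8, 10, 6, 8],
  [14, 8, 8, 8, 6, 10, 8, 8, 8, 10, 8, 8, 8, 8, 10, 8, 10, 8, 8, 8, 10, 8, 8, 10]]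

/-- the columns of a generator -/
def GA1 : List (List ℕ) := [
  [10, 8, 8, 8, 8, 8, 8, 8, 8, 8, 10, 10, 8, 6, 8, 8, 10, 8, 10, 8, 10, 8, 8, 14],
  [8, 10, 10, 6, 10, 10, 6, 10, 10, 10, 8, 8, 6, 8, 6, 6, 8, 6, 8, 10, 8, 10, 10, 8],
  [8, 10, 6, 6, 10, 6, 6, 10, 10, 10, 8, 8, 10, 8, 10, 10, 8, 10, 8, 10, 8, 6, 6, 8],
  [8, 6, 6, 6, 6, 10, 6, 10, 6, 6, 8, 8, 10, 8, 6, 10, 8, 6, 8, 10, 8, 10, 6, 8],
  [8, 10, 10, 6, 10, 6, 10, 6, 6, 6, 8, 8, 10, 8, 6, 10, 8, 10, 8, 10, 8, 10, 10, 8],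
  [8, 10, 6, 10, 6, 6, 10, 10, 10, 6, 8, 8, 10, 8, 10, 6, 8, 6, 8, 10, 8, 10, 10, 8],
  [8, 6, 6, 6, 10, 10, 10, 10, 10, 6, 8, 8, 6, 8, 10, 10, 8, 10, 8, 6, 8, 10, 10, 8],
  [8, 10, 10, 10, 6, 10, 10, 10, 10, 6, 8, 8, 6, 8, 6, 10, 8, 10, 8, 10, 8, 6, 6, 8],
  [8, 10, 10, 6, 6, 10, 10, 10, 6, 10, 8, 8, 10, 8, 10, 6, 8, 10, 8, 6, 8, 10, 6, 8],
  [8, 10, 10, 6, 6, 6, 6, 6, 10, 6, 8, 8, 6, 8, 10, 10, 8, 6, 8, 6, 8, 10, 6, 8],
  [10, 8, 8, 8, 8, 8, 8, 8, 8, 8, 2, 10, 8, 6, 8, 8, 10, 8, 10, 8, 10, 8, 8, 6],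
  [10, 8, 8, 8, 8, 8, 8, 8, 8, 8, 10, 10, 8, 6, 8, 8, 2, 8, 10, 8, 10, 8, 8, 6],
  [8, 6, 10, 10, 10, 10, 6, 6, 10, 6, 8, 8, 10, 8, 10, 6, 8, 10, 8, 10, 8, 10, 6, 8],
  [6, 8, 8, 8, 8, 8, 8, 8, 8, 8, 6, 6, 8, 10, 8, 8, 6, 8, 6, 8, 14, 8, 8, 10],
  [8, 6, 10, 6, 6, 10, 10, 6, 10, 10, 8, 8, 10, 8, 10, 10, 8, 6, 8, 10, 8, 6, 10, 8],
  [8, 6, 10, 10, 10, 6, 10, 10, 6, 10, 8, 8, 6, 8, 10, 10, 8, 6, 8, 10, 8, 10, 6, 8],
  [10, 8, 8, 8, 8, 8, 8, 8, 8, 8, 10, 2, 8, 6, 8, 8, 10, 8, 10, 8, 10, 8, 8, 6],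
  [8, 6, 10, 6, 10, 6, 10, 10, 10, 6, 8, 8, 10, 8, 6, 6, 8, 6, 8, 6, 8, 6, 6, 8],
  [10, 8, 8, 8, 8, 8, 8, 8, 8, 8, 10, 10, 8, 6, 8, 8, 10, 8, 2, 8, 10, 8, 8, 6],
  [8, 10, 10, 10, 10, 10, 6, 10, 6, 6, 8, 8, 10, 8, 10, 10, 8, 6, 8, 6, 8, 6, 10, 8],
  [10, 8, 8, 8, 8, 8, 8, 8, 8, 8, 10, 10, 8, 14, 8, 8, 10, 8, 10, 8, 10, 8, 8, 6],
  [8, 10, 6, 10, 10, 10, 10, 6, 10, 10, 8, 8, 10, 8, 6, 10, 8, 6, 8, 6, 8, 10, 6, 8],
  [8, 10, 6, 6, 10, 10, 10, 6, 6, 6, 8, 8, 6, 8, 10, 6, 8, 6, 8, 10, 8, 6, 6, 8],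
  [14, 8, 8, 8, 8, 8, 8, 8, 8, 8, 6, 6, 8, 10, 8, 8, 6, 8, 6, 8, 6, 8, 8, 10]]

/-- the columns of a generator -/
def GA2 : List (List ℕ) := [
  [12, 6, 8, 8, 10, 10, 10, 8, 10, 8, 6, 8, 6, 8, 8, 8, 8, 8, 6, 8, 8, 8, 8, 12],
  [6, 8, 6, 10, 8, 8, 8, 10, 8, 6, 8, 6, 8, 6, 6, 10, 10, 10, 8, 10, 6, 6, 10, 10],
  [8, 6, 12, 8, 6, 6, 6, 8, 10, 8, 10, 4, 6, 8, 8, 8, 8, 8, 6, 8, 8, 8, 8, 8],
  [8, 10, 8, 12, 10, 10, 6, 8, 6, 8, 10, 8, 6, 12, 8, 8, 8, 8, 6, 8, 8, 8, 8, 8],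
  [10, 8, 6, 10, 8, 8, 8, 6, 8, 10, 8, 6, 8, 6, 10, 6, 10, 6, 8, 10, 6, 10, 10, 6],
  [10, 8, 6, 10, 8, 8, 8, 6, 8, 6, 8, 6, 8, 6, 6, 6, 6, 10, 8, 6, 10, 6, 6, 6],
  [10, 8, 6, 6, 8, 8, 8, 10, 8, 10, 8, 6, 8, 10, 6, 10, 10, 6, 8, 10, 10, 6, 6, 6],
  [8, 10, 8, 8, 6, 6, 10, 12, 6, 8, 6, 8, 6, 8, 8, 4, 8, 8, 6, 8, 8, 8, 8, 8],
  [10, 8, 10, 6, 8, 8, 8, 6, 8, 6, 8, 10, 8, 10, 6, 6, 10, 10, 8, 10, 6, 6, 10, 6],
  [8, 6, 8, 8, 10, 6, 10, 8, 6, 12, 10, 8, 6, 8, 8, 8, 8, 12, 10, 8, 8, 8, 8, 8],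
  [6, 8, 10, 10, 8, 8, 8, 6, 8, 10, 8, 10, 8, 6, 6, 6, 10, 6, 8, 10, 10, 6, 6, 10],
  [8, 6, 4, 8, 6, 6, 6, 8, 10, 8, 10, 12, 6, 8, 8, 8, 8, 8, 6, 8, 8, 8, 8, 8],
  [6, 8, 6, 6, 8, 8, 8, 6, 8, 6, 8, 6, 8, 10, 10, 6, 10, 10, 8, 10, 10, 10, 6, 10],
  [8, 6, 8, 12, 6, 6, 10, 8, 10, 8, 6, 8, 10, 12, 8, 8, 8, 8, 10, 8, 8, 8, 8, 8],
  [8, 6, 8, 8, 10, 6, 6, 8, 6, 8, 6, 8, 10, 8, 12, 8, 8, 8, 6, 8, 8, 4, 8, 8],
  [8, 10, 8, 8, 6, 6, 10, 4, 6, 8, 6, 8, 6, 8, 8, 12, 8, 8, 6, 8, 8, 8, 8, 8],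
  [8, 10, 8, 8, 10, 6, 10, 8, 10, 8, 10, 8, 10, 8, 8, 8, 12, 8, 6, 4, 8, 8, 8, 8],
  [8, 10, 8, 8, 6, 10, 6, 8, 10, 12, 6, 8, 10, 8, 8, 8, 8, 12, 6, 8, 8, 8, 8, 8],
  [6, 8, 6, 6, 8, 8, 8, 6, 8, 10, 8, 6, 8, 10, 6, 6, 6, 6, 8, 6, 6, 6, 10, 10],
  [8, 10, 8, 8, 10, 6, 10, 8, 10, 8, 10, 8, 10, 8, 8, 8, 4, 8, 6, 12, 8, 8, 8, 8],
  [8, 6, 8, 8, 6, 10, 10, 8, 6, 8, 10, 8, 10, 8, 8, 8, 8, 8, 6, 8, 12, 8, 12, 8],
  [8, 6, 8, 8, 10, 6, 6, 8, 6, 8, 6, 8, 10, 8, 4, 8, 8, 8, 6, 8, 8, 12, 8, 8],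
  [8, 10, 8, 8, 10, 6, 6, 8, 10, 8, 6, 8, 6, 8, 8, 8, 8, 8, 10, 8, 12, 8, 12, 8],
  [12, 10, 8, 8, 6, 6, 6, 8, 6, 8, 10, 8, 10, 8, 8, 8, 8, 8, 10, 8, 8, 8, 8, 12]]

/-- the columns of the generators -/
def GA (k : ℕ) : List (List ℕ) := Nat.rec GA0 (fun k _ => Nat.rec GA1 (fun _ _ => GA2) k) k

theorem ha_tt (k : ℕ) : HA (toCo0 (tt k)) (GA k) := by
  have h : ∀ k < 3, (GA k).length = 24 ∧ ∀ q < 24, ((GA k).getD q []).length = 24 ∧
      ∀ r < 24, (((GA k).getD q []).getD r 0 : ℤ) = ((RR k).getD r []).getD q 0 + 8 := by (refine of_decide_eq_true ?_; (try (rewrite [Cfsg.Agent.LsF.iadd_pat, Cfsg.Agent.LsF.icast_pat, Cfsg.Agent.LsF.instDecEq_eq, Cfsg.Agent.LsF.getD_eq, Cfsg.Agent.LsF.instIDecEq_eq, Cfsg.Agent.LsF.dAnd_eq, Cfsg.Agent.LsF.dBallLT_eq, Cfsg.Agent.LsF.length_eq, Cfsg.Agent.LsF.decide_eq])); decide +kernel)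
  have h1 : (GA k).length = 24 ∧ ∀ q < 24, ((GA k).getD q []).length = 24 ∧
      ∀ r < 24, (((GA k).getD q []).getD r 0 : ℤ) = ((RR k).getD r []).getD q 0 + 8 := by
    match k with
    | 0 => exact h 0 (by norm_num)
    | 1 => exact h 1 (by norm_num)
    | _ + 2 => exact h 2 (by norm_num)
  exact ⟨h1.1, fun q hq => ⟨(h1.2 q hq).1, fun r hr => by rw [(h1.2 q hq).2 r hr, M_tt k r hr hq]⟩⟩

/-- the packed matrix of a word -/
noncomputable def wdY {β : Type} (w : List ℕ) : List ℕ → (List ℕ → β) → β :=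
  List.rec (fun Y k => k Y) (fun a _ ih Y k => mulYF Y (GA a) fun Y' => ih Y' k) w

theorem wdY_spec {β : Type} : ∀ (w : List ℕ) (γ : Co0) (Y : List ℕ) (k : List ℕ → β), HY γ Y →
    ∃ Y', HY (γ * toCo0 (wd w)) Y' ∧ wdY w Y k = k Y'
  | [], γ, Y, k, h => ⟨Y, by rwa [show toCo0 (wd []) = 1 from rfl, mul_one], rfl⟩
  | a :: w, γ, Y, k, h => by
    obtain ⟨Y', h1, h2⟩ := wdY_spec w _ _ k (h.mul (ha_tt a))
    refine ⟨Y', by rwa [show toCo0 (wd (a :: w)) = toCo0 (tt a) * toCo0 (wd w) from rfl, ← mul_assoc], ?_⟩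
    show mulYF Y (GA a) (fun Y' => wdY w Y' k) = _
    rw [mulYF_eq, h2]

end Cfsg.Agent.TAB.B.C2

private theorem dce_6daa2f5b63dd : _root_.True := by
  try have : _root_.True := by simp only [_root_.Cfsg.Agent.TAB.B.C2.dgs.eq_1]
  try have : _root_.True := by simp only [_root_.Cfsg.Agent.TAB.B.C2.co.eq_1]
  try have : _root_.True := by simp only [_root_.Cfsg.Agent.TAB.B.C2.M.eq_1]
  try have : _root_.True := by simp only [_root_.Cfsg.Agent.TAB.B.C2.mulY.eq_1]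
  exact _root_.True.intro
end

-- part: TAB/B/C2/Head
section
prune_inst 0x10400100444000000000000060003480a0000002000080000040020000082a000000002000001110800090000000004000100000000000000000000000000000000002005081a100a00000001000610000000000000000000000000000000000000000000
set_option linter.all false
open scoped Cfsg.Agent.FastGrp

/-!
# The homomorphism of `C` onto `Co2` and the `23`-part (helper48)
-/

set_option autoImplicit false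

namespace Cfsg.Agent.TAB.B.C2

open Cfsg Cfsg.Agent.SporadicA Cfsg.Agent.SporadicA.GolayBase
open Cfsg.Agent.SporadicStructure.Co0Matrix (dotL sum_range_getD)
open Cfsg.Agent.SporadicStructure.Co2RankThree (toCo0 ofCo0 a0 toCo0_a0)
open Cfsg.Agent.H633.Ore (linL force force_eq nth nth_eq mapF mapF_eq idL)
open Cfsg.Agent.H633.Ore.Co2 (tt wd)
open Cfsg.Agent.Leech.Co0Elts (sgn sgn_coe sgnMap_apply sgnMap_sgnMap)
open Cfsg.Agent.Monster.PauliBasic Cfsg.Agent.Monster.PauliClif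
open Cfsg.Agent.Monster.VecSpace (Lane)
open Cfsg.Agent.Monster.VecEngine (val bt val_cons val_sgn)
open Cfsg.Agent.BabyM Cfsg.Agent.BabyM.Conc Cfsg.Agent.BabyM.KTab Cfsg.Agent.BabyM.ThetaInst
open Cfsg.Agent.BabyM.ThetaHom (π rel_π π_eq onto)
open Cfsg.Agent.BabyM.Co2GenStd (l₀)
open Finset

/-- the hypotheses -/
theorem hC : KCore.Hyp Cd u KLink.w C := KLink.hyp

/-- the sign change -/
noncomputable def ε : Co0 := sgn (fin 0x149f) ((fin_mem_supports_iff (by norm_num)).2 (by decide +kernel))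

theorem ε_ε (v : leechLattice) : ε • ε • v = v := Subtype.ext (sgnMap_sgnMap _ _)

theorem ε_sq : ε * ε = 1 := Leech.FrameAux.co0_ext fun v => by rw [mul_smul, ε_ε, one_smul]

/-- the signs -/
def es (k : ℕ) : ℤ := if (0x149f : ℕ).testBit k then -1 else 1

theorem es_sq (k : ℕ) : es k * es k = 1 := by unfold es; split_ifs <;> rfl

theorem co_ε (v : leechLattice) {p : ℕ} (hp : p < 24) : co (ε • v) p = es p * co v p := by
  unfold co ε es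
  rw [sgn_coe, sgnMap_apply]
  by_cases h : (0x149f : ℕ).testBit p = true
  · rw [if_pos (by rwa [mem_fin, idx_pt hp]), if_pos h, neg_one_mul]
  · rw [if_neg (by rwa [mem_fin, idx_pt hp]), if_neg h, one_mul]

theorem ε_a0 : ε • a0 = l₀ := by
  apply Subtype.ext
  funext p
  have h1 := co_ε a0 (idx_lt p)
  unfold co at h1
  rw [pt_idx] at h1
  rw [h1, H633.Ore.Co2.a0_eq]
  by_cases h2 : p = none
  · subst h2; rw [Leech.TransPair.v0_left]; decide +kernel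
  · by_cases h3 : p = some 0
    · subst h3; rw [Leech.TransPair.v0_right]; decide +kernel
    · rw [Leech.TransPair.v0_other _ h2 h3]
      revert p
      decide +kernel

theorem ε_l₀ : ε • l₀ = a0 := by rw [← ε_a0, ε_ε]

theorem toCo0_inj {a b : Spor.Co2} (h : toCo0 a = toCo0 b) : a = b := Subtype.ext (congrArg Subtype.val h :)

/-- the homomorphism onto `Co2` -/
noncomputable def pr2 : C →* Spor.Co2 :=
  MonoidHom.mk' (fun g => ofCo0 (ε * π g * ε) (by rw [mul_smul, mul_smul, ε_a0, (rel_π g).1, ε_l₀])) fun g h =>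
    toCo0_inj (show ε * π (g * h) * ε = ε * π g * ε * (ε * π h * ε) by
      rw [map_mul, ← mul_assoc, ← mul_assoc, ← mul_assoc, mul_assoc _ ε ε, ε_sq, mul_one])

theorem toCo0_pr2 (g : C) : toCo0 (pr2 g) = ε * π g * ε := rfl

theorem pr2_surj (γ : Spor.Co2) : ∃ g, pr2 g = γ := by
  obtain ⟨g, hg, h⟩ := onto (ε * toCo0 γ * ε) (by rw [mul_smul, mul_smul, ε_l₀, toCo0_a0, ε_a0])
  refine ⟨⟨g, hg⟩, toCo0_inj ?_⟩
  rw [toCo0_pr2, π_eq (g := ⟨g, hg⟩) h, ← mul_assoc, ← mul_assoc, ε_sq, one_mul, mul_assoc, ε_sq, mul_one]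

/-- the elements of `Q` -/
noncomputable def rq : Pauli 11 →* C := Cd.R.codRestrict C hC.Q_le

theorem pr2_eq_one {g : C} : pr2 g = 1 ↔ ∃ y, rq y = g := by
  have h1 : pr2 g = 1 ↔ Rel g 1 := by
    rw [← ThetaHom.π_iff]
    constructor
    · intro h
      have h2 : ε * π g * ε = 1 := congrArg toCo0 h
      rw [← mul_one (π g), ← one_mul (π g), ← ε_sq, mul_assoc ε ε, ← mul_assoc, mul_assoc ε _ ε, h2, mul_one]
    · intro h
      exact toCo0_inj (by rw [toCo0_pr2, h, mul_one, ε_sq]; rfl)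
  rw [h1, GroupInst.rel_iff KLink.link g.2, KQ.Q_eq]
  exact ⟨fun ⟨y, h⟩ => ⟨y, Subtype.ext h⟩, fun ⟨y, h⟩ => ⟨y, congrArg Subtype.val h⟩⟩

theorem pr2_act (g : C) (v : leechLattice) : g.1 (θ (ε • v)) = θ (ε • toCo0 (pr2 g) • v) := by
  rw [(rel_π g).2, toCo0_pr2, mul_smul, mul_smul, ε_ε]

/-! ### coordinates -/

/-- the coordinates in the head -/
def cf (j : ℕ) (v : leechLattice) : ℤ := if j = 0 then co v 23 - co v 0 else es j * co v j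

theorem coef_ε {j : ℕ} (hj : j < 23) (v : leechLattice) : coef j (ε • v) = (cf j v : ℚ) / 2 := by
  unfold cf
  by_cases h : j = 0
  · subst h
    have h1 : ((ε • v : leechLattice) : GolayPt → ℤ) none = es 23 * co v 23 := co_ε v (p := 23) (by norm_num)
    have h2 : ((ε • v : leechLattice) : GolayPt → ℤ) (some 0) = es 0 * co v 0 := co_ε v (p := 0) (by norm_num)
    rw [coef_zero, h1, h2, if_pos rfl, show es 23 = 1 from rfl, show es 0 = -1 from rfl]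
    push_cast
    ring
  · rw [coef_pos h, if_neg h, ← co_ε v (by omega)]
    rfl

theorem b_eq {k : ℕ} (hk : k < 23) : b k = ((es k : ℚ) / 4) • θ (ε • E8 k) := by
  have h2 : (es k : ℚ) * es k = 1 := by exact_mod_cast es_sq k
  unfold θ
  rw [sum_eq_single k, coef_ε hk, smul_smul]
  · have h1 : cf k (E8 k) = es k * 8 := by
      unfold cf
      split_ifs with h
      · subst h; rw [co_E8 (by norm_num), co_E8 (by norm_num)]; rfl
      · rw [co_E8 (by omega), if_pos rfl]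
    rw [h1, show (es k : ℚ) / 4 * (((es k * 8 : ℤ) : ℚ) / 2) = es k * es k by push_cast; ring, h2, one_smul]
  · intro j hj hjk
    have h1 : cf j (E8 k) = 0 := by
      unfold cf
      split_ifs with h
      · subst h; rw [co_E8 (by norm_num), co_E8 (by norm_num), if_neg (by omega), if_neg hjk]; rfl
      · rw [co_E8 (by have := mem_range.1 hj; omega), if_neg hjk, mul_zero]
    rw [coef_ε (mem_range.1 hj), h1]
    simp
  · intro h
    exact absurd (mem_range.2 hk) h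

theorem act_b (g : C) {k j : ℕ} (hk : k < 23) (hj : j < 23) :
    8 * g.1 (b k) (hl j hj) = (es k * cf j (toCo0 (pr2 g) • E8 k) : ℤ) := by
  rw [b_eq hk, map_smul, pr2_act, Pi.smul_apply, θ_apply_hl, coef_ε hj, smul_eq_mul]
  push_cast
  ring

theorem single_hl {k : ℕ} (hk : k < 23) : (Pi.single (hl k hk) 1 : V) = b k := by
  funext i
  rw [b_apply]
  by_cases h : i = hl k hk
  · subst h; rw [Pi.single_eq_same]; exact (if_pos rfl).symm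
  · rw [Pi.single_eq_of_ne h]; exact (if_neg fun h' => h (Subtype.ext h')).symm

open Classical in
theorem sum_U (F : Lane U → ℚ) : (∑ i, if Cd.isU i then F i else 0) = ∑ k : Fin 23, F (hl k k.2) := by
  rw [← sum_filter]
  symm
  refine sum_bij (fun k _ => hl k k.2) (fun k _ => mem_filter.2 ⟨mem_univ _, isU_iff.2 ?_⟩) (fun a _ c _ h => ?_)
    (fun i hi => ?_) fun _ _ => rfl
  · have := k.2
    exact ⟨Nat.le_add_right _ _, by show 1344 + k.1 ≤ 1366; omega⟩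
  · have h1 : 1344 + a.1 = 1344 + c.1 := congrArg Subtype.val h
    exact Fin.ext (by omega)
  · have h1 := isU_iff.1 (mem_filter.1 hi).2
    exact ⟨⟨i.1 - 1344, by omega⟩, mem_univ _, Subtype.ext (by show 1344 + (i.1 - 1344) = i.1; omega)⟩

/-- the numbers below 23 -/
def R23 : List ℕ := [0, 1, 2, 3, 4, 5, 6, 7, 8, 9, 10, 11, 12, 13, 14, 15, 16, 17, 18, 19, 20, 21, 22]

theorem sm_map (f : ℕ → ℕ) : sm (R23.map f) = ∑ k ∈ range 23, f k := by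
  rw [sm_eq, List.length_map]
  exact sum_congr rfl fun k hk => by
    rw [show R23 = List.range 23 from rfl, List.getD_eq_getElem _ _ (by simpa using hk), List.getElem_map,
      List.getElem_range]

/-- check of the trace on the `23`-part -/
noncomputable def tuB (Y : List ℕ) (t : ℤ) : Bool :=
  decide (8 * t + 176 + (dgt (nth Y 0) 23 : ℕ) = (sm (R23.map fun k => dgt (nth Y k) k) : ℕ))

theorem tuB_spec {g : C} {Y : List ℕ} (hY : HY (toCo0 (pr2 g)) Y) {t : ℤ} (h : tuB Y t = true) : tp Cd.isU g.1 = t := by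
  have h1 := of_decide_eq_true h
  simp only [nth_eq, sm_map, Nat.cast_sum] at h1
  rw [(hY.dig (by norm_num)).1 23 (by norm_num), sum_congr rfl fun k hk =>
    (hY.dig (q := k) (by have := mem_range.1 hk; omega)).1 k (by have := mem_range.1 hk; omega)] at h1
  have h2 : 8 * tp Cd.isU g.1 = ((∑ k ∈ range 23, es k * cf k (toCo0 (pr2 g) • E8 k) : ℤ) : ℚ) := by
    unfold tp
    rw [sum_U, mul_sum, Int.cast_sum, sum_range]
    exact sum_congr rfl fun k _ => by rw [dg, single_hl, act_b g k.2]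
  have h3 : ∑ k ∈ range 23, es k * cf k (toCo0 (pr2 g) • E8 k) = 8 * t := by
    rw [sum_range_succ', sum_congr rfl (g := fun k => M (toCo0 (pr2 g)) (k + 1) (k + 1)) fun k _ => by
      rw [cf, if_neg (by omega), ← mul_assoc, es_sq, one_mul]; rfl]
    rw [sum_add_distrib, sum_range_succ'] at h1
    simp only [sum_const, card_range, nsmul_eq_mul] at h1
    rw [cf, if_pos rfl, show es 0 = -1 from rfl]
    unfold M at h1 ⊢
    push_cast at h1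
    linarith
  rw [h3] at h2
  push_cast at h2
  linarith

/-! ### the vectors `u` -/

/-- a bit -/
noncomputable def bb (r k : ℕ) : ℕ := Nat.land (Nat.shiftRight r k) 1

theorem bb_eq (r k : ℕ) : (bb r k : ℤ) = bt r k := by
  show (((r >>> k) &&& 1 : ℕ) : ℤ) = _
  unfold bt
  rw [Nat.and_one_is_mod, Nat.testBit_eq_decide_div_mod_eq, Nat.shiftRight_eq_div_pow]
  rcases Nat.mod_two_eq_zero_or_one (r / 2 ^ k) with h | h <;> rw [h] <;> simp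

/-- an entry of a row -/
noncomputable def ur (r k : ℕ) : ℤ :=
  bb r k + 2 * bb (Nat.shiftRight r 24) k + 4 * bb (Nat.shiftRight r 48) k - 8 * bb (Nat.shiftRight r 72) k

theorem bt_hl (r : ℕ) {k : ℕ} (hk : k < 23) : bt (Nat.shiftLeft (Nat.land r 0x7fffff) 1344) (1344 + k) = bb r k := by
  rw [bb_eq]
  unfold bt
  have h1 : (Nat.shiftLeft (Nat.land r 0x7fffff) 1344).testBit (1344 + k) = r.testBit k := by
    show ((r &&& (2 ^ 23 - 1)) <<< 1344).testBit (1344 + k) = _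
    rw [Nat.testBit_shiftLeft, Nat.add_sub_cancel_left, Nat.testBit_and, Nat.testBit_two_pow_sub_one]
    simp [hk]
  rw [h1]

theorem u_hl (i : Lane U) {k : ℕ} (hk : k < 23) : u i (hl k hk) = ur (row i.1) k := by
  show ((val (uPl i.1) (1344 + k) : ℤ) : ℚ) = _
  unfold uPl ur
  rw [val_cons, val_cons, val_cons, val_sgn, bt_hl _ hk, bt_hl _ hk, bt_hl _ hk, bt_hl _ hk]
  push_cast
  ring

theorem eq_sum_b {f : V} (hf : ∀ j, ¬ Cd.isU j → f j = 0) : f = ∑ k : Fin 23, f (hl k k.2) • b k := by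
  funext j
  rw [Finset.sum_apply]
  by_cases h : Cd.isU j
  · have h1 := isU_iff.1 h
    have h2 : j = hl (j.1 - 1344) (by omega) := Subtype.ext (by show j.1 = 1344 + (j.1 - 1344); omega)
    rw [sum_eq_single ⟨j.1 - 1344, by omega⟩, Pi.smul_apply, b_apply, if_pos (by show j.1 = 1344 + (j.1 - 1344); omega),
      ← h2, smul_eq_mul, mul_one]
    · intro k _ hk
      rw [Pi.smul_apply, b_apply, if_neg fun h3 => hk (Fin.ext (by show k.1 = j.1 - 1344; omega)), smul_zero]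
    · intro h3
      exact absurd (mem_univ _) h3
  · rw [hf j h]
    refine (sum_eq_zero fun k _ => ?_).symm
    rw [Pi.smul_apply, b_apply, if_neg fun h3 => h (isU_iff.2 (by have := k.2; omega)), smul_zero]

theorem act_u (g : C) (i : Lane U) {j : ℕ} (hj : j < 23) : 8 * g.1 (u i) (hl j hj) =
    ((∑ k ∈ range 23, ur (row i.1) k * es k * cf j (toCo0 (pr2 g) • E8 k) : ℤ) : ℚ) := by
  rw [eq_sum_b (u_supp i), map_sum, Finset.sum_apply, mul_sum, Int.cast_sum, sum_range]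
  refine sum_congr rfl fun k _ => ?_
  rw [map_smul, Pi.smul_apply, smul_eq_mul, mul_left_comm, act_b g k.2, u_hl]
  push_cast
  ring

/-! ### the signs on the vectors `u` -/

/-- the functional -/
def LM : List ℤ := [1275, 523, 1519, 734, 1628, 1414, 1930, 1723, 1515, 1335, 1888, 1085, 59, 1721, 953, 1589, 1931, 510, 1329, 106, 1845, 321, 231]

theorem lam_eq (v : leechLattice) : lam v = ∑ j ∈ range 23, LM.getD j 0 * cf j v := by
  have h1 : ∀ j < 22, LA.getD (j + 1) 0 = LM.getD (j + 1) 0 * es (j + 1) := by decide +kernel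
  unfold lam
  have h2 : ∀ j ∈ range 22, LA.getD (j + 1) 0 * co v (j + 1) = LM.getD (j + 1) 0 * cf (j + 1) v := fun j hj => by
    rw [h1 j (mem_range.1 hj), cf, if_neg (by omega), mul_assoc]
  rw [sum_range_succ, sum_range_succ', sum_range_succ' (fun j => LM.getD j 0 * cf j v), sum_congr rfl h2,
    show cf 0 v = co v 23 - co v 0 from if_pos rfl,
    show LA.getD 0 0 = - LM.getD 0 0 from rfl, show LA.getD 23 0 = LM.getD 0 0 from rfl]
  ring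

/-- the sum of the selected entries -/
noncomputable def sel (L : List ℕ) : ℕ → ℕ :=
  List.rec (fun _ => 0) (fun c _ ih v => Nat.add (Nat.mul (Nat.land v 1) c) (force (Nat.shiftRight v 1) ih)) L

theorem sel_eq : ∀ (L : List ℕ) (v : ℕ), sel L v = ∑ k ∈ range L.length, bb v k * L.getD k 0
  | [], _ => rfl
  | c :: L, v => by
    show (v &&& 1) * c + force (v >>> 1) (sel L) = _
    rw [force_eq, sel_eq L, List.length_cons, sum_range_succ', add_comm]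
    refine congrArg₂ (· + ·) (sum_congr rfl fun k _ => ?_) rfl
    show ((v >>> 1 >>> k) &&& 1) * _ = ((v >>> (k + 1)) &&& 1) * _
    rw [← Nat.shiftRight_add, add_comm 1]
    rfl

/-- the value of a functional modulo a prime -/
noncomputable def dq (n : List ℕ) (i : ℕ) : ℕ :=
  force (row i) fun r => Nat.mod (Nat.add (Nat.add (sel n r) (Nat.mul 2 (sel n (Nat.shiftRight r 24))))
    (Nat.add (Nat.mul 4 (sel n (Nat.shiftRight r 48))) (Nat.mul 999995 (sel n (Nat.shiftRight r 72))))) 1000003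

theorem dq_eq {n : List ℕ} (hn : n.length = 23) {ν : ℕ → ℤ} (h : ∀ k < 23, ((n.getD k 0 : ℕ) : ZMod 1000003) = ν k) (i : ℕ) :
    dq n i = 0 ↔ ((∑ k ∈ range 23, ur (row i) k * ν k : ℤ) : ZMod 1000003) = 0 := by
  unfold dq
  rw [force_eq]
  change (sel n (row i) + 2 * sel n (Nat.shiftRight (row i) 24) + (4 * sel n (Nat.shiftRight (row i) 48) +
    999995 * sel n (Nat.shiftRight (row i) 72))) % 1000003 = 0 ↔ _
  rw [← Nat.dvd_iff_mod_eq_zero, ← ZMod.natCast_eq_zero_iff, sel_eq, sel_eq, sel_eq, sel_eq, hn]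
  refine iff_of_eq (congrArg (· = 0) ?_)
  push_cast
  simp only [mul_sum, ← sum_add_distrib]
  refine sum_congr rfl fun k hk => ?_
  rw [h k (mem_range.1 hk), ur, show (999995 : ZMod 1000003) = -8 from rfl]
  push_cast
  ring

/-- the signs modulo the prime -/
def SG : List ℕ := [1000002, 1000002, 1000002, 1000002, 1000002, 1, 1, 1000002, 1, 1, 1000002, 1, 1000002, 1, 1, 1, 1, 1, 1, 1, 1, 1, 1]

/-- the constants -/
def CS : List ℕ := [38373, 44389, 36421, 42701, 35549, 940118, 935990, 34789, 939310, 940750, 33469, 942750, 48101, 937662, 943806, 938718, 935982, 947350, 940798, 950582, 936670, 948862, 949582]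

/-- the functional times `-16` -/
def N16 : List ℕ := [979603, 991635, 975699, 988259, 973955, 977379, 969123, 972435, 975763, 978643, 969795, 982643, 999059, 972467, 984755, 974579, 969107, 991843, 978739, 998307, 970483, 994867, 996307]

/-- an entry of the functional `λ (g - 1)` -/
noncomputable def nu (Y : List ℕ) (k : ℕ) : ℕ :=
  Nat.mod (Nat.add (Nat.mul (nth SG k) (Nat.shiftRight (nth Y k) 192)) (nth CS k)) 1000003

theorem tau_spec {g : C} {Y : List ℕ} (hY : HY (toCo0 (pr2 g)) Y) (i : Lane U) (h16 : dq N16 i.1 ≠ 0) (t : ZMod 2)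
    (ht : g.1 (u i) = sg ℚ t • u i) : (if dq (R23.map (nu Y)) i.1 = 0 then 0 else 1) = t := by
  have h1 : ∀ k < 23, ((SG.getD k 0 : ℕ) : ZMod 1000003) = es k ∧
      ((CS.getD k 0 : ℕ) : ZMod 1000003) = (-es k * 2 ^ 20 - 8 * LM.getD k 0 : ℤ) ∧
      ((N16.getD k 0 : ℕ) : ZMod 1000003) = (-16 * LM.getD k 0 : ℤ) := by decide +kernel
  have h2 := dq_eq (n := R23.map (nu Y)) (by rw [List.length_map]; rfl)
    (ν := fun k => es k * lam (toCo0 (pr2 g) • E8 k) - 8 * LM.getD k 0) (fun k hk => by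
      rw [show R23 = List.range 23 from rfl, List.getD_eq_getElem _ _ (by simpa using hk), List.getElem_map,
        List.getElem_range]
      show (((nth SG k * Nat.shiftRight (nth Y k) 192 + nth CS k) % 1000003 : ℕ) : ZMod 1000003) = _
      have h3 := congrArg (Int.cast : ℤ → ZMod 1000003) (hY.dig (q := k) (by omega)).2
      rw [Int.cast_natCast] at h3
      rw [ZMod.natCast_mod, nth_eq, nth_eq, nth_eq, Nat.cast_add, Nat.cast_mul, (h1 k hk).1, (h1 k hk).2.1, h3]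
      push_cast
      ring) i.1
  have h3 := dq_eq (n := N16) rfl (ν := fun k => -16 * LM.getD k 0) (fun k hk => (h1 k hk).2.2) i.1
  have h4 : ((∑ k ∈ range 23, ur (row i.1) k * (es k * lam (toCo0 (pr2 g) • E8 k)) : ℤ) : ℚ) =
      sg ℚ t * ((∑ k ∈ range 23, ur (row i.1) k * (8 * LM.getD k 0) : ℤ) : ℚ) := by
    have h5 : ∑ k ∈ range 23, ur (row i.1) k * (es k * lam (toCo0 (pr2 g) • E8 k)) =
        ∑ j ∈ range 23, LM.getD j 0 * ∑ k ∈ range 23, ur (row i.1) k * es k * cf j (toCo0 (pr2 g) • E8 k) := by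
      simp only [lam_eq, mul_sum]
      rw [sum_comm]
      exact sum_congr rfl fun j _ => sum_congr rfl fun k _ => by ring
    rw [h5, Int.cast_sum, Int.cast_sum, mul_sum, sum_range, sum_range]
    refine sum_congr rfl fun j _ => ?_
    rw [Int.cast_mul, ← act_u g i j.2, ht, Pi.smul_apply, u_hl, smul_eq_mul]
    push_cast
    ring
  simp only [mul_sub, sum_sub_distrib] at h2
  rcases zmod2_cases t with rfl | rfl
  · rw [sg_zero, one_mul, Int.cast_inj] at h4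
    rw [if_pos (h2.2 (by rw [h4, sub_self, Int.cast_zero]))]
  · rw [sg_one, neg_one_mul, ← Int.cast_neg, Int.cast_inj] at h4
    rw [if_neg fun h5 => h16 (h3.2 ?_)]
    rw [← h2.1 h5, h4, ← sum_neg_distrib, ← sum_sub_distrib]
    exact congrArg _ (sum_congr rfl fun k _ => by ring)

/-! ### the matrices on the codes -/

/-- all lifts of `γ` act on the codes by `L` -/
def IndC (γ : Spor.Co2) (L : List ℕ) : Prop := ∀ (g : C) (α : MulAut (Pauli 11)), pr2 g = γ → Au Cd u g.1 α → Ind α L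

theorem ab_conj (y x : Pauli 11) : ab (MulAut.conj y x) = ab x := by
  rw [MulAut.conj_apply, Pauli.conj_eq]; rfl

theorem IndC.one : IndC 1 (idL 22) := by
  intro g α hg hα c
  obtain ⟨y, rfl⟩ := pr2_eq_one.1 hg
  rw [hα.unique (au_R hC.good y), ab_conj, ab_idL]

theorem IndC.mul {γ δ : Spor.Co2} {A B : List ℕ} (hA : IndC γ A) (hB : IndC δ B) : IndC (γ * δ) (B.map (linL A)) := by
  intro g α hg hα
  obtain ⟨h, hh⟩ := pr2_surj γ
  obtain ⟨β, hβ⟩ := hC.fact _ h.2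
  obtain ⟨β', hβ'⟩ := hC.fact _ (h⁻¹ * g).2
  have h1 : Au Cd u g.1 (β * β') := by
    have h2 := Au.mul (C := Cd) (u := u) hβ hβ'
    rwa [show h.1 * (h⁻¹ * g).1 = g.1 from mul_inv_cancel_left h.1 g.1] at h2
  rw [hα.unique h1]
  exact (hA h β hh hβ).mul (hB _ β' (by rw [map_mul, map_inv, hh, hg, inv_mul_cancel_left]) hβ')

/-- an `X`-lane -/
noncomputable def xB (i : ℕ) : Bool := Nat.testBit U i && Nat.blt i 4096 && !(Nat.beq (cd i) 0)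

theorem xB_iff {i : ℕ} : xB i = true ↔ ∃ l : Lane U, l.1 = i ∧ Cd.isX l := by
  simp only [xB, Bool.and_eq_true, Nat.blt_eq, Bool.not_eq_true', ← Bool.not_eq_true, Nat.beq_eq]
  refine ⟨fun h => ⟨⟨i, h.1.1⟩, rfl, isX_iff.2 ⟨h.1.2, h.2⟩⟩, ?_⟩
  rintro ⟨l, rfl, h⟩
  exact ⟨⟨l.2, (isX_iff.1 h).1⟩, (isX_iff.1 h).2⟩

/-- check of the image of a lane -/
noncomputable def chkG (R : List (List ℤ)) (i j : ℕ) (s : ℤ) (w : List ℤ) : Bool :=
  xB i && xB j && decide (s = 1 ∨ s = -1) && force (row i) (fun r => decide (R23.map (fun k => ur r k * es k) = w)) &&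
    force (row j) fun r => R23.all fun l => decide ((if l = 0 then dotL w (R.getD 23 []) - dotL w (R.getD 0 [])
      else es l * dotL w (R.getD l [])) = 8 * (s * ur r l))

theorem chkG_aux {k : ℕ} {i j : Lane U} {s : ℤ} {w : List ℤ} (hi : Cd.isX i)
    (hw : R23.map (fun k => ur (row i.1) k * es k) = w)
    (h : ∀ l < 23, (if l = 0 then dotL w ((RR k).getD 23 []) - dotL w ((RR k).getD 0 [])
      else es l * dotL w ((RR k).getD l [])) = 8 * (s * ur (row j.1) l)) {g : C} {α : MulAut (Pauli 11)}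
    (hg : pr2 g = tt k) (hα : Au Cd u g.1 α) : g.1 (u i) = (s : ℚ) • u j := by
  have h1 : ∀ p < 24, dotL w ((RR k).getD p []) = ∑ l ∈ range 23, ur (row i.1) l * es l * M (toCo0 (tt k)) p l := by
    intro p hp
    rw [← sum_range_getD _ _ 23 (by rw [← hw, List.length_map]; rfl)]
    refine sum_congr rfl fun l hl => ?_
    rw [M_tt k p hp (by have := mem_range.1 hl; omega), ← hw, show R23 = List.range 23 from rfl,
      List.getD_eq_getElem _ _ (by simpa using hl), List.getElem_map, List.getElem_range]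
  obtain ⟨l, -, -, t, -, h3, -⟩ := hα.2 _ hi
  rw [eq_sum_b (f := g.1 (u i)) fun a ha => by rw [h3, Pi.smul_apply, u_supp _ _ ha, smul_zero],
    eq_sum_b (f := (s : ℚ) • u j) fun a ha => by rw [Pi.smul_apply, u_supp _ _ ha, smul_zero]]
  refine sum_congr rfl fun a _ => congrArg (· • b a) ?_
  have h5 : ∑ l ∈ range 23, ur (row i.1) l * es l * cf a (toCo0 (pr2 g) • E8 l) = 8 * (s * ur (row j.1) a) := by
    rw [← h a a.2, hg]
    unfold cf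
    split_ifs
    · rw [h1 _ (by norm_num), h1 _ (by norm_num), ← sum_sub_distrib]
      exact sum_congr rfl fun l _ => by unfold M; ring
    · rw [h1 _ (by have := a.2; omega), mul_sum]
      exact sum_congr rfl fun l _ => by unfold M; ring
  have h6 := act_u g i a.2
  rw [h5] at h6
  push_cast at h6
  rw [Pi.smul_apply, u_hl, smul_eq_mul]
  linarith

theorem chkG_spec {k i j : ℕ} {s : ℤ} {w : List ℤ} (h : chkG (RR k) i j s w = true) {g : C} {α : MulAut (Pauli 11)}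
    (hg : pr2 g = tt k) (hα : Au Cd u g.1 α) : ab (α (P (cd i))) = ab (P (cd j)) := by
  unfold chkG at h
  rw [force_eq, force_eq, Bool.and_eq_true, Bool.and_eq_true, Bool.and_eq_true, Bool.and_eq_true, xB_iff, xB_iff] at h
  obtain ⟨⟨⟨⟨⟨i, rfl, hi⟩, j, rfl, hj⟩, hs⟩, hw⟩, h⟩ := h
  have h2 := chkG_aux hi (of_decide_eq_true hw)
    (fun l hl => of_decide_eq_true (List.all_eq_true.1 h l (show l ∈ List.range 23 from List.mem_range.2 hl))) hg hα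
  refine ab_of_u hC hα hi hj ?_
  rcases of_decide_eq_true hs with rfl | rfl
  · left; rw [h2, Int.cast_one, one_smul]
  · right; rw [h2, Int.cast_neg, Int.cast_one, neg_smul, one_smul]

end Cfsg.Agent.TAB.B.C2

private theorem dce_f9cc28eae376 : _root_.True := by
  try have : _root_.True := by simp only [_root_.Cfsg.Agent.TAB.B.C2.ur.eq_1]
  try have : _root_.True := by simp only [_root_.Cfsg.Agent.BabyM.ThetaInst.hl.congr_simp]
  try have : _root_.True := by simp only [_root_.Cfsg.Agent.TAB.B.C2.xB.eq_1]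
  try have : _root_.True := by simp only [_root_.Cfsg.Agent.TAB.B.C2.cf.eq_1]
  exact _root_.True.intro
end

-- part: TAB/B/C2/Gen
section
set_option linter.all false
open scoped Cfsg.Agent.FastGrp

/-!
# The matrices of the generators on the codes (helper48)
-/

set_option autoImplicit false

namespace Cfsg.Agent.TAB.B.C2

open Cfsg Cfsg.Agent.SporadicA Cfsg.Agent.SporadicA.GolayBase
open Cfsg.Agent.SporadicStructure.Co0Matrix (dotL sum_range_getD)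
open Cfsg.Agent.SporadicStructure.Co2RankThree (toCo0 ofCo0 a0 toCo0_a0)
open Cfsg.Agent.H633.Ore (linL force force_eq nth nth_eq mapF mapF_eq idL)
open Cfsg.Agent.H633.Ore.Co2 (tt wd)
open Cfsg.Agent.Leech.Co0Elts (sgn sgn_coe sgnMap_apply sgnMap_sgnMap)
open Cfsg.Agent.Monster.PauliBasic Cfsg.Agent.Monster.PauliClif
open Cfsg.Agent.Monster.VecSpace (Lane)
open Cfsg.Agent.Monster.VecEngine (val bt val_cons val_sgn)
open Cfsg.Agent.BabyM Cfsg.Agent.BabyM.Conc Cfsg.Agent.BabyM.KTab Cfsg.Agent.BabyM.ThetaInst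
open Cfsg.Agent.BabyM.ThetaHom (π rel_π π_eq onto)
open Cfsg.Agent.BabyM.Co2GenStd (l₀)
open Finset

/-- the lanes of a basis -/
def BL : List ℕ := [0, 1, 2, 3, 4, 8, 16, 17, 18, 20, 32, 33, 36, 48, 52, 80, 128, 208, 304, 448, 640, 2048]

/-- the unit vectors in this basis -/
def BI : List ℕ := [29747, 28333, 5945, 3736, 28260, 24905, 6939, 7116, 30958, 3476, 15, 105, 4151, 19679, 35425, 68929, 134388, 262412, 549447, 1048577, 2078710, 2097152]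

/-- the vectors of the basis -/
def WL : List (List ℤ) := [
  [0, 0, 2, 0, -2, -2, -2, 0, 0, 0, 2, -2, 0, 0, 0, 0, 0, 0, 0, 0, 0, 0, 0],
  [0, 0, 2, 0, -2, 2, 2, 0, 0, 0, -2, 2, 0, 0, 0, 0, 0, 0, 0, 0, 0, 0, 0],
  [0, 0, 2, 0, 2, 2, -2, 0, 0, 0, 2, -2, 0, 0, 0, 0, 0, 0, 0, 0, 0, 0, 0],
  [0, 0, 2, 0, 2, -2, 2, 0, 0, 0, -2, 2, 0, 0, 0, 0, 0, 0, 0, 0, 0, 0, 0],
  [0, 0, 2, 0, -2, -2, 2, 0, 0, 0, -2, -2, 0, 0, 0, 0, 0, 0, 0, 0, 0, 0, 0],
  [0, 0, 2, 0, -2, -2, -2, 0, 0, 0, -2, 2, 0, 0, 0, 0, 0, 0, 0, 0, 0, 0, 0],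
  [0, 2, 0, 2, 0, 0, -2, 0, -2, 0, -2, 0, 0, -2, 0, 0, 0, 0, 0, 0, 0, 0, 0],
  [0, 2, 0, 2, 0, 0, 2, 0, 2, 0, 2, 0, 0, 2, 0, 0, 0, 0, 0, 0, 0, 0, 0],
  [0, 2, 0, -2, 0, 0, 2, 0, -2, 0, -2, 0, 0, -2, 0, 0, 0, 0, 0, 0, 0, 0, 0],
  [0, 2, 0, 2, 0, 0, -2, 0, 2, 0, 2, 0, 0, -2, 0, 0, 0, 0, 0, 0, 0, 0, 0],
  [0, 0, 0, 2, 0, 0, 0, 0, 0, -2, 2, -2, -2, 0, -2, 0, 0, 0, 0, 0, 0, 0, 0],
  [0, 0, 0, 2, 0, 0, 0, 0, 0, -2, -2, 2, 2, 0, 2, 0, 0, 0, 0, 0, 0, 0, 0],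
  [0, 0, 0, 2, 0, 0, 0, 0, 0, -2, 2, 2, 2, 0, -2, 0, 0, 0, 0, 0, 0, 0, 0],
  [0, 2, 0, 0, 2, -2, 0, 2, 2, 0, 0, 0, 0, 0, 0, -2, 0, 0, 0, 0, 0, 0, 0],
  [0, 2, 0, 0, 2, -2, 0, -2, -2, 0, 0, 0, 0, 0, 0, -2, 0, 0, 0, 0, 0, 0, 0],
  [0, 0, 2, 0, 0, 0, 0, 2, 2, 0, 2, 0, 0, 0, -2, 0, -2, 0, 0, 0, 0, 0, 0],
  [0, 2, 0, 0, 2, 0, -2, 0, 0, 2, 0, 0, 2, 0, 0, 0, 0, -2, 0, 0, 0, 0, 0],
  [0, 2, 2, 0, 0, 0, 0, 0, 2, 0, 0, -2, 2, 0, 0, 0, 0, 0, -2, 0, 0, 0, 0],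
  [0, 0, 0, 0, 2, 0, 0, 2, 0, -2, 2, 0, 0, -2, 0, 0, 0, 0, 0, 2, 0, 0, 0],
  [0, 0, 0, 0, 0, 0, -2, -2, -2, -2, 0, -2, 0, 0, 0, 0, 0, 0, 0, 0, -2, 0, 0],
  [0, 0, 2, -2, -2, 0, 0, 0, 2, 2, 0, 0, 0, 0, 0, 0, 0, 0, 0, 0, 0, 2, 0],
  [-2, 1, 1, 1, 1, -1, -1, 1, -1, -1, 1, -1, 1, -1, -1, -1, -1, -1, -1, -1, -1, -1, -1]]

/-- the images -/
def JL (k : ℕ) : List ℕ := Nat.rec [234, 2762, 232, 2495, 51, 8, 704, 997, 213, 1185, 2188, 33, 2456, 2302, 2298, 2452, 313, 441, 2442, 2634, 2730, 1293] (fun k _ => Nat.rec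
  [1182, 94, 362, 204, 2079, 1175, 632, 845, 1102, 2711, 95, 358, 2575, 149, 927, 980, 788, 2427, 2435, 2632, 1065, 627] (fun _ _ =>
  [1282, 2922, 73, 2224, 67, 2839, 2838, 819, 77, 2648, 144, 247, 2505, 1137, 2926, 340, 2938, 386, 432, 2342, 159, 2410]) k) k

/-- the signs -/
def JS (k : ℕ) : List ℤ := Nat.rec [1, 1, 1, -1, -1, -1, -1, 1, -1, -1, -1, -1, -1, -1, -1, -1, -1, -1, -1, -1, 1, -1] (fun k _ => Nat.rec
  [1, -1, 1, -1, 1, 1, 1, -1, 1, -1, -1, -1, -1, 1, -1, 1, 1, 1, -1, 1, 1, 1] (fun _ _ =>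
  [1, -1, 1, -1, 1, 1, 1, 1, -1, 1, 1, -1, 1, 1, 1, 1, 1, 1, 1, 1, -1, 1]) k) k

/-- the matrices of the generators -/
def GM (k : ℕ) : List ℕ := Nat.rec [2097152, 2, 2327522, 8, 2827211, 3843065, 3252491, 128, 3244291, 2818195, 1812793, 3900528, 1749976, 328, 2343910, 3211267, 2171209, 107183, 1417546, 2859694, 106826, 1] (fun k _ => Nat.rec
  [1152, 3634059, 3110053, 1750865, 2441906, 1750124, 3503003, 1749069, 2975148, 2577454, 1749068, 422542, 1217929, 4006693, 4133395, 181736, 1681236, 2441968, 703059, 676150, 185581, 1666610] (fun _ _ =>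
  [2094005, 1502836, 2022302, 1883976, 1996875, 3149311, 1883904, 719251, 1503094, 784856, 67275, 2461112, 2990164, 605634, 3270449, 1916299, 597769, 3790598, 3485205, 2059901, 2784744, 2839549]) k) k

/-- the check of a generator -/
def GenOK (k : ℕ) : Prop := (JL k).length = 22 ∧ (GM k).length = 22 ∧ ∀ a < 22,
  chkG (RR k) (BL.getD a 0) ((JL k).getD a 0) ((JS k).getD a 0) (WL.getD a []) = true ∧
    linL (BL.map cd) (BI.getD a 0) = 2 ^ a ∧ linL ((JL k).map cd) (BI.getD a 0) = (GM k).getD a 0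

theorem genOK (k : ℕ) : GenOK k := by
  have h : GenOK 0 ∧ GenOK 1 ∧ GenOK 2 := by
    unfold GenOK
    decide +kernel
  match k with
  | 0 => exact h.1
  | 1 => exact h.2.1
  | _ + 2 => exact h.2.2

theorem indC_tt (k : ℕ) : IndC (tt k) (GM k) := by
  intro g α hg hα
  obtain ⟨h1, h2, h3⟩ := genOK k
  refine ind_of h2 fun a ha => ?_
  rw [← (h3 a ha).2.1, ← (h3 a ha).2.2]
  refine ab_lin _ _ (by rw [List.length_map, List.length_map, h1]; rfl) (fun c hc => ?_) _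
  have hc' : c < 22 := by rwa [List.length_map] at hc
  have h4 := chkG_spec (h3 c hc').1 hg hα
  rwa [List.getD_eq_getElem _ _ hc, List.getElem_map, List.getD_eq_getElem _ _ (by rw [List.length_map, h1]; exact hc'),
    List.getElem_map, ← List.getD_eq_getElem _ 0, ← List.getD_eq_getElem _ 0]

/-- the matrix of a word -/
noncomputable def wdL {β : Type} (w : List ℕ) : List ℕ → (List ℕ → β) → β :=
  List.rec (fun L k => k L) (fun a _ ih L k => mapF (linL L) (GM a) fun L' => ih L' k) w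

theorem wdL_spec {β : Type} : ∀ (w : List ℕ) (γ : Spor.Co2) (L : List ℕ) (k : List ℕ → β), IndC γ L →
    ∃ L', IndC (γ * wd w) L' ∧ wdL w L k = k L'
  | [], γ, L, k, h => ⟨L, by rwa [show wd [] = 1 from rfl, mul_one], rfl⟩
  | a :: w, γ, L, k, h => by
    obtain ⟨L', h1, h2⟩ := wdL_spec w _ _ k (h.mul (indC_tt a))
    refine ⟨L', by rwa [show wd (a :: w) = tt a * wd w from rfl, ← mul_assoc], ?_⟩
    show mapF (linL L) (GM a) (fun L' => wdL w L' k) = _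
    rw [mapF_eq, h2]

end Cfsg.Agent.TAB.B.C2
end

-- part: TAB/B/C2/Lnk
section
set_option linter.all false
open scoped Cfsg.Agent.FastGrp

/-!
# Masks of lanes and the trace on the `2300`-part (helper48)
-/

set_option autoImplicit false

namespace Cfsg.Agent.TAB.B.C2

open Cfsg.Agent.SporadicStructure.Co2RankThree (toCo0)
open Cfsg.Agent.H633.Ore (linL linL_map linL_idL linL_xor linL_zero force force_eq nth nth_eq mapF mapF_eq idL filtB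
  testBit_filtB Vm)
open Cfsg.Agent.Monster.PauliBasic Cfsg.Agent.Monster.PauliClif
open Cfsg.Agent.Monster.PauliBits (bit bit_xor bit_and bit_shiftRight bit_zero bit_eq_zero_of_lt bit_eq_one_iff)
open Cfsg.Agent.Monster.VecSpace (Lane)
open Cfsg.Agent.BabyM Cfsg.Agent.BabyM.Conc Cfsg.Agent.BabyM.KTab Cfsg.Agent.BabyM.KTabData
open Finset

/-- the mask of the `X`-lanes: bit `24 i` for the lane `i` -/
def mL : ℕ := 0x10000010000010000010000010000010000010000010000010000010000010000010000010000010000010000010000010000010000010000010000010000010000010000010000010000010000010000010000010000010000010000010000010000010000010000010000010000010000010000010000010000010000010000010000010000010000010000010000010000010000010000010000010000010000010000010000010000010000010000010000010000010000010000010000010000010000010000010000010000010000010000010000010000010000010000010000010000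010000010000010000010000010000010000010000010000010000010000010000010000010000010000010000010000010000010000010000010000010000010000010000010000010000010000010000010000010000010000010000010000010000010000010000010000010000010000010000010000010000010000010000010000010000010000010000010000010000010000010000010000010000010000010000010000010000010000010000010000010000010000010000010000010000010000010000010000010000010000010000010000010000010000010000010000010000010000010000010000010000010000010000010000010000010000010000010000010000010000010000010000010000010000010000010000010000010000010000010000010000010000010000010000010000010000010000010000010000010000010000010000010000010000010000010000010000010000010000010000010000010000010000010000010000010000010000010000010000010000010000010000010000010000010000010000010000010000010000010000010000010000010000010000010000010000010000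010000010000010000010000010000010000010000010000010000010000010000010000010000010000010000010000010000010000010000010000010000010000010000010000010000010000010000010000010000010000010000010000010000010000010000010000010000010000010000010000010000010000010000010000010000010000010000010000010000010000010000010000010000010000010000010000010000010000010000010000010000010000010000010000010000010000010000010000010000010000010000010000010000010000010000010000010000010000010000010000010000010000010000010000010000010000010000010000010000010000010000010000010000010000010000010000010000010000010000010000010000010000010000010000010000010000010000010000010000010000010000010000010000010000010000010000010000010000010000010000010000010000010000010000010000010000010000010000010000010000010000010000010000010000010000010000010000010000010000010000010000010000010000010000010000010000010000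010000010000010000010000010000010000010000010000010000010000010000010000010000010000010000010000010000010000010000010000010000010000010000010000010000010000010000010000010000010000010000010000010000010000010000010000010000010000010000010000010000010000010000010000010000010000010000010000010000010000010000010000010000010000010000010000010000010000010000010000010000010000010000010000010000010000010000010000010000010000010000010000010000010000010000010000010000010000010000010000010000010000010000010000010000010000010000010000010000010000010000010000010000010000010000010000010000010000010000010000010000010000010000010000010000010000010000010000010000010000010000010000010000010000010000010000010000010000010000010000010000010000010000010000010000010000010000010000010000010000010000010000010000010000010000010000010000010000010000010000010000010000010000010000010000010000010000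010000010000010000010000010000010000010000010000010000010000010000010000010000010000010000010000010000010000010000010000010000010000010000010000010000010000010000010000010000010000010000010000010000010000010000010000010000010000010000010000010000010000010000010000010000010000010000010000010000010000010000010000010000010000010000010000010000010000010000010000010000010000010000010000010000010000010000010000010000010000010000010000010000010000010000010000010000010000010000010000010000010000010000010000010000010000010000010000010000010000010000010000010000010000010000010000010000010000010000010000010000010000010000010000010000010000010000010000010000010000010000010000010000010000010000010000010000010000010000010000010000010000010000010000010000010000010000010000010000010000010000010000010000010000010000010000010000010000010000010000010000010000010000010000010000010000010000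010000010000010000010000010000010000010000010000010000010000010000010000010000010000010000010000010000010000010000010000010000010000010000010000010000010000010000010000010000010000010000010000010000010000010000010000010000010000010000010000010000010000010000010000010000010000010000010000010000010000010000010000010000010000010000010000010000010000010000010000010000010000010000010000010000010000010000010000010000010000010000010000010000010000010000010000010000010000010000010000010000010000010000010000010000010000010000010000010000010000010000010000010000010000010000010000010000010000010000010000010000010000010000010000010000010000010000010000010000010000010000010000010000010000010000010000010000010000010000010000010000010000010000010000010000010000010000010000010000010000010000010000010000010000010000010000010000010000010000010000010000010000010000010000010000010000010000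010000010000010000010000010000010000010000010000010000010000010000010000010000010000010000010000010000010000010000010000010000010000010000010000010000010000010000010000010000010000010000010000010000010000010000010000010000010000010000010000010000010000010000010000010000010000010000010000010000010000010000010000010000010000010000010000010000010000010000010000010000010000010000010000010000010000010000010000010000010000010000010000010000010000010000010000010000010000010000010000010000010000010000010000010000010000010000010000010000010000010000010000010000010000010000010000010000010000010000010000010000010000010000010000010000010000010000010000010000010000010000010000010000010000010000010000010000010000010000010000010000010000010000010000010000010000010000010000010000010000010000010000010000010000010000010000010000010000010000010000010000010000010000010000010000010000010000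010000010000010000010000010000010000010000010000010000010000010000010000010000010000010000010000010000010000010000010000010000010000010000010000010000010000010000010000010000010000010000010000010000010000010000010000010000010000010000010000010000010000010000010000010000010000010000010000010000010000010000010000010000010000010000010000010000010000010000010000010000010000010000010000010000000000000000000000000000000000000000000000000000000000000000000000000000000000000000000000000000000000000000000000000000000000000000000000000000000000000000000000000000000000000000000000000000000000000000000000000000000000000000000000000000000000000000000000000000000000000000000000000000000000000000000000000000000000000000000000000000000000000000000000000000000000000000000000000000000000000000000000000000000000000000000000000000000000000000000000000000000000000000000000000000000000000000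000000000000000000000000000000000000000000000000000000000000000000000000000000000000000000000000000000000000000000000000000000000000000000000000000000000000000000000000000000000000000000000000000000000000000000000000000000000000000000000000000000000000000000000000000000000000000000000000000000000000000000000000000000000000000000000000000000000000000000000000000000000000000000000000000000000000000000000000000000000000000000000000000000000000000000000000000000000000000000000000000000000000000000000000000000000000000000000000000000000000000000000000000000000000000000000000000000000000000000000000000000000000000000000000000000000000000000000000000000000000000000000000000000000000000000000000000000000000000000000000000000000000000000000000000000000000000000000000000000000000000000000000000000000000000000000000000000000000000000000000000000000000000000000000000000000000000000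000000000000000000000000000000000000000000000000000000000000000000000000000000000000000000000000000000000000000000000000000000000000000000000000000000000000000000000000000000000000000000000000000000000000000000000000000000000000000000000000000000000000000000000000000000000000000000000000000000000000000000000000000000000000000000000000000000000000000000000000000000000000000000000000000000000000000000000000000000000000000000000000000000000000000000000000000000000000000000000000000000000000000000000000000000000000000000000000000000000000000000000000000000000000000000000000000000000000000000000000000000000000000000000000000000000000000000000000000000000000000000000000000000000000000000000000000000000000000000000000000000000000000000000000000000000000000000000000000000000000000000000000000000000000000000000000000000000000000000000000000000000000000000000000000000000000000000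000000000000000000000000000000000000000000000000000000000000000000000000000000000000000000000000000000000000000000000000000000000000000000000000000000000000000000000000000000000000000000000000000000000000000000000000000000000000000000000000000000000000000000000000000000000000000000000000000000000000000000000000000000000000000000000000000000000000000000000000000000000000000000000000000000000000000000000000000000000000000000000000000000000000000000000000000000000000000000000000000000000000000000000000000000000000000000000000000000000000000000000000000000000000000000000000000000000000000000000000000000000000000000000000000000000000000000000000000000000000000000000000000000000000000000000000000000000000000000000000000000000000000000000000000000000000000000000000000000000000000000000000000000000000000000000000000000000000000000000000000000000000000000000000000000000000000000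000000000000000000000000000000000000000000000000000000000000000000000000000000000000000000000000000000000000000000000000000000000000000000000000000000000000000000000000000000000000000000000000000000000000000000000000000000000000000000000000000000000000000000000000000000000000000000000000000000000000000000000000000000000000000000000000000000000000000000000000000000000000000000000000000000000000000000000000000000000000000000000000000000000000000000000000000000000000000000000000000000000000000000000000000000000000000000000000000000000000000000000000000000000000000000000000000000000000000000000000000000000000000000000000000000000000000000000000000000000000000000000000000000000000000000000000000000000000000000000000000000000000000000000000000000000000000000000000000000000000000000000000000000000000000000000000000000000000000000000000000000000000000000000000000000000000000000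000000000000000000000000000000000000000000000000000000000000000000000000000000000000000000000000000000000000000000000000000000000000000000000000000000000000000000000000000000000000000000000000000000000000000000000000000000000000000000000000000000000000000000010000010000010000010000010000010000010000010000010000010000010000010000010000010000010000010000010000010000010000010000010000010000000000000000000000000000000000000000000000000000000000000000010000010000010000010000010000010000010000010000010000010000010000010000010000010000010000010000010000010000010000010000010000010000000000000000000000000000000000000000000000000000000000000000000000000000000000000000000000000000000000000000000000000000000000000000000000000000000000000000000000000000000000000000000000000000000000000000000000000000000000000000000000000000000000000000000000000000000000000000000000000000000000010000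010000010000010000010000010000010000010000010000010000010000010000010000010000010000010000010000010000010000010000010000010000010000010000010000010000010000010000010000010000010000010000010000010000010000010000010000010000010000010000010000010000010000010000010000010000010000010000010000010000010000010000010000010000010000010000010000010000010000010000010000010000010000010000010000010000010000010000010000010000010000010000010000010000010000010000010000010000010000010000010000010000010000010000010000010000010000010000010000010000010000010000010000010000010000010000010000010000010000010000010000010000010000010000010000010000010000010000010000010000010000010000010000010000010000010000010000010000010000010000010000010000010000010000010000010000010000010000010000010000010000010000010000010000010000010000010000010000010000010000010000010000010000010000010000010000010000010000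010000010000010000010000010000010000010000010000010000010000010000010000010000010000010000010000010000010000010000010000010000010000010000010000010000010000010000010000010000010000010000010000010000010000010000010000010000010000010000010000010000010000010000010000010000010000010000010000010000010000010000010000010000010000010000010000010000010000010000010000010000010000010000010000010000010000010000010000010000010000010000010000010000010000010000010000010000010000010000010000010000010000010000010000010000010000010000010000010000010000010000010000010000010000010000010000010000010000010000010000010000010000010000010000010000010000010000010000010000010000010000010000010000010000010000010000010000010000010000010000010000010000010000010000010000010000010000010000010000010000010000010000010000010000010000010000010000010000010000010000010000010000010000010000010000010000010000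010000010000010000010000010000010000010000010000010000010000010000010000010000010000010000010000010000010000010000010000010000010000010000010000010000010000010000010000010000010000010000010000010000010000010000010000010000010000010000010000010000010000010000010000010000010000010000010000010000010000010000010000010000010000010000010000010000010000010000010000010000010000010000010000010000010000010000010000010000010000010000010000010000010000010000010000010000010000010000010000010000010000010000010000010000010000010000010000010000010000010000010000010000010000010000010000010000010000010000010000010000010000010000010000010000010000010000010000010000010000010000010000010000010000010000010000010000010000010000010000010000010000010000010000010000010000010000010000010000010000010000010000010000010000010000010000010000010000010000010000010000010000010000010000010000010000010000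010000010000010000010000010000010000010000010000010000010000010000010000010000010000010000010000010000010000010000010000010000010000010000010000010000010000010000010000010000010000010000010000010000010000010000010000010000010000010000010000010000010000010000010000010000010000010000010000010000010000010000010000010000010000010000010000010000010000010000010000010000010000010000010000010000010000010000010000010000010000010000010000010000010000010000010000010000010000010000010000010000010000010000010000010000010000010000010000010000010000010000010000010000010000010000010000010000010000010000010000010000010000010000010000010000010000010000010000010000010000010000010000010000010000010000010000010000010000010000010000010000010000010000010000010000010000010000010000010000010000010000010000010000010000010000010000010000010000010000010000010000010000010000010000010000010000010000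010000010000010000010000010000010000010000010000010000010000010000010000010000010000010000010000010000010000010000010000010000010000010000010000010000010000010000010000010000010000010000010000010000010000010000010000010000010000010000010000010000010000010000010000010000010000010000010000010000010000010000010000010000010000010000010000010000010000010000010000010000010000010000010000010000010000010000010000010000010000010000010000010000010000010000010000010000010000010000010000010000010000010000010000010000010000010000010000010000010000010000010000010000010000010000010000010000010000010000010000010000010000010000010000010000010000010000010000010000010000010000010000010000010000010000010000010000010000010000010000010000010000010000010000010000010000010000010000010000010000010000010000010000010000010000010000010000010000010000010000010000010000010000010000010000010000010000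010000010000010000010000010000010000010000010000010000010000010000010000010000010000010000010000010000010000010000010000010000010000010000010000010000010000010000010000010000010000010000010000010000010000010000010000010000010000010000010000010000010000010000010000010000010000010000010000010000010000010000010000010000010000010000010000010000010000010000010000010000010000010000010000010000010000010000010000010000010000010000010000010000010000010000010000010000010000010000010000010000010000010000010000010000010000010000010000010000010000010000010000010000010000010000010000010000010000010000010000010000010000010000010000010000010000010000010000010000010000010000010000010000010000010000010000010000010000010000010000010000010000010000010000010000010000010000010000010000010000010000010000010000010000010000010000010000010000010000010000010000010000010000010000010000010000010000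010000010000010000010000010000010000010000010000010000010000010000010000010000010000010000010000010000010000010000010000010000010000010000010000010000010000010000010000010000010000010000010000010000010000010000010000010000010000010000010000010000010000010000010000010000010000010000010000010000010000010000010000010000010000010000010000010000010000010000010000010000010000010000010000010000010000010000010000010000010000010000010000010000010000010000010000010000010000010000010000010000010000010000010000010000010000010000010000010000010000010000010000010000010000010000010000010000010000010000010000010000010000010000010000010000010000010000010000010000010000010000010000010000010000010000010000010000010000010000010000010000010000010000010000010000010000010000010000010000010000010000010000010000010000010000010000010000010000010000010000010000010000010000010000010000010000010000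01000001000001000001000001000001000001000001000001000001000001000001000001000001000001000001000001000001000001000001000001000001000001000001000001000001000001000001000001000001000001000001000001000001000001000001000001000001000001000001000001000001000001000001000001000001000001000001000001000001000001000001000001000001000001000001000001000001000001000001000001000001000001000001000001000001000001000001000001000001000001000001000001000001000001000001000001000001000001000001000001000001000001000001000001000001000001000001000001000001000001000001000001000001000001000001000001000001000001000001000001000001000001000001000001000001000001000001000001000001000001000001000001000001000001000001000001000001000001000001000001000001000001000001000001000001000001000001000001000001000001000001000001000001000001000001000001000001000001000001000001000001000001000001000001000001000001000001000001000001000001000001000001000001000001000001000001000001000001000001000001000001000001000001000001000001000001000001000001000001000001000001000001000001000001000001000001000001000001000001000001000001000001000001000001000001000001000001000001000001000001000001000001000001000001000001000001000001000001000001000001000001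

theorem mL_eq : filtB (fun j => Nat.beq (Nat.mod j 2) 0 && xB (Nat.div j 2)) 13 0 (ones 12 13) = mL := by decide +kernel

theorem filt_spec {A : ℕ} (h : Vm 8192 A) (test : ℕ → Bool) (b : ℕ) :
    (filtB test 13 0 A).testBit b = (A.testBit b && test (b / 12)) := by
  have h1 := testBit_filtB test 13 0 A (fun c hc => by obtain ⟨i, -, rfl⟩ := h c hc; exact Dvd.intro _ rfl) (by
    by_contra hc
    obtain ⟨b, hb, hb'⟩ := Nat.exists_ge_and_testBit_of_ge_two_pow (Nat.le_of_not_lt hc)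
    obtain ⟨i, hi, rfl⟩ := h b hb'
    omega) b
  rwa [Nat.zero_add] at h1

theorem vm_ones : Vm 8192 (ones 12 13) := fun b hb => by
  rw [testBit_ones (by norm_num), decide_eq_true_eq] at hb
  obtain ⟨⟨i, rfl⟩, h⟩ := hb
  exact ⟨i, by omega, rfl⟩

theorem vm_mL : Vm 8192 mL := fun b hb => by
  rw [← mL_eq, filt_spec vm_ones, Bool.and_eq_true] at hb
  exact vm_ones b hb.1

theorem mL_iff {i : ℕ} : mL.testBit (12 * i) = true ↔ ∃ l : Lane U, Cd.isX l ∧ i = 2 * l.1 := by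
  rw [← mL_eq, filt_spec vm_ones, Bool.and_eq_true, Bool.and_eq_true, xB_iff, testBit_ones (by norm_num),
    decide_eq_true_eq, Nat.beq_eq, Nat.mul_div_cancel_left _ (by norm_num)]
  change _ ∧ i % 2 = 0 ∧ (∃ l : Lane U, l.1 = i / 2 ∧ _) ↔ _
  constructor
  · rintro ⟨-, h1, l, h2, h3⟩
    exact ⟨l, h3, by omega⟩
  · rintro ⟨l, h1, rfl⟩
    have := (isX_iff.1 h1).1
    exact ⟨⟨Dvd.intro _ rfl, by omega⟩, by omega, l, by omega, h1⟩

attribute [irreducible] mL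

open Classical in
theorem sum_X {A : Type} [AddCommMonoid A] (F : ℕ → A) :
    (∑ l : Lane U, if Cd.isX l then F l.1 else 0) = ∑ i ∈ range 8192, if mL.testBit (12 * i) = true then F (i / 2) else 0 := by
  rw [← sum_filter, ← sum_filter]
  refine sum_bij (fun l _ => 2 * l.1) (fun l hl => ?_) (fun a _ c _ h => Subtype.ext (by omega)) (fun i hi => ?_)
    fun l _ => by rw [Nat.mul_div_cancel_left _ (by norm_num)]
  · have h1 := (mem_filter.1 hl).2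
    have := (isX_iff.1 h1).1
    exact mem_filter.2 ⟨mem_range.2 (by omega), mL_iff.2 ⟨l, h1, rfl⟩⟩
  · obtain ⟨l, h1, h2⟩ := mL_iff.1 (mem_filter.1 hi).2
    exact ⟨l, mem_filter.2 ⟨mem_univ _, h1⟩, h2.symm⟩

theorem un_mL : Un mL := by
  classical
  refine ⟨vm_mL, lt_of_le_of_lt ?_ (lt_of_le_of_lt LinkX.card_X (by norm_num))⟩
  rw [Nat.card_eq_fintype_card, Fintype.card_subtype, card_filter, sum_X (fun _ => (1 : ℕ))]
  exact le_of_eq (sum_congr rfl fun i _ => by simp)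

theorem sub_mL : Sub mL mL := fun _ h => h

theorem cn_mL : cn mL 0 = 2300 := by
  rw [← un_mL.mod sub_mL, ← mL_eq, mL_eq]
  unfold mL
  decide +kernel

theorem Sub.vm {A : ℕ} (h : Sub mL A) : Vm 8192 A := fun b hb => vm_mL b (h b hb)

theorem dq16 (l : Lane U) (hl : Cd.isX l) : dq N16 l.1 ≠ 0 := by
  have h1 : filtB (fun j => !Nat.beq (dq N16 (Nat.div j 2)) 0) 13 0 mL = mL := by
    unfold mL
    decide +kernel
  have h2 := mL_iff.2 ⟨l, hl, rfl⟩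
  rw [← h1, filt_spec vm_mL, Bool.and_eq_true, Nat.mul_div_cancel_left _ (by norm_num)] at h2
  have h3 : (!Nat.beq (dq N16 (2 * l.1 / 2)) 0) = true := h2.2
  rw [Nat.mul_div_cancel_left _ (by norm_num)] at h3
  intro h4
  rw [h4] at h3
  exact absurd h3 (by decide)

/-! ### planes -/

/-- the numbers below 22 -/
def R22 : List ℕ := [0, 1, 2, 3, 4, 5, 6, 7, 8, 9, 10, 11, 12, 13, 14, 15, 16, 17, 18, 19, 20, 21]

/-- the unit vectors -/
def I22 : List ℕ := [1, 2, 4, 8, 16, 32, 64, 128, 256, 512, 1024, 2048, 4096, 8192, 16384, 32768, 65536, 131072, 262144, 524288, 1048576, 2097152]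

theorem I22_eq : I22 = idL 22 := by decide +kernel

/-- a plane of the codes -/
noncomputable def pl (b : ℕ) : ℕ := Nat.land (Nat.shiftRight codeT b) mL

/-- the planes of the codes -/
noncomputable def PL0 : List ℕ := R22.map pl

/-- the code at a position -/
noncomputable def cc (i : ℕ) : ℕ := cd (i / 2)

variable {i : ℕ}

theorem bit_lin_PL (hi : mL.testBit (12 * i) = true) (v : ℕ) : bit (linL PL0 v) (12 * i) = dt v (cc i) := by
  rw [bit_linL]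
  refine sum_congr rfl fun b hb => congrArg (bit v b * ·) ?_
  have hb' : b < 22 := mem_range.1 hb
  rw [PL0, show R22 = List.range 22 from rfl, List.getD_eq_getElem _ _ (by simpa using hb'), List.getElem_map,
    List.getElem_range]
  obtain ⟨l, -, rfl⟩ := mL_iff.1 hi
  show bit ((codeT >>> b) &&& mL) _ = bit ((codeT >>> (24 * (2 * l.1 / 2))) &&& (2 ^ 22 - 1)) b
  rw [bit_and, bit_and, (bit_eq_one_iff _ _).2 hi, bit_shiftRight, bit_shiftRight,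
    (bit_eq_one_iff (2 ^ 22 - 1) b).2 (by rw [Nat.testBit_two_pow_sub_one]; exact decide_eq_true hb')]
  congr 2
  omega

/-- a plane of the images -/
noncomputable def pln (PL A : List ℕ) (k : ℕ) : ℕ := linL PL (col A k)

theorem bit_pln (hi : mL.testBit (12 * i) = true) {A : List ℕ} (hA : A.length = 22) (k : ℕ) :
    bit (pln PL0 A k) (12 * i) = bit (linL A (cc i)) k := by
  rw [pln, bit_lin_PL hi, bit_linL, hA]
  exact sum_congr rfl fun b _ => by rw [bit_col, mul_comm]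

/-- `xor` of the values -/
noncomputable def xr (f : ℕ → ℕ) (n : ℕ) : ℕ := Nat.rec 0 (fun k ih => Nat.xor ih (f k)) n

theorem bit_xr (f : ℕ → ℕ) (b : ℕ) : ∀ n, bit (xr f n) b = ∑ k ∈ range n, bit (f k) b
  | 0 => bit_zero _
  | n + 1 => by rw [sum_range_succ, ← bit_xr f b n]; exact bit_xor _ _ _

/-- `or` of the values -/
noncomputable def orr (f : ℕ → ℕ) (n : ℕ) : ℕ := Nat.rec 0 (fun k ih => Nat.lor ih (f k)) n

theorem bit_orr (f : ℕ → ℕ) (b : ℕ) : ∀ n, (orr f n).testBit b = false ↔ ∀ k < n, bit (f k) b = 0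
  | 0 => ⟨fun _ _ h => absurd h (Nat.not_lt_zero _), fun _ => Nat.zero_testBit _⟩
  | n + 1 => by
    show (orr f n ||| f n).testBit b = false ↔ _
    rw [Nat.testBit_or, Bool.or_eq_false_iff, bit_orr f b n, Nat.forall_lt_succ_right]
    unfold bit
    cases (f n).testBit b <;> simp

/-- the mask of the fixed lanes -/
noncomputable def fixM (PL L : List ℕ) : ℕ :=
  mapF (fun x => x) (List.zipWith Nat.xor L I22) fun A => Nat.xor mL (Nat.land mL (orr (pln PL A) 22))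

theorem sub_fixM (PL L : List ℕ) : Sub mL (fixM PL L) := by
  unfold fixM
  rw [mapF_eq]
  exact sub_mL.diff _

theorem fixM_iff {α : Pauli 11 ≃* Pauli 11} {L : List ℕ} (hL : Ind α L) (hl : L.length = 22) :
    (fixM PL0 L).testBit (12 * i) = true ↔ mL.testBit (12 * i) = true ∧ ab (α (P (cc i))) = ab (P (cc i)) := by
  unfold fixM
  rw [mapF_eq, List.map_id']
  show (mL ^^^ (mL &&& _)).testBit _ = true ↔ _
  rw [Nat.testBit_xor, Nat.testBit_and]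
  cases hi : mL.testBit (12 * i)
  · simp
  · rw [hL, ab_iff, Bool.true_and, Bool.true_xor, Bool.not_eq_true', bit_orr, eq_self, true_and]
    refine forall₂_congr fun k _ => ?_
    rw [bit_pln hi (by rw [List.length_zipWith, hl]; rfl), I22_eq, linL_zip _ _ (by rw [hl, idL_length]),
      linL_idL (show cc i < 2 ^ 22 from cd_lt _), bit_xor]
    exact CharTwo.add_eq_zero

/-- the plane of the form of a code and its image -/
noncomputable def spl (PL N : List ℕ) : ℕ :=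
  xr (fun k => Nat.xor (Nat.land (nth PL k) (pln PL N (Nat.add 11 k))) (Nat.land (pln PL N k) (nth PL (Nat.add 11 k)))) 11

theorem fz_sum (x y : ℕ) : fz x y = ∑ k ∈ range 11, (bit x k * bit y (11 + k) + bit y k * bit x (11 + k)) := by
  unfold fz Pauli.form
  rw [dot_eq, dot_eq, ← sum_add_distrib]
  exact sum_congr rfl fun k _ => by rw [bit_and, bit_and, bit_shiftRight, bit_shiftRight]

theorem dt_two_pow {k : ℕ} (hk : k < 22) (c : ℕ) : dt (2 ^ k) c = bit c k := by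
  unfold dt
  rw [sum_eq_single k (fun j _ hj => by rw [bit_two_pow, if_neg (Ne.symm hj), zero_mul])
    (fun h => absurd (mem_range.2 hk) h), bit_two_pow, if_pos rfl, one_mul]

theorem bit_spl (hi : mL.testBit (12 * i) = true) {N : List ℕ} (hN : N.length = 22) :
    bit (spl PL0 N) (12 * i) = bit (fm (cc i) (linL N (cc i))) 0 := by
  rw [bit_fm, spl, bit_xr]
  refine Eq.trans (sum_congr rfl fun k hk => ?_) (fz_sum _ _).symm
  have hk' := mem_range.1 hk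
  show bit ((nth PL0 k &&& pln PL0 N (11 + k)) ^^^ (pln PL0 N k &&& nth PL0 (11 + k))) _ = _
  rw [bit_xor, bit_and, bit_and, bit_pln hi hN, bit_pln hi hN, nth_eq, nth_eq, ← linL_two_pow, ← linL_two_pow,
    bit_lin_PL hi, bit_lin_PL hi, dt_two_pow (by omega), dt_two_pow (by omega)]

/-- the plane of the signs on the vectors `u` -/
noncomputable def tpl (Y : List ℕ) (A : ℕ) : ℕ :=
  mapF (nu Y) R23 fun n => cond (Nat.beq (sm n) 0) 0 (filtB (fun j => !Nat.beq (dq n (Nat.div j 2)) 0) 13 0 A)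

theorem bit_tpl (Y : List ℕ) {A : ℕ} (hA : Sub mL A) (hi : A.testBit (12 * i) = true) :
    bit (tpl Y A) (12 * i) = if dq (R23.map (nu Y)) (i / 2) = 0 then 0 else 1 := by
  unfold tpl
  rw [mapF_eq]
  generalize R23.map (nu Y) = n
  cases h : Nat.beq (sm n) 0
  · rw [cond_false, bit, filt_spec hA.vm, hi, Bool.true_and, Nat.mul_div_cancel_left _ (by norm_num)]
    change (if (!Nat.beq (dq n (i / 2)) 0) = true then 1 else 0) = _
    cases h1 : Nat.beq (dq n (i / 2)) 0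
    · rw [if_neg (Nat.ne_of_beq_eq_false h1)]; rfl
    · rw [if_pos (Nat.eq_of_beq_eq_true h1)]; rfl
  · have h1 := Nat.eq_of_beq_eq_true h
    rw [sm_eq, sum_eq_zero_iff] at h1
    have h2 : ∀ v, sel n v = 0 := fun v => by
      rw [sel_eq]
      exact sum_eq_zero fun k hk => by rw [h1 k hk, mul_zero]
    rw [cond_true, bit_zero, if_pos]
    unfold dq
    rw [force_eq, h2, h2, h2, h2]

theorem sum_sg (A : ℕ) (φ : ℕ → ZMod 2) :
    (∑ i ∈ range 8192, if A.testBit (12 * i) = true then sg ℚ (φ i) else 0) = 2 * (cn A φ : ℚ) - cn A 0 := by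
  unfold cn
  rw [Nat.cast_sum, Nat.cast_sum, mul_sum, ← sum_sub_distrib]
  refine sum_congr rfl fun i _ => ?_
  rcases zmod2_cases (φ i) with h | h <;> rw [h] <;> cases A.testBit (12 * i) <;> simp
  norm_num

variable {α : Pauli 11 ≃* Pauli 11} {B U1 : List ℕ} {e : ℕ}

theorem ph_eq (hi : mL.testBit (12 * i) = true) (hb : Bs α B U1) (he : Sg α B e) {N : List ℕ} (hN : N.length = 22) (S : ℕ) :
    ph ((List.range B.length).map (pln PL0 (N.map (linL U1)))) S B.length e i =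
      bit S (12 * i) + dt e (linL U1 (linL N (cc i))) := by
  unfold ph
  rw [dt_of_lt hb.le he.1]
  refine congrArg _ (sum_congr rfl fun b hb => ?_)
  rw [List.getD_eq_getElem _ _ (by simpa using hb), List.getElem_map, List.getElem_range,
    bit_pln hi (by rw [List.length_map, hN]), linL_map]

/-- **the trace on the `2300`-part** -/
theorem tX_pow {g : C} (hα : Au Cd u g.1 α) (hb : Bs α B U1) (he : Sg α B e) {d : ℕ} {L N Y : List ℕ}
    (hL : Ind (α ^ d) L) (hl : L.length = 22) (hN : IndN α d N) (hn : N.length = 22) (hY : HY (toCo0 (pr2 (g ^ d))) Y) :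
    tp Cd.isX (g ^ d).1 = 2 * (cn (fixM PL0 L) (ph ((List.range B.length).map (pln PL0 (N.map (linL U1))))
      (spl PL0 N ^^^ tpl Y (fixM PL0 L)) B.length e) : ℚ) - cn (fixM PL0 L) 0 := by
  classical
  rw [tX_eq hC (g := (g ^ d).1) (hα.pow d) (fun l => if dq (R23.map (nu Y)) l.1 = 0 then 0 else 1)
    fun l hl t ht => tau_spec hY l (dq16 l hl) t ht, ← sum_sg]
  simp only [ite_and]
  refine (sum_X fun j => if ab ((α ^ d) (P (cd j))) = ab (P (cd j)) then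
    sg ℚ (sv (α ^ d) (P (cd j)) + if dq (R23.map (nu Y)) j = 0 then 0 else 1) else 0).trans (sum_congr rfl fun i _ => ?_)
  by_cases h : (fixM PL0 L).testBit (12 * i) = true
  · obtain ⟨h1, h2⟩ := (fixM_iff hL hl).1 h
    refine ((if_pos h1).trans (if_pos h2)).trans (Eq.trans (congrArg (sg ℚ) ?_) (if_pos h).symm)
    rw [ph_eq h1 hb he hn, bit_xor, bit_spl h1 hn, bit_tpl Y (sub_fixM _ _) h, add_right_comm,
      add_comm (bit _ 0)]
    exact congrArg (· + _) (hb.sn_pow he hN h2).sv_eq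
  · refine Eq.trans ?_ (if_neg h).symm
    by_cases h1 : mL.testBit (12 * i) = true
    · exact (if_pos h1).trans (if_neg fun h2 => h ((fixM_iff hL hl).2 ⟨h1, h2⟩))
    · exact if_neg h1

/-! ### elements of `Q` -/

theorem sn_conj (y x : Pauli 11) : Sn (MulAut.conj y) x (Pauli.form y x) := by
  unfold Sn
  rw [MulAut.conj_apply, Pauli.conj_eq, ze_mul, add_comm]

theorem tX_R (y : Pauli 11) : tp Cd.isX (Cd.R y) = 2 * (cn mL fun i => Pauli.form y (P (cc i)) : ℚ) - 2300 := by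
  classical
  rw [tX_eq hC (au_R hC.good y) (fun _ => 0) fun l hl t ht => ?_]
  · have h1 := sum_sg mL fun i => Pauli.form y (P (cc i))
    rw [cn_mL] at h1
    refine Eq.trans ?_ ((sum_X fun j => sg ℚ (Pauli.form y (P (cd j)))).trans h1)
    refine sum_congr rfl fun l _ => ?_
    rw [(sn_conj y _).sv_eq, add_zero]
    exact if_congr (and_iff_left (ab_conj _ _)) rfl rfl
  · rw [QData.Good.R_fix y (u_supp l)] at ht
    rcases zmod2_cases t with rfl | rfl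
    · rfl
    · rw [sg_one, neg_smul, one_smul, self_eq_neg] at ht
      exact absurd ht (hC.good.u_ne l hl)

theorem tU_R (y : Pauli 11) : tp Cd.isU (Cd.R y) = 23 := by
  unfold tp
  rw [sum_U, sum_congr rfl (g := fun _ => (1 : ℚ)) fun k _ => by
    rw [dg, Cd.R_isU y _ (isU_iff.2 (by have := k.2; exact ⟨Nat.le_add_right _ _, by show 1344 + k.1 ≤ 1366; omega⟩)),
      Pi.single_eq_same]]
  simp

theorem tT_R (y : Pauli 11) : tp Cd.isq (Cd.R y) = H155.TC.Pau.tr (Monster.PauliRep.rho ℚ y) := by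
  rw [← sp_R hC, tr_sp]

theorem cn_zero (A : ℕ) {φ : ℕ → ZMod 2} (h : ∀ i, φ i = 0) : cn A φ = cn A 0 := by rw [show φ = 0 from funext h]

theorem tX_z : tp Cd.isX (Cd.R (Pauli.z 11)) = 2300 := by
  rw [tX_R, cn_zero _ fun i => QAct.form_z_left _, cn_mL]
  norm_num

theorem tT_z : tp Cd.isq (Cd.R (Pauli.z 11)) = -2048 := by
  rw [tT_R, C2B.tr_rho_z]
  norm_num

end Cfsg.Agent.TAB.B.C2

private theorem dce_3a86b8a4bed6 : _root_.True := by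
  try have : _root_.True := by simp only [_root_.Cfsg.Agent.TAB.B.C2.spl.eq_1]
  try have : _root_.True := by simp only [_root_.Cfsg.Agent.TAB.B.C2.pln.eq_1]
  try have : _root_.True := by simp only [_root_.Cfsg.Agent.TAB.B.C2.PL0.eq_1]
  exact _root_.True.intro
end

-- part: TAB/B/C2/Ext
section
set_option linter.all false
open scoped Cfsg.Agent.FastGrp

/-!
# The action on the two small classes of `Q` (helper48)

`cS S g s` : the number of the elements `y` of `S` with `g y g⁻¹ = z ^ s y`.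
-/

set_option autoImplicit false

namespace Cfsg.Agent.TAB.B.C2

open Cfsg.Agent.H633.Ore (linL linL_cons linL_nil linL_map linL_idL force force_eq idL)
open Cfsg.Agent.Monster.PauliBasic Cfsg.Agent.Monster.PauliClif
open Cfsg.Agent.Monster.PauliBits (bit bit_xor bit_and bit_shiftRight bit_zero bit_eq_zero_of_lt bit_eq_one_iff)
open Cfsg.Agent.Monster.VecSpace (Lane)
open Cfsg.Agent.BabyM Cfsg.Agent.BabyM.Conc Cfsg.Agent.BabyM.KTab
open Finset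

theorem card_two {n : ℕ} (s : Finset ℕ) (φ : ℕ → Pauli n) (T : Pauli n → Prop) [DecidablePred T] (hT : ∀ x y, ab x = ab y → T x → T y)
    (h1 : ∀ a ∈ s, ∀ b ∈ s, ab (φ a) = ab (φ b) → a = b) (h2 : ∀ y, T y → ∃ a ∈ s, ab (φ a) = ab y) :
    Nat.card {y // T y} = 2 * ∑ a ∈ s, if T (φ a) then 1 else 0 := by
  rw [← card_filter, ← Nat.card_eq_finsetCard, ← Nat.card_zmod 2, ← Nat.card_prod]
  symm
  refine Nat.card_eq_of_bijective (fun p => ⟨ze p.1 * φ p.2, hT _ _ (ab_ze _ _).symm (mem_filter.1 p.2.2).2⟩) ⟨?_, ?_⟩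
  · rintro ⟨t, a, ha⟩ ⟨t', b, hb⟩ h
    have h3 : ze t * φ a = ze t' * φ b := congrArg Subtype.val h
    have h4 : a = b := h1 a (mem_filter.1 ha).1 b (mem_filter.1 hb).1 (by rw [← ab_ze t, h3, ab_ze])
    subst h4
    have h5 : t = t' := congrArg Pauli.s (mul_right_cancel h3)
    rw [h5]
  · rintro ⟨y, hy⟩
    obtain ⟨a, ha, h⟩ := h2 y hy
    exact ⟨(_, ⟨a, mem_filter.2 ⟨ha, hT _ _ h.symm hy⟩⟩), Subtype.ext (eq_ze h.symm).symm⟩

/-- the 4600 elements over the lanes -/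
def XA (y : Pauli 11) : Prop := ∃ l, Cd.isX l ∧ ab y = ab (Cd.c l)

/-- the 93150 elements with trace 275 other than `z` -/
def XB (y : Pauli 11) : Prop := tp Cd.isX (Cd.R y) = 252

/-- the number of `y` in `S` with `g y g⁻¹ = z ^ s y` -/
noncomputable def cS (S : Pauli 11 → Prop) (g : V ≃ₗ[ℚ] V) (s : ZMod 2) : ℕ :=
  Nat.card {y // S y ∧ g * Cd.R y = Cd.R (ze s * y) * g}

variable {g k : V ≃ₗ[ℚ] V} {α β : MulAut (Pauli 11)} {S : Pauli 11 → Prop}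

theorem cS_eq (h : Au Cd u g α) (s : ZMod 2) : cS S g s = Nat.card {y // S y ∧ Sn α y s} := by
  refine Nat.card_congr (Equiv.subtypeEquivRight fun y => and_congr_right fun _ => ?_)
  rw [h.1, mul_left_inj]
  exact Cd.R_injective.eq_iff

theorem Au.inv (h : Au Cd u g α) : Au Cd u g⁻¹ α⁻¹ := by
  refine ⟨fun x => ?_, KFact.xfact_inv KGood.c_inj h.2⟩
  have h3 := h.1 (α⁻¹ x)
  rw [MulAut.apply_inv_self] at h3
  rw [inv_mul_eq_iff_eq_mul, ← mul_assoc, h3, mul_inv_cancel_right]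

theorem cS_inv (hg : g ∈ C) (s : ZMod 2) : cS S g⁻¹ s = cS S g s := by
  obtain ⟨α, hα⟩ := hC.fact g hg
  rw [cS_eq (Au.inv hα), cS_eq hα]
  refine Nat.card_congr (Equiv.subtypeEquivRight fun y => and_congr_right fun _ => ?_)
  unfold Sn
  rw [MulAut.inv_def, MulEquiv.symm_apply_eq, map_mul, aut_ze, eq_comm, ← eq_inv_mul_iff_mul_eq,
    show (ze s : Pauli 11)⁻¹ = ze s from inv_eq_of_mul_eq_one_right (by rw [ze_ze, zmod2_add_self]; rfl)]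

/-- `S` is invariant -/
def Inva (S : Pauli 11 → Prop) : Prop := ∀ k ∈ C, ∀ β, Au Cd u k β → ∀ y, S y → S (β y)

theorem cS_conj (hS : Inva S) (hg : g ∈ C) (hk : k ∈ C) (s : ZMod 2) : cS S (k * g * k⁻¹) s = cS S g s := by
  obtain ⟨α, hα⟩ := hC.fact g hg
  obtain ⟨β, hβ⟩ := hC.fact k hk
  rw [cS_eq ((Au.mul hβ hα).mul (Au.inv hβ)), cS_eq hα]
  symm
  refine Nat.card_congr (Equiv.subtypeEquiv β.toEquiv fun y => and_congr ⟨hS k hk β hβ y, fun h => ?_⟩ ?_)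
  · have h1 := hS _ (C.inv_mem hk) _ (Au.inv hβ) _ h
    rwa [show β⁻¹ (β.toEquiv y) = y from β.symm_apply_apply y] at h1
  · show α y = ze s * y ↔ β (α (β⁻¹ (β y))) = ze s * β y
    rw [MulAut.inv_apply_self, ← aut_ze β s, ← map_mul, β.apply_eq_iff_eq, aut_ze]

theorem inva_XA : Inva XA := by
  rintro k - β hβ y ⟨l, hl, h⟩
  obtain ⟨j, hj, s, -, h1, -⟩ := hβ.2 l hl
  exact ⟨j, hj, by rw [ab_aut β h, h1]; exact ab_ze s _⟩

theorem inva_XB : Inva XB := by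
  intro k hk β hβ y h
  unfold XB at h ⊢
  rw [← h, ← tX_conj hC hk (Cd.R y), hβ.1, mul_inv_cancel_right]

theorem cn_add_one (A : ℕ) (φ : ℕ → ZMod 2) : cn A φ + cn A (fun i => φ i + 1) = cn A 0 := by
  unfold cn
  rw [← sum_add_distrib]
  refine sum_congr rfl fun i _ => ?_
  rcases zmod2_cases (φ i) with h | h <;> cases A.testBit (12 * i) <;> simp [h, zmod2_add_self]

variable {B U1 L : List ℕ} {e : ℕ}

theorem cS_XA (hα : Au Cd u g α) (hb : Bs α B U1) (he : Sg α B e) (hL : Ind α L) (hl : L.length = 22) (s : ZMod 2) :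
    cS XA g s = 2 * cn (fixM PL0 L) fun i => ph ((List.range B.length).map (pln PL0 (I22.map (linL U1)))) 0 B.length e i + s := by
  classical
  rw [cS_eq hα, card_two ((range 8192).filter fun i => mL.testBit (12 * i) = true) (fun i => P (cc i)) _
    (fun x y h h' => ⟨h'.1.imp fun l hl => ⟨hl.1, h.symm.trans hl.2⟩, h'.2.congr h.symm⟩) (fun a ha c hc h => ?_)
    fun y hy => ?_, sum_filter]
  · refine congrArg (2 * ·) (sum_congr rfl fun i _ => ?_)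
    by_cases h1 : mL.testBit (12 * i) = true
    · refine (if_pos h1).trans (ite_congr (propext ?_) (fun _ => rfl) fun _ => rfl)
      beta_reduce
      rw [fixM_iff hL hl, ph_eq h1 hb he (N := I22) rfl, bit_zero, zero_add, I22_eq, linL_idL (show cc i < 2 ^ 22 from cd_lt _)]
      constructor
      · rintro ⟨-, h2⟩
        exact ⟨⟨h1, h2.fix⟩, by rw [← (hb.sn_fix he h2.fix).sv_eq, h2.sv_eq, zmod2_add_self]⟩
      · rintro ⟨⟨-, h2⟩, h3⟩
        obtain ⟨l, h4, rfl⟩ := mL_iff.1 h1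
        refine ⟨⟨l, h4, by rw [cc, Nat.mul_div_cancel_left _ (by norm_num)]; rfl⟩, ?_⟩
        rw [← CharTwo.add_eq_zero.1 h3]
        exact hb.sn_fix he h2
    · exact (if_neg h1).trans (if_neg fun h => h1 (sub_fixM _ _ _ h.1)).symm
  · obtain ⟨l, h1, rfl⟩ := mL_iff.1 (mem_filter.1 ha).2
    obtain ⟨l', h2, rfl⟩ := mL_iff.1 (mem_filter.1 hc).2
    rw [cc, cc, Nat.mul_div_cancel_left _ (by norm_num), Nat.mul_div_cancel_left _ (by norm_num)] at h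
    rw [KGood.c_inj l l' h1 h2 h]
  · obtain ⟨l, h1, h2⟩ := hy.1
    have := (isX_iff.1 h1).1
    refine ⟨2 * l.1, mem_filter.2 ⟨mem_range.2 (by omega), mL_iff.2 ⟨l, h1, rfl⟩⟩, ?_⟩
    rw [cc, Nat.mul_div_cancel_left _ (by norm_num), h2]
    rfl

/-- exchange of the two halves -/
noncomputable def sw (x : ℕ) : ℕ := Nat.add (Nat.mul 2048 (Nat.land x 2047)) (Nat.land (Nat.shiftRight x 11) 2047)

theorem bit_sw (x k : ℕ) (hk : k < 11) : bit (sw x) k = bit x (11 + k) ∧ bit (sw x) (11 + k) = bit x k := by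
  have h1 : sw x = 2 ^ 11 * (x % 2 ^ 11) + (x >>> 11) % 2 ^ 11 := by
    rw [← Nat.and_two_pow_sub_one_eq_mod, ← Nat.and_two_pow_sub_one_eq_mod]; rfl
  unfold bit
  rw [h1, Nat.testBit_two_pow_mul_add _ (Nat.mod_lt _ (by norm_num)),
    Nat.testBit_two_pow_mul_add _ (Nat.mod_lt _ (by norm_num)), if_pos hk, if_neg (show ¬ 11 + k < 11 by omega),
    Nat.add_sub_cancel_left, Nat.testBit_mod_two_pow, Nat.testBit_mod_two_pow, Nat.testBit_shiftRight, decide_eq_true hk,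
    Bool.true_and, Bool.true_and]
  exact ⟨rfl, rfl⟩

theorem dt_sw (x c : ℕ) : dt (sw x) c = fz x c := by
  rw [fz_sum, dt, show 22 = 11 + 11 from rfl, sum_range_add, ← sum_add_distrib]
  refine sum_congr rfl fun k hk => ?_
  rw [(bit_sw x k (mem_range.1 hk)).1, (bit_sw x k (mem_range.1 hk)).2]
  ring

theorem fz_comm (x y : ℕ) : fz x y = fz y x := QAct.form_comm _ _

theorem fz_lin (c : ℕ) : ∀ (B : List ℕ) (v : ℕ), fz c (linL B v) = ∑ k ∈ range B.length, bit v k * fz c (B.getD k 0)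
  | [], _ => fz_zero c
  | x :: B, v => by
    rw [linL_cons, fz_xor, fz_lin c B, List.length_cons, sum_range_succ', add_comm]
    refine congrArg₂ (· + ·) (sum_congr rfl fun k _ => by rw [bit_shiftRight, add_comm 1, List.getD_cons_succ]) ?_
    unfold bit
    rw [Nat.testBit_zero, Nat.and_one_is_mod]
    rcases Nat.mod_two_eq_zero_or_one v with h | h <;> rw [h] <;> simp [fz_zero]

/-- the planes of the form with the basis -/
noncomputable def qpl (PL B : List ℕ) : List ℕ := B.map fun x => linL PL (sw x)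

theorem cn_congr {A : ℕ} {φ ψ : ℕ → ZMod 2} (h : ∀ i, A.testBit (12 * i) = true → φ i = ψ i) : cn A φ = cn A ψ :=
  sum_congr rfl fun i _ => if_congr (and_congr_right fun hi => by rw [h i hi]) rfl rfl

theorem tX_lin (B : List ℕ) (v : ℕ) :
    tp Cd.isX (Cd.R (P (linL B v))) = 2 * (cn mL (ph (qpl PL0 B) 0 B.length v) : ℚ) - 2300 := by
  rw [tX_R, cn_congr (ψ := ph (qpl PL0 B) 0 B.length v) fun i hi => ?_]
  show fz _ _ = _
  rw [fz_comm, fz_lin, ph, bit_zero, zero_add]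
  refine sum_congr rfl fun k hk => congrArg (bit v k * ·) ?_
  rw [qpl, List.getD_eq_getElem _ _ (mem_range.1 hk), List.getD_eq_getElem _ _ (by simpa using hk), List.getElem_map,
    bit_lin_PL hi, dt_sw, fz_comm]

theorem XB_ab {x y : Pauli 11} (h : ab x = ab y) (hx : XB x) : XB y := by
  unfold XB at hx ⊢
  rw [tX_R] at hx ⊢
  rw [← hx, cn_congr fun i _ => form_ab h rfl]

theorem XB_lin (B : List ℕ) (v : ℕ) : XB (P (linL B v)) ↔ cn mL (ph (qpl PL0 B) 0 B.length v) = 1276 := by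
  unfold XB
  rw [tX_lin]
  constructor
  · intro h
    have h1 : (cn mL (ph (qpl PL0 B) 0 B.length v) : ℚ) = (1276 : ℕ) := by push_cast; linarith
    exact_mod_cast h1
  · intro h
    rw [h]
    norm_num

/-- the indicator of the second class -/
noncomputable def zB' (B : List ℕ) (v : ℕ) : ℕ := if cn mL (ph (qpl PL0 B) 0 B.length v) = 1276 then 1 else 0

theorem cS_XB (hα : Au Cd u g α) (hb : Bs α B U1) (he : Sg α B e) (s : ZMod 2) :
    cS XB g s = 2 * ∑ v ∈ range (2 ^ B.length), if dk B.length e v = s then zB' B v else 0 := by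
  classical
  rw [cS_eq hα, card_two (range (2 ^ B.length)) (fun v => P (linL B v)) _
    (fun x y h h' => ⟨XB_ab h h'.1, h'.2.congr h.symm⟩) (fun a ha c hc h => ?_) fun y hy => ?_]
  · refine congrArg (2 * ·) (sum_congr rfl fun v _ => ?_)
    have h1 : Sn α (P (linL B v)) (dk B.length e v) := by
      have := hb.sn he v
      rwa [dt_of_lt hb.le he.1] at this
    rw [zB', ← ite_and]
    exact ite_congr (propext ⟨fun h => ⟨h1.sv_eq.symm.trans h.2.sv_eq, (XB_lin B v).1 h.1⟩,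
      fun h => ⟨(XB_lin B v).2 h.2, h.1 ▸ h1⟩⟩) (fun _ => rfl) fun _ => rfl
  · rw [← hb.dual a (mem_range.1 ha), ← hb.dual c (mem_range.1 hc)]
    exact linL_congr hb.lenU.le h
  · obtain ⟨c, -, hc⟩ := exists_code y
    exact ⟨linL U1 c, mem_range.2 (hb.ltU c), by rw [hb.span c (by rw [ab_aut α hc, hy.2.fix, hc]), hc]⟩

theorem ws_add_one (k : ℕ) (z : ℕ → ℕ) (e : ℕ) :
    ws k z e + (∑ v ∈ range (2 ^ k), if dk k e v = 1 then z v else 0) = ws k z 0 := by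
  rw [ws_zero, ws, ← sum_add_distrib]
  refine sum_congr rfl fun v _ => ?_
  rcases zmod2_cases (dk k e v) with h | h <;> simp [h]

end Cfsg.Agent.TAB.B.C2

private theorem dce_5c8f60fcc243 : _root_.True := by
  try have : _root_.True := by simp only [_root_.Cfsg.Agent.TAB.B.C2.dt.eq_1]
  try have : _root_.True := by simp only [_root_.Cfsg.Agent.TAB.B.C2.cc.eq_1]
  try have : _root_.True := by simp only [_root_.Cfsg.Agent.TAB.B.C2.qpl.eq_1]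
  try have : _root_.True := by simp only [_root_.Cfsg.Agent.TAB.B.C2.zB'.eq_1]
  exact _root_.True.intro
end

-- part: TAB/B/C2/Cnt
section
prune_inst 0x10000000000000000000400016c08e00000000288000000002040c800d0200000920b43003120026a08440300008111000200200000000000400411900800882420062a5a104a00006808000610000000000000000000000000000000000000000000
set_option linter.all false
open scoped Cfsg.Agent.FastGrp

/-!
# Counting in a coset of `Q` (helper48)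
-/

set_option autoImplicit false

namespace Cfsg.Agent.TAB.B.C2

open Cfsg
open Cfsg.Agent.H633.Ore (linL)
open Cfsg.Agent.Monster.PauliBasic Cfsg.Agent.Monster.PauliClif Cfsg.Agent.Monster.PauliRep
open Cfsg.Agent.Monster.PauliBits (bit bit_xor bit_and bit_shiftRight bit_zero bit_eq_zero_of_lt bit_eq_one_iff)
open Cfsg.Agent.H155.TC.Pau (tr tr_neg)
open Cfsg.Agent.BabyM Cfsg.Agent.BabyM.Conc Cfsg.Agent.BabyM.KTab
open Finset Matrix

theorem count_abs {Y : Type} [Group Y] [Fintype Y] (z : Y) (ee σ : Y → ℕ) (f : ℕ) (w : ℕ → Y) (h1 : ∀ y, ee y < 2 ^ f)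
    (h2 : ∀ y, ee (z * y) = ee y) (h3 : ∀ y, σ y = 1 ∧ σ (z * y) = 2 ∨ σ y = 2 ∧ σ (z * y) = 1)
    (h4 : ∀ y, ∀ v < 2 ^ f, ee (y * w v) = ee y ^^^ v) (F : ℕ → ℕ → ℕ) :
    2 ^ (f + 1) * ∑ y, F (ee y) (σ y) = Nat.card Y * ∑ e ∈ range (2 ^ f), (F e 1 + F e 2) := by
  have h5 : 2 * ∑ y, F (ee y) (σ y) = ∑ y, (F (ee y) 1 + F (ee y) 2) := by
    rw [two_mul]
    nth_rewrite 2 [← Equiv.sum_comp (Equiv.mulLeft z)]
    rw [← sum_add_distrib]
    refine sum_congr rfl fun y _ => ?_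
    rw [Equiv.coe_mulLeft, h2]
    rcases h3 y with h | h <;> rw [h.1, h.2]
    exact add_comm _ _
  have h6 : ∀ v ∈ range (2 ^ f), ∑ y, (F (ee y) 1 + F (ee y) 2) = ∑ y, (F (ee y ^^^ v) 1 + F (ee y ^^^ v) 2) := by
    intro v hv
    rw [← Equiv.sum_comp (Equiv.mulRight (w v))]
    exact sum_congr rfl fun y _ => by rw [Equiv.coe_mulRight, h4 y v (mem_range.1 hv)]
  have h7 : ∀ y, ∑ v ∈ range (2 ^ f), (F (ee y ^^^ v) 1 + F (ee y ^^^ v) 2) = ∑ e ∈ range (2 ^ f), (F e 1 + F e 2) := fun y =>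
    sum_nbij' (ee y ^^^ ·) (ee y ^^^ ·) (fun v hv => mem_range.2 (Nat.xor_lt_two_pow (h1 y) (mem_range.1 hv)))
      (fun v hv => mem_range.2 (Nat.xor_lt_two_pow (h1 y) (mem_range.1 hv))) (fun v _ => Nat.xor_xor_cancel_left _ _)
      (fun v _ => Nat.xor_xor_cancel_left _ _) fun _ _ => rfl
  have h8 := sum_congr rfl h6
  rw [sum_const, card_range, smul_eq_mul, sum_comm, sum_congr rfl fun y _ => h7 y, sum_const, smul_eq_mul, card_univ,
    ← Nat.card_eq_fintype_card] at h8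
  rw [pow_succ, mul_assoc, h5, h8]

/-- the trace on the `2048`-part -/
noncomputable def tq (g : C) : ℚ := tp Cd.isq g.1

theorem tq_eq (g : C) : tq g = tr (sp hC g) := (tr_sp hC g).symm

theorem sp_rq (y : Pauli 11) : sp hC (rq y) = rho ℚ y := sp_R hC y

theorem tq_z (g : C) (y : Pauli 11) : tq (g * rq (Pauli.z 11 * y)) = -tq (g * rq y) := by
  rw [tq_eq, tq_eq]
  refine tr_neg fun f => ?_
  rw [map_mul (sp hC), map_mul (sp hC), sp_rq, sp_rq, map_mul, LinearEquiv.mul_apply, LinearEquiv.mul_apply, LinearEquiv.mul_apply, rho_z,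
    map_neg]

/-- `σ` is the sign of the trace -/
def Sig (g : C) (σ : ℕ) : Prop := (σ = 1 ∨ σ = 2) ∧ (0 < tq g → σ = 1) ∧ (tq g < 0 → σ = 2)

/-- the signs on a basis -/
noncomputable def sgs (α : MulAut (Pauli 11)) (B : List ℕ) : ℕ := colf (fun b => (sv α (P b)).val) B

theorem bit_val (s : ZMod 2) : bit s.val 0 = s := by revert s; decide

theorem Bs.sg {α : MulAut (Pauli 11)} {B U1 : List ℕ} (h : Bs α B U1) : Sg α B (sgs α B) := by
  refine ⟨colf_lt _ _, fun k hk => ?_⟩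
  rw [sgs, bit_colf _ _ _ hk, bit_val]
  refine sn_sv (h.fix_mem ?_)
  rw [List.getD_eq_getElem _ _ hk]
  exact List.getElem_mem hk

theorem sv_conj (α : MulAut (Pauli 11)) (y x : Pauli 11) : sv (α * MulAut.conj y) x = Pauli.form y x + sv α x := by
  unfold sv
  rw [MulAut.mul_apply, sn_conj y x, map_mul, aut_ze, ze_mul, add_assoc]

theorem exists_dual {α : MulAut (Pauli 11)} {B U1 : List ℕ} (h : Bs α B U1) (v : ℕ) :
    ∃ w : Pauli 11, ∀ k < B.length, Pauli.form w (P (B.getD k 0)) = bit v k := by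
  refine ⟨⟨0, fun i => dt v (U1.getD i 0), fun i => dt v (U1.getD (11 + i) 0)⟩, fun k hk => ?_⟩
  have h1 := h.dual (2 ^ k) (Nat.pow_lt_pow_right (by norm_num) hk)
  rw [linL_two_pow] at h1
  rw [← dt_two_pow (lt_of_lt_of_le hk h.le), ← h1, dt_comm]
  generalize B.getD k 0 = c
  have h2 : dt v (linL U1 c) = ∑ j ∈ range 22, bit c j * dt v (U1.getD j 0) := by
    unfold dt
    simp only [bit_linL, h.lenU, mul_sum]
    rw [sum_comm]
    exact sum_congr rfl fun j _ => sum_congr rfl fun l _ => by ring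
  rw [h2, show 22 = 11 + 11 from rfl, sum_range_add, sum_range, sum_range, add_comm]
  exact congrArg₂ (· + ·) (sum_congr rfl fun i _ => mul_comm _ _) rfl

theorem finite_C : Finite C := GroupInst.finite_C KLink.link

theorem count_coset {γ : Spor.Co2} {B U1 : List ℕ} (hB : ∀ (g : C) α, pr2 g = γ → Au Cd u g.1 α → Bs α B U1)
    (Φ : C → Prop) (F : ℕ → ℕ → ℕ) (hF : ∀ e σ, F e σ ≤ 1)
    (h : ∀ (g : C) α e σ, pr2 g = γ → Au Cd u g.1 α → Sg α B e → Sig g σ → F e σ ≠ 0 → Φ g) :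
    2 ^ (22 - B.length) * ∑ e ∈ range (2 ^ B.length), (F e 1 + F e 2) ≤ Nat.card {g : C // pr2 g = γ ∧ Φ g} := by
  classical
  have := finite_C
  have hfin : Finite (Pauli 11) := Nat.finite_of_card_ne_zero (by rw [Pauli.card]; norm_num)
  have := Fintype.ofFinite (Pauli 11)
  obtain ⟨g, hg⟩ := pr2_surj γ
  obtain ⟨α, hα⟩ := hC.fact _ g.2
  have h1 : ∀ y, pr2 (g * rq y) = γ := fun y => by rw [map_mul, hg, pr2_eq_one.2 ⟨y, rfl⟩, mul_one]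
  have h2 : ∀ y, Au Cd u (g * rq y).1 (α * MulAut.conj y) := fun y => Au.mul hα (au_R hC.good y)
  have hb := hB g α hg hα
  choose w hw using exists_dual hb
  let σ : Pauli 11 → ℕ := fun y => if 0 < tq (g * rq y) then 1 else if tq (g * rq y) < 0 then 2 else y.s.val + 1
  have h3 : ∀ y, σ y = 1 ∧ σ (Pauli.z 11 * y) = 2 ∨ σ y = 2 ∧ σ (Pauli.z 11 * y) = 1 := fun y => by
    simp only [σ, tq_z, neg_pos, neg_lt_zero]
    rcases lt_trichotomy 0 (tq (g * rq y)) with h4 | h4 | h4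
    · simp [h4, h4.not_gt]
    · rw [← h4, if_neg (lt_irrefl _), if_neg (lt_irrefl _), if_neg (lt_irrefl _), if_neg (lt_irrefl _), Pauli.z_mul]
      exact (by decide : ∀ s : ZMod 2, s.val + 1 = 1 ∧ (s + 1).val + 1 = 2 ∨ s.val + 1 = 2 ∧ (s + 1).val + 1 = 1) y.s
    · simp [h4, h4.not_gt]
  have h4 : ∀ y k, k < B.length → bit (sgs (α * MulAut.conj y) B) k =
      Pauli.form y (P (B.getD k 0)) + sv α (P (B.getD k 0)) := fun y k hk => by
    rw [sgs, bit_colf _ _ _ hk, bit_val, sv_conj]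
  have h5 := count_abs (Pauli.z 11) (fun y => sgs (α * MulAut.conj y) B) σ B.length w (fun _ => colf_lt _ _)
    (fun y => eq_of_bit (colf_lt _ _) (colf_lt _ _) fun k hk => by
      rw [h4 _ k hk, h4 _ k hk, QAct.form_mul_left, QAct.form_z_left, zero_add]) h3
    (fun y v hv => eq_of_bit (colf_lt _ _) (Nat.xor_lt_two_pow (colf_lt _ _) hv) fun k hk => by
      rw [bit_xor, h4 _ k hk, h4 _ k hk, QAct.form_mul_left, hw v k hk, add_right_comm]) F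
  have h6 : ∑ y, F (sgs (α * MulAut.conj y) B) (σ y) = 2 ^ (22 - B.length) * ∑ e ∈ range (2 ^ B.length), (F e 1 + F e 2) := by
    apply Nat.eq_of_mul_eq_mul_left (Nat.two_pow_pos (B.length + 1))
    rw [h5, Pauli.card, ← mul_assoc, ← pow_add]
    have := hb.le
    rw [show B.length + 1 + (22 - B.length) = 2 * 11 + 1 by omega]
  rw [← h6]
  refine le_trans ?_ (Nat.card_le_card_of_injective (α := {y // Φ (g * rq y)}) (fun y => ⟨g * rq y, h1 y, y.2⟩) ?_)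
  · rw [Nat.card_eq_fintype_card, Fintype.card_subtype, card_filter]
    refine sum_le_sum fun y _ => ?_
    split_ifs with h7
    · exact hF _ _
    · refine Nat.le_zero.2 (by_contra fun h8 => h7 (h _ _ _ _ (h1 y) (h2 y) (hB _ _ (h1 y) (h2 y)).sg ?_ h8))
      refine ⟨(h3 y).imp And.left And.left, fun h9 => if_pos h9, fun h9 => ?_⟩
      exact (if_neg h9.not_gt).trans (if_pos h9)
  · intro a c hac
    have h7 : rq a.1 = rq c.1 := mul_left_cancel (congrArg Subtype.val hac :)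
    exact Subtype.ext (Cd.R_injective (congrArg Subtype.val h7))

theorem exists_sig (g : C) : ∃ σ, Sig g σ := by
  by_cases h : tq g < 0
  · exact ⟨2, Or.inr rfl, fun h1 => absurd h1 h.not_gt, fun _ => rfl⟩
  · exact ⟨1, Or.inl rfl, fun _ => rfl, fun h1 => absurd h1 h⟩

/-! ### rows -/

/-- a row: the order, the flag for `g ^ (o / 2) = z`, the three traces of the powers, the four numbers -/
abbrev Row : Type := ℕ × Bool × List (ℕ × ℤ × ℤ × ℤ) × ℕ × ℕ × ℕ × ℕ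

/-- the three traces of a power -/
def Tr3 (g : C) (q : ℕ × ℤ × ℤ × ℤ) : Prop :=
  tp Cd.isU (g ^ q.1).1 = q.2.1 ∧ tp Cd.isX (g ^ q.1).1 = q.2.2.1 ∧ tq (g ^ q.1) = q.2.2.2

/-- the four numbers -/
def Ex4 (g : C) (x : ℕ × ℕ × ℕ × ℕ) : Prop :=
  cS XA g.1 0 = x.1 ∧ cS XA g.1 1 = x.2.1 ∧ cS XB g.1 0 = x.2.2.1 ∧ cS XB g.1 1 = x.2.2.2

/-- `g` is described by the row -/
def Has (g : C) (r : Row) : Prop :=
  orderOf g = r.1 ∧ (r.2.1 = true → g ^ (r.1 / 2) = rq (Pauli.z 11)) ∧ (∀ q ∈ r.2.2.1, Tr3 g q) ∧ Ex4 g r.2.2.2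

theorem z_comm (k : C) : k * rq (Pauli.z 11) * k⁻¹ = rq (Pauli.z 11) := by
  obtain ⟨α, hα⟩ := hC.fact _ k.2
  have h1 := hα.1 (Pauli.z 11)
  rw [aut_z] at h1
  rw [mul_inv_eq_iff_eq_mul]
  exact Subtype.ext h1

theorem Has.conj {g : C} {r : Row} (h : Has g r) (k : C) : Has (k * g * k⁻¹) r := by
  refine ⟨((MulAut.conj k).orderOf_eq g).trans h.1, fun h1 => by rw [conj_pow, h.2.1 h1, z_comm], fun q hq => ?_, ?_⟩
  · unfold Tr3
    rw [conj_pow]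
    exact ⟨(tU_conj hC k.2 _).trans (h.2.2.1 q hq).1, (tX_conj hC k.2 _).trans (h.2.2.1 q hq).2.1,
      (tq_conj hC k.2 _).trans (h.2.2.1 q hq).2.2⟩
  · obtain ⟨h1, h2, h3, h4⟩ := h.2.2.2
    exact ⟨(cS_conj inva_XA g.2 k.2 _).trans h1, (cS_conj inva_XA g.2 k.2 _).trans h2,
      (cS_conj inva_XB g.2 k.2 _).trans h3, (cS_conj inva_XB g.2 k.2 _).trans h4⟩

theorem Has.inv {g : C} {r : Row} (h : Has g r) : Has g⁻¹ r := by
  refine ⟨(orderOf_inv g).trans h.1, fun h1 => ?_, fun q hq => ?_, ?_⟩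
  · rw [inv_pow, h.2.1 h1, inv_eq_iff_mul_eq_one, ← map_mul, Pauli.z_sq, map_one]
  · unfold Tr3
    rw [inv_pow]
    exact ⟨(tp_inv hC _ (g ^ q.1).2).trans (h.2.2.1 q hq).1, (tp_inv hC _ (g ^ q.1).2).trans (h.2.2.1 q hq).2.1,
      (tp_inv hC _ (g ^ q.1).2).trans (h.2.2.1 q hq).2.2⟩
  · obtain ⟨h1, h2, h3, h4⟩ := h.2.2.2
    exact ⟨(cS_inv g.2 _).trans h1, (cS_inv g.2 _).trans h2, (cS_inv g.2 _).trans h3, (cS_inv g.2 _).trans h4⟩

/-- the total of the selected rows -/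
def tot (sel : Row → Bool) (T : List (Row × ℕ)) : ℕ := (T.map fun t => if sel t.1 = true then t.2 else 0).sum

/-- the table describes the coset over `γ` -/
def ClsOK (γ : Spor.Co2) (T : List (Row × ℕ)) : Prop :=
  (∀ g, pr2 g = γ → ∃ t ∈ T, Has g t.1) ∧
    ∀ sel : Row → Bool, tot sel T ≤ Nat.card {g : C // pr2 g = γ ∧ ∃ r, sel r = true ∧ Has g r}

theorem ne_one_of_tr3 {g : C} {q : ℕ × ℤ × ℤ × ℤ} (h : Tr3 g q) (h1 : q.2.1 + q.2.2.1 + q.2.2.2 ≠ 4371) : g ^ q.1 ≠ 1 := by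
  intro h2
  obtain ⟨h3, h4, h5⟩ := h
  rw [h2] at h3 h4 h5
  have h6 := trace_split Cd (1 : C).1
  rw [h3, h4, show tp Cd.isq (1 : C).1 = _ from h5, show (((1 : C).1 : V ≃ₗ[ℚ] V) : V →ₗ[ℚ] V) = LinearMap.id from rfl,
    LinearMap.trace_id, Module.finrank_fintype_fun_eq_card, card_lane] at h6
  exact h1 (by exact_mod_cast h6.symm)

/-- all proper divisors of the order occur, with a trace other than the dimension -/
def okRow (r : Row) : Bool :=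
  Nat.blt 0 r.1 && (List.range (r.1 + 1)).all fun p => decide (p < 2) || decide (r.1 % p ≠ 0) ||
    r.2.2.1.any fun q => decide (q.1 = r.1 / p) && decide (q.2.1 + q.2.2.1 + q.2.2.2 ≠ 4371)

theorem orderOf_row {g : C} {r : Row} (h : okRow r = true) (h1 : g ^ r.1 = 1) (h2 : ∀ q ∈ r.2.2.1, Tr3 g q) :
    orderOf g = r.1 := by
  simp only [okRow, Bool.and_eq_true, Nat.blt_eq, List.all_eq_true, List.mem_range, Bool.or_eq_true, decide_eq_true_eq,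
    List.any_eq_true] at h
  refine orderOf_eq_of_pow_and_pow_div_prime h.1 h1 fun p hp hd => ?_
  rcases h.2 p (Nat.lt_succ_of_le (Nat.le_of_dvd h.1 hd)) with (h3 | h3) | ⟨q, h3, h4, h5⟩
  · exact absurd hp.two_le (by omega)
  · exact absurd (Nat.mod_eq_zero_of_dvd hd) h3
  · rw [← h4]
    exact ne_one_of_tr3 (h2 q h3) h5

theorem tq_rq (y : Pauli 11) : (0 < tq (rq y) → y = 1) ∧ (tq (rq y) < 0 → y = Pauli.z 11) := by
  rw [tq_eq, sp_rq]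
  by_cases h : ab y = 0
  · rcases (ab_eq_iff y 1).1 h with h1 | h1
    · rw [h1, map_one, H155.TC.Pau.tr_one]
      exact ⟨fun _ => rfl, fun h2 => absurd h2 (by norm_num)⟩
    · rw [h1, mul_one, C2B.tr_rho_z]
      exact ⟨fun h2 => absurd h2 (by norm_num), fun _ => rfl⟩
  · rw [H155.TC.Pau.tr_rho h]
    exact ⟨fun h2 => absurd h2 (lt_irrefl _), fun h2 => absurd h2 (lt_irrefl _)⟩

theorem tr3_z {g : C} {d : ℕ} (h : g ^ d = rq (Pauli.z 11)) : Tr3 g (d, 23, 2300, -2048) := by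
  unfold Tr3
  rw [h]
  exact ⟨(tU_R _).trans (by norm_num), tX_z.trans (by norm_num), tT_z.trans (by norm_num)⟩

end Cfsg.Agent.TAB.B.C2

private theorem dce_11d392982fc0 : _root_.True := by
  try have : _root_.True := by simp only [_root_.Cfsg.Agent.TAB.B.C2.okRow.eq_1]
  try have : _root_.True := by simp only [_root_.Cfsg.Agent.TAB.B.C2.sgs.eq_1]
  exact _root_.True.intro
end

-- part: TAB/B/C2/Tab
section
prune_inst 0x104031047440000008180080610036c0ae00019200688001614002040dc9af43a0450921b6f0131291febef4787ac048111001f9023800002000be00411b00800caf6ae276b5bf04b90006c0f805790c00000000000000000000000000000004000000000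
set_option linter.all false
private noncomputable def lq2608b51449 {T : Sort _} (f :
    type_of% (@_root_.Prod.mk.{0, 0}) →
    type_of% (@_root_.List.cons.{0}) →
    type_of% (@_root_.List.nil.{0}) →
    type_of% (@_root_.Bool.false) →
    type_of% (@_root_.Bool.true) →
    type_of% (@_root_.List.cons.{0} (List (Prod Cfsg.Agent.TAB.B.C2.Row Nat))) → T) : T :=
  f (@_root_.Prod.mk.{0, 0}) (@_root_.List.cons.{0}) (@_root_.List.nil.{0}) (@_root_.Bool.false) (@_root_.Bool.true) (@_root_.List.cons.{0} (List (Prod Cfsg.Agent.TAB.B.C2.Row Nat)))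

/-!
# The tables of the cosets of `Q` in `C` (helper48)
-/

set_option autoImplicit false

namespace Cfsg.Agent.TAB.B.C2

/-- the coset of the class 0 -/
def T0 : List (Row × ℕ) := (beta% delta% lq2608b51449 fun a b c d e _ =>
 (b (a (a 2<|a d<|a (b (a 1<|a 23<|a (-516) 0)<|c)<|a 1784<|a 2816<|a 51678 41472) 4600)<|
 b (a (a 4<|a e<|a (b (a 2<|a 23<|a 2300 (-2048))<|b (a 1<|a 23<|a (-100) 0)<|c)<|a 2200<|a 2400<|a 46750 46400) 953856)<|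
 b (a (a 2<|a d<|a (b (a 1<|a 23<|a (-4) 0)<|c)<|a 2296<|a 2304<|a 46558 46592) 4098600)<|
 b (a (a 4<|a e<|a (b (a 2<|a 23<|a 2300 (-2048))<|b (a 1<|a 23<|a 28 0)<|c)<|a 2328<|a 2272<|a 46494 46656) 3238400)<|
 b (a (a 2<|a d<|a (b (a 1<|a 23<|a 252 0)<|c)<|a 2552<|a 2048<|a 48094 45056) 93150)<|
 b (a (a 1<|a d<|a c<|a 4600<|a 0<|a 93150 0) 1)<|
 b (a (a 2<|a e<|a (b (a 1<|a 23<|a 2300 (-2048))<|c)<|a 4600<|a 0<|a 93150 0) 1)<|c))

/-- the coset of the class 1 -/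
def T1 : List (Row × ℕ) := (beta% delta% lq2608b51449 fun a b c d e _ =>
 (b (a (a 4<|a d<|a (b (a 2<|a 23<|a 252 0)<|b (a 1<|a (-9)<|a (-4) 0)<|c)<|a 280<|a 288<|a 2206 2240) 3870720)<|
 b (a (a 4<|a d<|a (b (a 2<|a 23<|a 252 0)<|b (a 1<|a (-9)<|a (-12) 0)<|c)<|a 304<|a 264<|a 2222 2224) 2064384)<|
 b (a (a 4<|a d<|a (b (a 2<|a 23<|a 252 0)<|b (a 1<|a (-9)<|a 20 0)<|c)<|a 272<|a 296<|a 2222 2224) 2064384)<|
 b (a (a 4<|a d<|a (b (a 2<|a 23<|a 252 0)<|b (a 1<|a (-9)<|a 60 0)<|c)<|a 216<|a 352<|a 2462 1984) 129024)<|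
 b (a (a 4<|a d<|a (b (a 2<|a 23<|a 252 0)<|b (a 1<|a (-9)<|a (-68) 0)<|c)<|a 344<|a 224<|a 2462 1984) 129024)<|
 b (a (a 2<|a d<|a (b (a 1<|a (-9)<|a 28 0)<|c)<|a 312<|a 256<|a 2398 2048) 34560)<|
 b (a (a 2<|a d<|a (b (a 1<|a (-9)<|a (-44) 0)<|c)<|a 272<|a 296<|a 2286 2160) 32768)<|
 b (a (a 4<|a e<|a (b (a 2<|a 23<|a 2300 (-2048))<|b (a 1<|a (-9)<|a (-12) 0)<|c)<|a 240<|a 328<|a 2286 2160) 32768)<|
 b (a (a 4<|a e<|a (b (a 2<|a 23<|a 2300 (-2048))<|b (a 1<|a (-9)<|a 28 0)<|c)<|a 312<|a 256<|a 2142 2304) 30720)<|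
 b (a (a 2<|a d<|a (b (a 1<|a (-9)<|a 284 0)<|c)<|a 56<|a 512<|a 4446 0) 128)<|
 b (a (a 2<|a d<|a (b (a 1<|a (-9)<|a (-228) 256)<|c)<|a 568<|a 0<|a 4446 0) 64)<|
 b (a (a 2<|a d<|a (b (a 1<|a (-9)<|a (-228) (-256))<|c)<|a 568<|a 0<|a 4446 0) 64)<|c))

/-- the coset of the class 2 -/
def T2 : List (Row × ℕ) := (beta% delta% lq2608b51449 fun a b c d e _ =>
 (b (a (a 8<|a e<|a (b (a 4<|a 23<|a 2300 (-2048))<|b (a 2<|a 23<|a 28 0)<|b (a 1<|a (-1)<|a 0 0)<|c)<|a 52<|a 52<|a 222 224) 2097152)<|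
 b (a (a 4<|a d<|a (b (a 2<|a 23<|a (-4) 0)<|b (a 1<|a (-1)<|a (-4) 0)<|c)<|a 48<|a 56<|a 206 240) 1474560)<|
 b (a (a 4<|a d<|a (b (a 2<|a 23<|a (-4) 0)<|b (a 1<|a (-1)<|a 4 0)<|c)<|a 56<|a 48<|a 222 224) 1474560)<|
 b (a (a 8<|a e<|a (b (a 4<|a 23<|a 2300 (-2048))<|b (a 2<|a 23<|a 28 0)<|b (a 1<|a (-1)<|a 8 0)<|c)<|a 44<|a 60<|a 222 224) 1048576)<|
 b (a (a 8<|a e<|a (b (a 4<|a 23<|a 2300 (-2048))<|b (a 2<|a 23<|a 28 0)<|b (a 1<|a (-1)<|a (-8) 0)<|c)<|a 60<|a 44<|a 222 224) 1048576)<|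
 b (a (a 4<|a d<|a (b (a 2<|a 23<|a 252 0)<|b (a 1<|a (-1)<|a 12 0)<|c)<|a 64<|a 40<|a 238 208) 368640)<|
 b (a (a 4<|a d<|a (b (a 2<|a 23<|a 252 0)<|b (a 1<|a (-1)<|a (-12) 0)<|c)<|a 40<|a 64<|a 254 192) 368640)<|
 b (a (a 4<|a d<|a (b (a 2<|a 23<|a 252 0)<|b (a 1<|a (-1)<|a 12 0)<|c)<|a 32<|a 72<|a 270 176) 122880)<|
 b (a (a 4<|a d<|a (b (a 2<|a 23<|a 252 0)<|b (a 1<|a (-1)<|a (-12) 0)<|c)<|a 72<|a 32<|a 222 224) 122880)<|
 b (a (a 4<|a d<|a (b (a 2<|a 23<|a 252 0)<|b (a 1<|a (-1)<|a (-20) 0)<|c)<|a 64<|a 40<|a 270 176) 122880)<|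
 b (a (a 4<|a d<|a (b (a 2<|a 23<|a 252 0)<|b (a 1<|a (-1)<|a 20 0)<|c)<|a 40<|a 64<|a 222 224) 122880)<|
 b (a (a 4<|a d<|a (b (a 2<|a 23<|a 252 0)<|b (a 1<|a (-1)<|a (-20) 0)<|c)<|a 32<|a 72<|a 302 144) 4096)<|
 b (a (a 2<|a d<|a (b (a 1<|a (-1)<|a 20 0)<|c)<|a 72<|a 32<|a 446 0) 4096)<|
 b (a (a 4<|a d<|a (b (a 2<|a 23<|a 252 0)<|b (a 1<|a (-1)<|a 52 0)<|c)<|a 40<|a 64<|a 446 0) 2048)<|
 b (a (a 4<|a e<|a (b (a 2<|a 23<|a 2300 (-2048))<|b (a 1<|a (-1)<|a 12 0)<|c)<|a 0<|a 104<|a 302 144) 2048)<|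
 b (a (a 2<|a d<|a (b (a 1<|a (-1)<|a (-52) 0)<|c)<|a 64<|a 40<|a 302 144) 2048)<|
 b (a (a 4<|a d<|a (b (a 2<|a 23<|a 252 0)<|b (a 1<|a (-1)<|a (-12) 64)<|c)<|a 104<|a 0<|a 446 0) 1024)<|
 b (a (a 4<|a d<|a (b (a 2<|a 23<|a 252 0)<|b (a 1<|a (-1)<|a (-12) (-64))<|c)<|a 104<|a 0<|a 446 0) 1024)<|c))

/-- the coset of the class 3 -/
def T3 : List (Row × ℕ) := (beta% delta% lq2608b51449 fun a b c d e _ =>
 (b (a (a 4<|a d<|a (b (a 2<|a 23<|a 252 0)<|b (a 1<|a 7<|a 4 0)<|c)<|a 144<|a 136<|a 974 976) 3440640)<|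
 b (a (a 4<|a d<|a (b (a 2<|a 23<|a (-4) 0)<|b (a 1<|a 7<|a (-4) 0)<|c)<|a 136<|a 144<|a 958 992) 3440640)<|
 b (a (a 4<|a d<|a (b (a 2<|a 23<|a 252 0)<|b (a 1<|a 7<|a (-28) 0)<|c)<|a 112<|a 168<|a 1038 912) 491520)<|
 b (a (a 4<|a d<|a (b (a 2<|a 23<|a (-4) 0)<|b (a 1<|a 7<|a 28 0)<|c)<|a 168<|a 112<|a 1022 928) 491520)<|
 b (a (a 4<|a d<|a (b (a 2<|a 23<|a 252 0)<|b (a 1<|a 7<|a 12 0)<|c)<|a 152<|a 128<|a 926 1024) 215040)<|
 b (a (a 4<|a d<|a (b (a 2<|a 23<|a 252 0)<|b (a 1<|a 7<|a (-20) 0)<|c)<|a 120<|a 160<|a 990 960) 215040)<|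
 b (a (a 4<|a d<|a (b (a 2<|a 23<|a 252 0)<|b (a 1<|a 7<|a 44 0)<|c)<|a 184<|a 96<|a 1118 832) 53760)<|
 b (a (a 2<|a d<|a (b (a 1<|a 7<|a 12 0)<|c)<|a 152<|a 128<|a 1182 768) 17920)<|
 b (a (a 4<|a e<|a (b (a 2<|a 23<|a 2300 (-2048))<|b (a 1<|a 7<|a (-20) 0)<|c)<|a 120<|a 160<|a 990 960) 14336)<|
 b (a (a 4<|a d<|a (b (a 2<|a 23<|a 252 0)<|b (a 1<|a 7<|a (-84) 0)<|c)<|a 56<|a 224<|a 1374 576) 7680)<|
 b (a (a 2<|a d<|a (b (a 1<|a 7<|a 140 128)<|c)<|a 280<|a 0<|a 1950 0) 256)<|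
 b (a (a 2<|a d<|a (b (a 1<|a 7<|a 140 (-128))<|c)<|a 280<|a 0<|a 1950 0) 256)<|c))

/-- the coset of the class 4 -/
def T4 : List (Row × ℕ) := (beta% delta% lq2608b51449 fun a b c d e _ =>
 (b (a (a 12<|a e<|a (b (a 6<|a 23<|a 2300 (-2048))<|b (a 4<|a (-4)<|a 5 (-4))<|b (a 3<|a 23<|a 28 0)<|b (a 2<|a (-4)<|a 5 4)<|b (a 1<|a (-4)<|a 1 0)<|c)<|a 6<|a 4<|a 0 0) 5242880)<|
 b (a (a 6<|a d<|a (b (a 3<|a 23<|a (-516) 0)<|b (a 2<|a (-4)<|a 5 (-4))<|b (a 1<|a (-4)<|a (-3) 0)<|c)<|a 2<|a 8<|a 0 0) 2621440)<|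
 b (a (a 6<|a e<|a (b (a 3<|a 23<|a 2300 (-2048))<|b (a 2<|a (-4)<|a 5 (-4))<|b (a 1<|a (-4)<|a 5 4)<|c)<|a 10<|a 0<|a 0 0) 262144)<|
 b (a (a 3<|a d<|a (b (a 1<|a (-4)<|a 5 (-4))<|c)<|a 10<|a 0<|a 0 0) 262144)<|c))

/-- the coset of the class 5 -/
def T5 : List (Row × ℕ) := (beta% delta% lq2608b51449 fun a b c d e _ =>
 (b (a (a 12<|a e<|a (b (a 6<|a 23<|a 2300 (-2048))<|b (a 4<|a 5<|a 41 32)<|b (a 3<|a 23<|a 28 0)<|b (a 2<|a 5<|a 41 (-32))<|b (a 1<|a 5<|a 1 0)<|c)<|a 42<|a 40<|a 126 144) 1966080)<|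
 b (a (a 6<|a d<|a (b (a 3<|a 23<|a (-4) 0)<|b (a 2<|a 5<|a 41 32)<|b (a 1<|a 5<|a (-1) 0)<|c)<|a 40<|a 42<|a 130 140) 1769472)<|
 b (a (a 12<|a e<|a (b (a 6<|a 23<|a 2300 (-2048))<|b (a 4<|a 5<|a 41 32)<|b (a 3<|a 23<|a (-100) 0)<|b (a 2<|a 5<|a 41 (-32))<|b (a 1<|a 5<|a (-1) 0)<|c)<|a 40<|a 42<|a 130 140) 1769472)<|
 b (a (a 6<|a d<|a (b (a 3<|a 23<|a 252 0)<|b (a 2<|a 5<|a 41 32)<|b (a 1<|a 5<|a 9 0)<|c)<|a 50<|a 32<|a 142 128) 1105920)<|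
 b (a (a 6<|a d<|a (b (a 3<|a 23<|a (-4) 0)<|b (a 2<|a 5<|a 41 32)<|b (a 1<|a 5<|a (-7) 0)<|c)<|a 34<|a 48<|a 142 128) 1105920)<|
 b (a (a 12<|a e<|a (b (a 6<|a 23<|a 2300 (-2048))<|b (a 4<|a 5<|a 41 32)<|b (a 3<|a 23<|a 28 0)<|b (a 2<|a 5<|a 41 (-32))<|b (a 1<|a 5<|a (-17) 0)<|c)<|a 24<|a 58<|a 162 108) 327680)<|
 b (a (a 6<|a d<|a (b (a 3<|a 23<|a (-516) 0)<|b (a 2<|a 5<|a 41 32)<|b (a 1<|a 5<|a 15 0)<|c)<|a 56<|a 26<|a 162 108) 327680)<|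
 b (a (a 6<|a d<|a (b (a 3<|a 23<|a (-516) 0)<|b (a 2<|a 5<|a 41 32)<|b (a 1<|a 5<|a (-39) 0)<|c)<|a 2<|a 80<|a 270 0) 8192)<|
 b (a (a 3<|a d<|a (b (a 1<|a 5<|a 41 32)<|c)<|a 82<|a 0<|a 270 0) 4096)<|
 b (a (a 6<|a e<|a (b (a 3<|a 23<|a 2300 (-2048))<|b (a 2<|a 5<|a 41 32)<|b (a 1<|a 5<|a 41 (-32))<|c)<|a 82<|a 0<|a 270 0) 4096)<|c))

/-- the coset of the class 6 -/
def T6 : List (Row × ℕ) := (beta% delta% lq2608b51449 fun a b c d _ _ =>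
 (b (a (a 8<|a d<|a (b (a 4<|a 23<|a 252 0)<|b (a 2<|a 7<|a 44 0)<|b (a 1<|a (-5)<|a 4 0)<|c)<|a 36<|a 44<|a 134 136) 2621440)<|
 b (a (a 8<|a d<|a (b (a 4<|a 23<|a 252 0)<|b (a 2<|a 7<|a 44 0)<|b (a 1<|a (-5)<|a (-4) 0)<|c)<|a 44<|a 36<|a 134 136) 2621440)<|
 b (a (a 8<|a d<|a (b (a 4<|a 23<|a 252 0)<|b (a 2<|a 7<|a 12 0)<|b (a 1<|a (-5)<|a 0 0)<|c)<|a 40<|a 40<|a 126 144) 1966080)<|
 b (a (a 8<|a d<|a (b (a 4<|a 23<|a 252 0)<|b (a 2<|a 7<|a 12 0)<|b (a 1<|a (-5)<|a (-16) 0)<|c)<|a 56<|a 24<|a 158 112) 327680)<|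
 b (a (a 8<|a d<|a (b (a 4<|a 23<|a 252 0)<|b (a 2<|a 7<|a 12 0)<|b (a 1<|a (-5)<|a 16 0)<|c)<|a 24<|a 56<|a 158 112) 327680)<|
 b (a (a 4<|a d<|a (b (a 2<|a 7<|a 140 (-128))<|b (a 1<|a (-5)<|a 8 0)<|c)<|a 32<|a 48<|a 142 128) 122880)<|
 b (a (a 4<|a d<|a (b (a 2<|a 7<|a 140 128)<|b (a 1<|a (-5)<|a (-8) 0)<|c)<|a 48<|a 32<|a 142 128) 122880)<|
 b (a (a 4<|a d<|a (b (a 2<|a 7<|a 140 (-128))<|b (a 1<|a (-5)<|a 0 0)<|c)<|a 40<|a 40<|a 110 160) 98304)<|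
 b (a (a 4<|a d<|a (b (a 2<|a 7<|a 140 128)<|b (a 1<|a (-5)<|a (-16) 0)<|c)<|a 56<|a 24<|a 174 96) 81920)<|
 b (a (a 4<|a d<|a (b (a 2<|a 7<|a 140 128)<|b (a 1<|a (-5)<|a 16 0)<|c)<|a 24<|a 56<|a 174 96) 81920)<|
 b (a (a 4<|a d<|a (b (a 2<|a 7<|a 140 (-128))<|b (a 1<|a (-5)<|a 40 0)<|c)<|a 0<|a 80<|a 270 0) 8192)<|
 b (a (a 4<|a d<|a (b (a 2<|a 7<|a 140 128)<|b (a 1<|a (-5)<|a (-40) 32)<|c)<|a 80<|a 0<|a 270 0) 4096)<|
 b (a (a 4<|a d<|a (b (a 2<|a 7<|a 140 128)<|b (a 1<|a (-5)<|a (-40) (-32))<|c)<|a 80<|a 0<|a 270 0) 4096)<|c))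

/-- the coset of the class 7 -/
def T7 : List (Row × ℕ) := (beta% delta% lq2608b51449 fun a b c d e _ =>
 (b (a (a 8<|a d<|a (b (a 4<|a 23<|a 252 0)<|b (a 2<|a (-9)<|a (-4) 0)<|b (a 1<|a (-1)<|a 0 0)<|c)<|a 4<|a 4<|a 14 16) 6291456)<|
 b (a (a 8<|a e<|a (b (a 4<|a 23<|a 2300 (-2048))<|b (a 2<|a (-9)<|a 28 0)<|b (a 1<|a (-1)<|a 4 0)<|c)<|a 8<|a 0<|a 14 16) 786432)<|
 b (a (a 4<|a d<|a (b (a 2<|a (-9)<|a 28 0)<|b (a 1<|a (-1)<|a (-4) 0)<|c)<|a 0<|a 8<|a 14 16) 786432)<|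
 b (a (a 8<|a e<|a (b (a 4<|a 23<|a 2300 (-2048))<|b (a 2<|a (-9)<|a 28 0)<|b (a 1<|a (-1)<|a (-4) 0)<|c)<|a 0<|a 8<|a 30 0) 262144)<|
 b (a (a 4<|a d<|a (b (a 2<|a (-9)<|a 28 0)<|b (a 1<|a (-1)<|a 4 0)<|c)<|a 8<|a 0<|a 30 0) 196608)<|
 b (a (a 4<|a d<|a (b (a 2<|a (-9)<|a (-228) 256)<|b (a 1<|a (-1)<|a 4 0)<|c)<|a 8<|a 0<|a 30 0) 32768)<|
 b (a (a 4<|a d<|a (b (a 2<|a (-9)<|a 284 0)<|b (a 1<|a (-1)<|a 4 16)<|c)<|a 8<|a 0<|a 30 0) 16384)<|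
 b (a (a 4<|a d<|a (b (a 2<|a (-9)<|a 284 0)<|b (a 1<|a (-1)<|a 4 (-16))<|c)<|a 8<|a 0<|a 30 0) 16384)<|c))

/-- the coset of the class 8 -/
def T8 : List (Row × ℕ) := (beta% delta% lq2608b51449 fun a b c d e _ =>
 (b (a (a 8<|a d<|a (b (a 4<|a 23<|a (-4) 0)<|b (a 2<|a (-1)<|a 4 0)<|b (a 1<|a (-1)<|a 0 0)<|c)<|a 0<|a 0<|a 14 8) 2621440)<|
 b (a (a 8<|a d<|a (b (a 4<|a 23<|a (-4) 0)<|b (a 2<|a (-1)<|a (-4) 0)<|b (a 1<|a (-1)<|a 0 0)<|c)<|a 0<|a 0<|a 10 12) 2621440)<|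
 b (a (a 8<|a d<|a (b (a 4<|a 23<|a 252 0)<|b (a 2<|a (-1)<|a (-12) 0)<|b (a 1<|a (-1)<|a 0 0)<|c)<|a 0<|a 0<|a 6 16) 1310720)<|
 b (a (a 8<|a d<|a (b (a 4<|a 23<|a 252 0)<|b (a 2<|a (-1)<|a 12 0)<|b (a 1<|a (-1)<|a 0 0)<|c)<|a 0<|a 0<|a 10 12) 1310720)<|
 b (a (a 4<|a d<|a (b (a 2<|a (-1)<|a (-52) 0)<|b (a 1<|a (-1)<|a 0 0)<|c)<|a 0<|a 0<|a 10 12) 131072)<|
 b (a (a 8<|a d<|a (b (a 4<|a 23<|a 252 0)<|b (a 2<|a (-1)<|a (-12) 64)<|b (a 1<|a (-1)<|a 0 0)<|c)<|a 0<|a 0<|a 22 0) 131072)<|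
 b (a (a 8<|a e<|a (b (a 4<|a 23<|a 2300 (-2048))<|b (a 2<|a (-1)<|a 12 0)<|b (a 1<|a (-1)<|a 0 0)<|c)<|a 0<|a 0<|a 10 12) 131072)<|
 b (a (a 8<|a d<|a (b (a 4<|a 23<|a 252 0)<|b (a 2<|a (-1)<|a 52 0)<|b (a 1<|a (-1)<|a 0 8)<|c)<|a 0<|a 0<|a 22 0) 65536)<|
 b (a (a 8<|a d<|a (b (a 4<|a 23<|a 252 0)<|b (a 2<|a (-1)<|a 52 0)<|b (a 1<|a (-1)<|a 0 (-8))<|c)<|a 0<|a 0<|a 22 0) 65536)<|c))

/-- the coset of the class 9 -/
def T9 : List (Row × ℕ) := (beta% delta% lq2608b51449 fun a b c d _ _ =>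
 (b (a (a 8<|a d<|a (b (a 4<|a 23<|a (-4) 0)<|b (a 2<|a 7<|a (-4) 0)<|b (a 1<|a (-1)<|a 0 0)<|c)<|a 12<|a 12<|a 38 40) 3145728)<|
 b (a (a 8<|a d<|a (b (a 4<|a 23<|a 252 0)<|b (a 2<|a 7<|a 12 0)<|b (a 1<|a (-1)<|a 4 0)<|c)<|a 8<|a 16<|a 38 40) 786432)<|
 b (a (a 8<|a d<|a (b (a 4<|a 23<|a 252 0)<|b (a 2<|a 7<|a 12 0)<|b (a 1<|a (-1)<|a (-4) 0)<|c)<|a 16<|a 8<|a 38 40) 786432)<|
 b (a (a 8<|a d<|a (b (a 4<|a 23<|a 252 0)<|b (a 2<|a 7<|a (-20) 0)<|b (a 1<|a (-1)<|a 0 0)<|c)<|a 12<|a 12<|a 30 48) 786432)<|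
 b (a (a 8<|a d<|a (b (a 4<|a 23<|a (-4) 0)<|b (a 2<|a 7<|a 28 0)<|b (a 1<|a (-1)<|a 4 0)<|c)<|a 16<|a 8<|a 38 40) 524288)<|
 b (a (a 8<|a d<|a (b (a 4<|a 23<|a (-4) 0)<|b (a 2<|a 7<|a 28 0)<|b (a 1<|a (-1)<|a (-4) 0)<|c)<|a 8<|a 16<|a 38 40) 524288)<|
 b (a (a 8<|a d<|a (b (a 4<|a 23<|a 252 0)<|b (a 2<|a 7<|a 44 0)<|b (a 1<|a (-1)<|a 0 0)<|c)<|a 12<|a 12<|a 46 32) 393216)<|
 b (a (a 8<|a d<|a (b (a 4<|a 23<|a 252 0)<|b (a 2<|a 7<|a 44 0)<|b (a 1<|a (-1)<|a (-8) 0)<|c)<|a 20<|a 4<|a 46 32) 196608)<|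
 b (a (a 8<|a d<|a (b (a 4<|a 23<|a 252 0)<|b (a 2<|a 7<|a 44 0)<|b (a 1<|a (-1)<|a 8 0)<|c)<|a 4<|a 20<|a 46 32) 196608)<|
 b (a (a 4<|a d<|a (b (a 2<|a 7<|a 12 0)<|b (a 1<|a (-1)<|a (-4) 0)<|c)<|a 8<|a 16<|a 30 48) 196608)<|
 b (a (a 4<|a d<|a (b (a 2<|a 7<|a 12 0)<|b (a 1<|a (-1)<|a 4 0)<|c)<|a 16<|a 8<|a 46 32) 196608)<|
 b (a (a 8<|a d<|a (b (a 4<|a 23<|a 252 0)<|b (a 2<|a 7<|a 44 0)<|b (a 1<|a (-1)<|a 8 0)<|c)<|a 12<|a 12<|a 38 40) 131072)<|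
 b (a (a 8<|a d<|a (b (a 4<|a 23<|a 252 0)<|b (a 2<|a 7<|a 44 0)<|b (a 1<|a (-1)<|a 0 0)<|c)<|a 4<|a 20<|a 54 24) 131072)<|
 b (a (a 8<|a d<|a (b (a 4<|a 23<|a 252 0)<|b (a 2<|a 7<|a 44 0)<|b (a 1<|a (-1)<|a (-8) 0)<|c)<|a 12<|a 12<|a 54 24) 131072)<|
 b (a (a 8<|a d<|a (b (a 4<|a 23<|a 252 0)<|b (a 2<|a 7<|a 44 0)<|b (a 1<|a (-1)<|a 0 0)<|c)<|a 20<|a 4<|a 38 40) 131072)<|
 b (a (a 4<|a d<|a (b (a 2<|a 7<|a 140 128)<|b (a 1<|a (-1)<|a (-12) 0)<|c)<|a 16<|a 8<|a 62 16) 32768)<|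
 b (a (a 4<|a d<|a (b (a 2<|a 7<|a 140 (-128))<|b (a 1<|a (-1)<|a 4 0)<|c)<|a 0<|a 24<|a 62 16) 32768)<|
 b (a (a 4<|a d<|a (b (a 2<|a 7<|a 140 128)<|b (a 1<|a (-1)<|a 12 0)<|c)<|a 8<|a 16<|a 78 0) 32768)<|
 b (a (a 4<|a d<|a (b (a 2<|a 7<|a 140 128)<|b (a 1<|a (-1)<|a (-4) 16)<|c)<|a 24<|a 0<|a 78 0) 16384)<|
 b (a (a 4<|a d<|a (b (a 2<|a 7<|a 140 128)<|b (a 1<|a (-1)<|a (-4) (-16))<|c)<|a 24<|a 0<|a 78 0) 16384)<|c))

/-- the coset of the class 10 -/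
def T10 : List (Row × ℕ) := (beta% delta% lq2608b51449 fun a b c d e _ =>
 (b (a (a 8<|a d<|a (b (a 4<|a 23<|a (-4) 0)<|b (a 2<|a 7<|a 28 0)<|b (a 1<|a 3<|a 0 0)<|c)<|a 16<|a 16<|a 38 40) 3145728)<|
 b (a (a 8<|a d<|a (b (a 4<|a 23<|a (-4) 0)<|b (a 2<|a 7<|a (-4) 0)<|b (a 1<|a 3<|a (-4) 0)<|c)<|a 12<|a 20<|a 38 40) 1572864)<|
 b (a (a 8<|a d<|a (b (a 4<|a 23<|a (-4) 0)<|b (a 2<|a 7<|a (-4) 0)<|b (a 1<|a 3<|a 4 0)<|c)<|a 20<|a 12<|a 38 40) 1572864)<|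
 b (a (a 8<|a d<|a (b (a 4<|a 23<|a 252 0)<|b (a 2<|a 7<|a 44 0)<|b (a 1<|a 3<|a (-4) 0)<|c)<|a 12<|a 20<|a 46 32) 393216)<|
 b (a (a 8<|a d<|a (b (a 4<|a 23<|a 252 0)<|b (a 2<|a 7<|a 12 0)<|b (a 1<|a 3<|a 0 0)<|c)<|a 16<|a 16<|a 30 48) 393216)<|
 b (a (a 8<|a d<|a (b (a 4<|a 23<|a 252 0)<|b (a 2<|a 7<|a 12 0)<|b (a 1<|a 3<|a 8 0)<|c)<|a 24<|a 8<|a 46 32) 393216)<|
 b (a (a 8<|a e<|a (b (a 4<|a 23<|a 2300 (-2048))<|b (a 2<|a 7<|a (-20) 0)<|b (a 1<|a 3<|a (-4) 0)<|c)<|a 12<|a 20<|a 30 48) 262144)<|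
 b (a (a 8<|a d<|a (b (a 4<|a 23<|a 252 0)<|b (a 2<|a 7<|a 44 0)<|b (a 1<|a 3<|a 4 0)<|c)<|a 20<|a 12<|a 30 48) 196608)<|
 b (a (a 8<|a d<|a (b (a 4<|a 23<|a 252 0)<|b (a 2<|a 7<|a 44 0)<|b (a 1<|a 3<|a (-12) 0)<|c)<|a 4<|a 28<|a 62 16) 196608)<|
 b (a (a 4<|a d<|a (b (a 2<|a 7<|a 12 0)<|b (a 1<|a 3<|a 0 0)<|c)<|a 16<|a 16<|a 46 32) 98304)<|
 b (a (a 4<|a d<|a (b (a 2<|a 7<|a 140 128)<|b (a 1<|a 3<|a 8 0)<|c)<|a 24<|a 8<|a 62 16) 98304)<|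
 b (a (a 4<|a d<|a (b (a 2<|a 7<|a 140 (-128))<|b (a 1<|a 3<|a (-8) 0)<|c)<|a 8<|a 24<|a 30 48) 32768)<|
 b (a (a 4<|a d<|a (b (a 2<|a 7<|a 12 0)<|b (a 1<|a 3<|a 16 16)<|c)<|a 32<|a 0<|a 78 0) 16384)<|
 b (a (a 4<|a d<|a (b (a 2<|a 7<|a 12 0)<|b (a 1<|a 3<|a 16 (-16))<|c)<|a 32<|a 0<|a 78 0) 16384)<|c))

/-- the coset of the class 11 -/
def T11 : List (Row × ℕ) := (beta% delta% lq2608b51449 fun a b c d _ _ =>
 (b (a (a 8<|a d<|a (b (a 4<|a 23<|a 252 0)<|b (a 2<|a 7<|a 12 0)<|b (a 1<|a 3<|a 0 0)<|c)<|a 32<|a 32<|a 78 96) 2359296)<|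
 b (a (a 8<|a d<|a (b (a 4<|a 23<|a 252 0)<|b (a 2<|a 7<|a 44 0)<|b (a 1<|a 3<|a 4 0)<|c)<|a 28<|a 36<|a 86 88) 1572864)<|
 b (a (a 8<|a d<|a (b (a 4<|a 23<|a 252 0)<|b (a 2<|a 7<|a 44 0)<|b (a 1<|a 3<|a (-4) 0)<|c)<|a 36<|a 28<|a 86 88) 1572864)<|
 b (a (a 8<|a d<|a (b (a 4<|a 23<|a 252 0)<|b (a 2<|a 7<|a 12 0)<|b (a 1<|a 3<|a (-8) 0)<|c)<|a 24<|a 40<|a 94 80) 1179648)<|
 b (a (a 8<|a d<|a (b (a 4<|a 23<|a 252 0)<|b (a 2<|a 7<|a 12 0)<|b (a 1<|a 3<|a 8 0)<|c)<|a 40<|a 24<|a 94 80) 1179648)<|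
 b (a (a 4<|a d<|a (b (a 2<|a 7<|a 140 128)<|b (a 1<|a 3<|a 8 0)<|c)<|a 40<|a 24<|a 110 64) 147456)<|
 b (a (a 4<|a d<|a (b (a 2<|a 7<|a 140 (-128))<|b (a 1<|a 3<|a (-8) 0)<|c)<|a 24<|a 40<|a 78 96) 98304)<|
 b (a (a 4<|a d<|a (b (a 2<|a 7<|a 140 128)<|b (a 1<|a 3<|a (-16) 0)<|c)<|a 32<|a 32<|a 110 64) 73728)<|
 b (a (a 4<|a d<|a (b (a 2<|a 7<|a 140 (-128))<|b (a 1<|a 3<|a 0 0)<|c)<|a 16<|a 48<|a 110 64) 73728)<|
 b (a (a 4<|a d<|a (b (a 2<|a 7<|a 140 128)<|b (a 1<|a 3<|a 16 0)<|c)<|a 32<|a 32<|a 78 96) 49152)<|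
 b (a (a 4<|a d<|a (b (a 2<|a 7<|a 140 (-128))<|b (a 1<|a 3<|a 0 0)<|c)<|a 48<|a 16<|a 78 96) 49152)<|
 b (a (a 4<|a d<|a (b (a 2<|a 7<|a 140 128)<|b (a 1<|a 3<|a (-24) 0)<|c)<|a 8<|a 56<|a 174 0) 16384)<|
 b (a (a 4<|a d<|a (b (a 2<|a 7<|a 140 (-128))<|b (a 1<|a 3<|a 32 0)<|c)<|a 48<|a 16<|a 174 0) 8192)<|
 b (a (a 4<|a d<|a (b (a 2<|a 7<|a 140 128)<|b (a 1<|a 3<|a 16 32)<|c)<|a 64<|a 0<|a 174 0) 4096)<|
 b (a (a 4<|a d<|a (b (a 2<|a 7<|a 140 128)<|b (a 1<|a 3<|a 16 (-32))<|c)<|a 64<|a 0<|a 174 0) 4096)<|c))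

/-- the coset of the class 12 -/
def T12 : List (Row × ℕ) := (beta% delta% lq2608b51449 fun a b c d e _ =>
 (b (a (a 4<|a d<|a (b (a 2<|a (-9)<|a 28 0)<|b (a 1<|a 7<|a (-4) 0)<|c)<|a 24<|a 32<|a 62 64) 4128768)<|
 b (a (a 8<|a e<|a (b (a 4<|a 23<|a 2300 (-2048))<|b (a 2<|a (-9)<|a 28 0)<|b (a 1<|a 7<|a 4 0)<|c)<|a 32<|a 24<|a 62 64) 4128768)<|
 b (a (a 8<|a e<|a (b (a 4<|a 23<|a 2300 (-2048))<|b (a 2<|a (-9)<|a 28 0)<|b (a 1<|a 7<|a (-28) 0)<|c)<|a 0<|a 56<|a 126 0) 65536)<|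
 b (a (a 4<|a d<|a (b (a 2<|a (-9)<|a (-228) 256)<|b (a 1<|a 7<|a 28 0)<|c)<|a 56<|a 0<|a 126 0) 32768)<|
 b (a (a 4<|a d<|a (b (a 2<|a (-9)<|a 284 0)<|b (a 1<|a 7<|a 28 16)<|c)<|a 56<|a 0<|a 126 0) 16384)<|
 b (a (a 4<|a d<|a (b (a 2<|a (-9)<|a 284 0)<|b (a 1<|a 7<|a 28 (-16))<|c)<|a 56<|a 0<|a 126 0) 16384)<|c))

/-- the coset of the class 13 -/
def T13 : List (Row × ℕ) := (beta% delta% lq2608b51449 fun a b c d e _ =>
 (b (a (a 20<|a e<|a (b (a 10<|a 23<|a 2300 (-2048))<|b (a 5<|a 23<|a (-100) 0)<|b (a 4<|a (-2)<|a 0 (-2))<|b (a 2<|a (-2)<|a 0 2)<|b (a 1<|a (-2)<|a 0 0)<|c)<|a 0<|a 0<|a 0 0) 6291456)<|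
 b (a (a 10<|a e<|a (b (a 5<|a 23<|a 2300 (-2048))<|b (a 2<|a (-2)<|a 0 (-2))<|b (a 1<|a (-2)<|a 0 2)<|c)<|a 0<|a 0<|a 0 0) 1048576)<|
 b (a (a 5<|a d<|a (b (a 1<|a (-2)<|a 0 (-2))<|c)<|a 0<|a 0<|a 0 0) 1048576)<|c))

/-- the coset of the class 14 -/
def T14 : List (Row × ℕ) := (beta% delta% lq2608b51449 fun a b c d e _ =>
 (b (a (a 10<|a d<|a (b (a 5<|a 23<|a 252 0)<|b (a 2<|a 3<|a 10 8)<|b (a 1<|a 3<|a 2 0)<|c)<|a 12<|a 8<|a 14 16) 1966080)<|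
 b (a (a 20<|a e<|a (b (a 10<|a 23<|a 2300 (-2048))<|b (a 5<|a 23<|a 28 0)<|b (a 4<|a 3<|a 10 8)<|b (a 2<|a 3<|a 10 (-8))<|b (a 1<|a 3<|a (-2) 0)<|c)<|a 8<|a 12<|a 14 16) 1966080)<|
 b (a (a 20<|a e<|a (b (a 10<|a 23<|a 2300 (-2048))<|b (a 5<|a 23<|a (-100) 0)<|b (a 4<|a 3<|a 10 8)<|b (a 2<|a 3<|a 10 (-8))<|b (a 1<|a 3<|a 0 0)<|c)<|a 10<|a 10<|a 10 20) 1572864)<|
 b (a (a 10<|a d<|a (b (a 5<|a 23<|a (-4) 0)<|b (a 2<|a 3<|a 10 8)<|b (a 1<|a 3<|a (-4) 0)<|c)<|a 6<|a 14<|a 18 12) 1310720)<|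
 b (a (a 10<|a d<|a (b (a 5<|a 23<|a (-516) 0)<|b (a 2<|a 3<|a 10 8)<|b (a 1<|a 3<|a 4 0)<|c)<|a 14<|a 6<|a 18 12) 1310720)<|
 b (a (a 20<|a e<|a (b (a 10<|a 23<|a 2300 (-2048))<|b (a 5<|a 23<|a (-100) 0)<|b (a 4<|a 3<|a 10 8)<|b (a 2<|a 3<|a 10 (-8))<|b (a 1<|a 3<|a (-10) 0)<|c)<|a 0<|a 20<|a 30 0) 131072)<|
 b (a (a 5<|a d<|a (b (a 1<|a 3<|a 10 8)<|c)<|a 20<|a 0<|a 30 0) 65536)<|
 b (a (a 10<|a e<|a (b (a 5<|a 23<|a 2300 (-2048))<|b (a 2<|a 3<|a 10 8)<|b (a 1<|a 3<|a 10 (-8))<|c)<|a 20<|a 0<|a 30 0) 65536)<|c))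

/-- the coset of the class 15 -/
def T15 : List (Row × ℕ) := (beta% delta% lq2608b51449 fun a b c d e _ =>
 (b (a (a 12<|a d<|a (b (a 6<|a 23<|a 252 0)<|b (a 4<|a 5<|a 41 32)<|b (a 3<|a (-9)<|a (-4) 0)<|b (a 2<|a 5<|a 9 0)<|b (a 1<|a (-3)<|a (-1) 0)<|c)<|a 16<|a 18<|a 34 44) 2359296)<|
 b (a (a 12<|a d<|a (b (a 6<|a 23<|a 252 0)<|b (a 4<|a 5<|a 41 32)<|b (a 3<|a (-9)<|a 20 0)<|b (a 2<|a 5<|a 9 0)<|b (a 1<|a (-3)<|a 5 0)<|c)<|a 14<|a 20<|a 38 40) 1572864)<|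
 b (a (a 12<|a d<|a (b (a 6<|a 23<|a 252 0)<|b (a 4<|a 5<|a 41 32)<|b (a 3<|a (-9)<|a (-12) 0)<|b (a 2<|a 5<|a 9 0)<|b (a 1<|a (-3)<|a (-3) 0)<|c)<|a 22<|a 12<|a 38 40) 1572864)<|
 b (a (a 6<|a d<|a (b (a 3<|a (-9)<|a 28 0)<|b (a 2<|a 5<|a 41 32)<|b (a 1<|a (-3)<|a 1 0)<|c)<|a 18<|a 16<|a 46 32) 589824)<|
 b (a (a 6<|a d<|a (b (a 3<|a (-9)<|a (-44) 0)<|b (a 2<|a 5<|a 41 32)<|b (a 1<|a (-3)<|a (-5) 0)<|c)<|a 20<|a 14<|a 42 36) 524288)<|
 b (a (a 12<|a e<|a (b (a 6<|a 23<|a 2300 (-2048))<|b (a 4<|a 5<|a 41 32)<|b (a 3<|a (-9)<|a (-12) 0)<|b (a 2<|a 5<|a 41 (-32))<|b (a 1<|a (-3)<|a 3 0)<|c)<|a 12<|a 22<|a 42 36) 524288)<|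
 b (a (a 12<|a e<|a (b (a 6<|a 23<|a 2300 (-2048))<|b (a 4<|a 5<|a 41 32)<|b (a 3<|a (-9)<|a 28 0)<|b (a 2<|a 5<|a 41 (-32))<|b (a 1<|a (-3)<|a 1 0)<|c)<|a 18<|a 16<|a 30 48) 393216)<|
 b (a (a 12<|a d<|a (b (a 6<|a 23<|a 252 0)<|b (a 4<|a 5<|a 41 32)<|b (a 3<|a (-9)<|a 60 0)<|b (a 2<|a 5<|a 9 0)<|b (a 1<|a (-3)<|a (-9) 0)<|c)<|a 24<|a 10<|a 50 28) 393216)<|
 b (a (a 12<|a d<|a (b (a 6<|a 23<|a 252 0)<|b (a 4<|a 5<|a 41 32)<|b (a 3<|a (-9)<|a (-68) 0)<|b (a 2<|a 5<|a 9 0)<|b (a 1<|a (-3)<|a 7 0)<|c)<|a 8<|a 26<|a 50 28) 393216)<|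
 b (a (a 6<|a d<|a (b (a 3<|a (-9)<|a 284 0)<|b (a 2<|a 5<|a 41 32)<|b (a 1<|a (-3)<|a 17 0)<|c)<|a 2<|a 32<|a 78 0) 32768)<|
 b (a (a 6<|a d<|a (b (a 3<|a (-9)<|a (-228) 256)<|b (a 2<|a 5<|a 41 32)<|b (a 1<|a (-3)<|a (-15) 16)<|c)<|a 34<|a 0<|a 78 0) 16384)<|
 b (a (a 6<|a d<|a (b (a 3<|a (-9)<|a (-228) (-256))<|b (a 2<|a 5<|a 41 32)<|b (a 1<|a (-3)<|a (-15) (-16))<|c)<|a 34<|a 0<|a 78 0) 16384)<|c))

/-- the coset of the class 16 -/
def T16 : List (Row × ℕ) := (beta% delta% lq2608b51449 fun a b c d e _ =>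
 (b (a (a 24<|a e<|a (b (a 12<|a 23<|a 2300 (-2048))<|b (a 8<|a 5<|a 41 32)<|b (a 6<|a 23<|a 28 0)<|b (a 4<|a 5<|a 41 (-32))<|b (a 3<|a (-1)<|a (-8) 0)<|b (a 2<|a 5<|a 1 0)<|b (a 1<|a (-1)<|a 1 0)<|c)<|a 6<|a 8<|a 6 8) 1048576)<|
 b (a (a 24<|a e<|a (b (a 12<|a 23<|a 2300 (-2048))<|b (a 8<|a 5<|a 41 32)<|b (a 6<|a 23<|a 28 0)<|b (a 4<|a 5<|a 41 (-32))<|b (a 3<|a (-1)<|a 0 0)<|b (a 2<|a 5<|a 1 0)<|b (a 1<|a (-1)<|a 3 0)<|c)<|a 4<|a 10<|a 6 8) 1048576)<|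
 b (a (a 24<|a e<|a (b (a 12<|a 23<|a 2300 (-2048))<|b (a 8<|a 5<|a 41 32)<|b (a 6<|a 23<|a 28 0)<|b (a 4<|a 5<|a 41 (-32))<|b (a 3<|a (-1)<|a 0 0)<|b (a 2<|a 5<|a 1 0)<|b (a 1<|a (-1)<|a (-3) 0)<|c)<|a 10<|a 4<|a 6 8) 1048576)<|
 b (a (a 24<|a e<|a (b (a 12<|a 23<|a 2300 (-2048))<|b (a 8<|a 5<|a 41 32)<|b (a 6<|a 23<|a 28 0)<|b (a 4<|a 5<|a 41 (-32))<|b (a 3<|a (-1)<|a 8 0)<|b (a 2<|a 5<|a 1 0)<|b (a 1<|a (-1)<|a (-1) 0)<|c)<|a 8<|a 6<|a 6 8) 1048576)<|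
 b (a (a 12<|a d<|a (b (a 6<|a 23<|a 252 0)<|b (a 4<|a 5<|a 41 32)<|b (a 3<|a (-1)<|a (-12) 0)<|b (a 2<|a 5<|a 9 0)<|b (a 1<|a (-1)<|a (-3) 0)<|c)<|a 6<|a 8<|a 6 8) 786432)<|
 b (a (a 12<|a d<|a (b (a 6<|a 23<|a 252 0)<|b (a 4<|a 5<|a 41 32)<|b (a 3<|a (-1)<|a 12 0)<|b (a 2<|a 5<|a 9 0)<|b (a 1<|a (-1)<|a 3 0)<|c)<|a 8<|a 6<|a 6 8) 786432)<|
 b (a (a 12<|a d<|a (b (a 6<|a 23<|a 252 0)<|b (a 4<|a 5<|a 41 32)<|b (a 3<|a (-1)<|a (-20) 0)<|b (a 2<|a 5<|a 9 0)<|b (a 1<|a (-1)<|a 1 0)<|c)<|a 10<|a 4<|a 6 8) 786432)<|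
 b (a (a 12<|a d<|a (b (a 6<|a 23<|a 252 0)<|b (a 4<|a 5<|a 41 32)<|b (a 3<|a (-1)<|a 20 0)<|b (a 2<|a 5<|a 9 0)<|b (a 1<|a (-1)<|a (-1) 0)<|c)<|a 4<|a 10<|a 6 8) 786432)<|
 b (a (a 12<|a d<|a (b (a 6<|a 23<|a 252 0)<|b (a 4<|a 5<|a 41 32)<|b (a 3<|a (-1)<|a (-20) 0)<|b (a 2<|a 5<|a 9 0)<|b (a 1<|a (-1)<|a (-5) 0)<|c)<|a 8<|a 6<|a 14 0) 131072)<|
 b (a (a 12<|a d<|a (b (a 6<|a 23<|a 252 0)<|b (a 4<|a 5<|a 41 32)<|b (a 3<|a (-1)<|a (-20) 0)<|b (a 2<|a 5<|a 9 0)<|b (a 1<|a (-1)<|a 1 0)<|c)<|a 2<|a 12<|a 14 0) 131072)<|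
 b (a (a 12<|a d<|a (b (a 6<|a 23<|a 252 0)<|b (a 4<|a 5<|a 41 32)<|b (a 3<|a (-1)<|a 52 0)<|b (a 2<|a 5<|a 9 0)<|b (a 1<|a (-1)<|a 7 0)<|c)<|a 4<|a 10<|a 14 0) 131072)<|
 b (a (a 12<|a e<|a (b (a 6<|a 23<|a 2300 (-2048))<|b (a 4<|a 5<|a 41 32)<|b (a 3<|a (-1)<|a 12 0)<|b (a 2<|a 5<|a 41 (-32))<|b (a 1<|a (-1)<|a 3 0)<|c)<|a 0<|a 14<|a 14 0) 131072)<|
 b (a (a 6<|a d<|a (b (a 3<|a (-1)<|a 20 0)<|b (a 2<|a 5<|a 41 32)<|b (a 1<|a (-1)<|a 5 0)<|c)<|a 6<|a 8<|a 14 0) 131072)<|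
 b (a (a 6<|a d<|a (b (a 3<|a (-1)<|a 20 0)<|b (a 2<|a 5<|a 41 32)<|b (a 1<|a (-1)<|a (-1) 0)<|c)<|a 12<|a 2<|a 14 0) 131072)<|
 b (a (a 6<|a d<|a (b (a 3<|a (-1)<|a (-52) 0)<|b (a 2<|a 5<|a 41 32)<|b (a 1<|a (-1)<|a (-7) 0)<|c)<|a 10<|a 4<|a 14 0) 131072)<|
 b (a (a 12<|a d<|a (b (a 6<|a 23<|a 252 0)<|b (a 4<|a 5<|a 41 32)<|b (a 3<|a (-1)<|a (-12) (-64))<|b (a 2<|a 5<|a 9 0)<|b (a 1<|a (-1)<|a (-3) 8)<|c)<|a 14<|a 0<|a 14 0) 65536)<|
 b (a (a 12<|a d<|a (b (a 6<|a 23<|a 252 0)<|b (a 4<|a 5<|a 41 32)<|b (a 3<|a (-1)<|a (-12) 64)<|b (a 2<|a 5<|a 9 0)<|b (a 1<|a (-1)<|a (-3) (-8))<|c)<|a 14<|a 0<|a 14 0) 65536)<|c))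

/-- the coset of the class 17 -/
def T17 : List (Row × ℕ) := (beta% delta% lq2608b51449 fun a b c d e _ =>
 (b (a (a 12<|a e<|a (b (a 6<|a 23<|a 2300 (-2048))<|b (a 4<|a (-4)<|a 5 (-4))<|b (a 3<|a (-9)<|a 28 0)<|b (a 2<|a (-4)<|a 5 4)<|b (a 1<|a 0<|a 1 0)<|c)<|a 6<|a 4<|a 0 0) 3145728)<|
 b (a (a 6<|a d<|a (b (a 3<|a (-9)<|a (-44) 0)<|b (a 2<|a (-4)<|a 5 (-4))<|b (a 1<|a 0<|a 1 0)<|c)<|a 2<|a 8<|a 0 0) 2097152)<|
 b (a (a 12<|a e<|a (b (a 6<|a 23<|a 2300 (-2048))<|b (a 4<|a (-4)<|a 5 (-4))<|b (a 3<|a (-9)<|a (-12) 0)<|b (a 2<|a (-4)<|a 5 4)<|b (a 1<|a 0<|a (-3) 0)<|c)<|a 6<|a 4<|a 0 0) 2097152)<|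
 b (a (a 6<|a d<|a (b (a 3<|a (-9)<|a 284 0)<|b (a 2<|a (-4)<|a 5 (-4))<|b (a 1<|a 0<|a 5 0)<|c)<|a 2<|a 8<|a 0 0) 524288)<|
 b (a (a 6<|a d<|a (b (a 3<|a (-9)<|a (-228) 256)<|b (a 2<|a (-4)<|a 5 (-4))<|b (a 1<|a 0<|a (-3) 4)<|c)<|a 10<|a 0<|a 0 0) 262144)<|
 b (a (a 6<|a d<|a (b (a 3<|a (-9)<|a (-228) (-256))<|b (a 2<|a (-4)<|a 5 (-4))<|b (a 1<|a 0<|a (-3) (-4))<|c)<|a 10<|a 0<|a 0 0) 262144)<|c))

/-- the coset of the class 18 -/
def T18 : List (Row × ℕ) := (beta% delta% lq2608b51449 fun a b c d e _ =>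
 (b (a (a 12<|a d<|a (b (a 6<|a 23<|a (-4) 0)<|b (a 4<|a 5<|a 41 32)<|b (a 3<|a 7<|a (-4) 0)<|b (a 2<|a 5<|a (-7) 0)<|b (a 1<|a 1<|a (-1) 0)<|c)<|a 4<|a 6<|a 10 20) 1572864)<|
 b (a (a 12<|a d<|a (b (a 6<|a 23<|a (-4) 0)<|b (a 4<|a 5<|a 41 32)<|b (a 3<|a 7<|a 28 0)<|b (a 2<|a 5<|a (-7) 0)<|b (a 1<|a 1<|a 1 0)<|c)<|a 6<|a 4<|a 14 16) 1572864)<|
 b (a (a 12<|a d<|a (b (a 6<|a 23<|a 252 0)<|b (a 4<|a 5<|a 41 32)<|b (a 3<|a 7<|a 4 0)<|b (a 2<|a 5<|a 9 0)<|b (a 1<|a 1<|a 1 0)<|c)<|a 6<|a 4<|a 14 16) 1572864)<|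
 b (a (a 12<|a d<|a (b (a 6<|a 23<|a 252 0)<|b (a 4<|a 5<|a 41 32)<|b (a 3<|a 7<|a (-28) 0)<|b (a 2<|a 5<|a 9 0)<|b (a 1<|a 1<|a (-1) 0)<|c)<|a 4<|a 6<|a 18 12) 1572864)<|
 b (a (a 12<|a d<|a (b (a 6<|a 23<|a 252 0)<|b (a 4<|a 5<|a 41 32)<|b (a 3<|a 7<|a (-20) 0)<|b (a 2<|a 5<|a 9 0)<|b (a 1<|a 1<|a (-5) 0)<|c)<|a 0<|a 10<|a 18 12) 393216)<|
 b (a (a 12<|a d<|a (b (a 6<|a 23<|a 252 0)<|b (a 4<|a 5<|a 41 32)<|b (a 3<|a 7<|a 12 0)<|b (a 2<|a 5<|a 9 0)<|b (a 1<|a 1<|a (-3) 0)<|c)<|a 2<|a 8<|a 14 16) 393216)<|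
 b (a (a 12<|a d<|a (b (a 6<|a 23<|a 252 0)<|b (a 4<|a 5<|a 41 32)<|b (a 3<|a 7<|a (-84) 0)<|b (a 2<|a 5<|a 9 0)<|b (a 1<|a 1<|a 3 0)<|c)<|a 8<|a 2<|a 18 12) 393216)<|
 b (a (a 12<|a d<|a (b (a 6<|a 23<|a 252 0)<|b (a 4<|a 5<|a 41 32)<|b (a 3<|a 7<|a 44 0)<|b (a 2<|a 5<|a 9 0)<|b (a 1<|a 1<|a 5 0)<|c)<|a 10<|a 0<|a 14 16) 393216)<|
 b (a (a 6<|a d<|a (b (a 3<|a 7<|a 12 0)<|b (a 2<|a 5<|a 41 32)<|b (a 1<|a 1<|a 3 0)<|c)<|a 8<|a 2<|a 18 12) 131072)<|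
 b (a (a 6<|a d<|a (b (a 3<|a 7<|a 12 0)<|b (a 2<|a 5<|a 41 32)<|b (a 1<|a 1<|a (-3) 0)<|c)<|a 2<|a 8<|a 30 0) 131072)<|
 b (a (a 12<|a e<|a (b (a 6<|a 23<|a 2300 (-2048))<|b (a 4<|a 5<|a 41 32)<|b (a 3<|a 7<|a (-20) 0)<|b (a 2<|a 5<|a 41 (-32))<|b (a 1<|a 1<|a (-5) 0)<|c)<|a 0<|a 10<|a 18 12) 131072)<|
 b (a (a 6<|a d<|a (b (a 3<|a 7<|a 140 128)<|b (a 2<|a 5<|a 41 32)<|b (a 1<|a 1<|a 5 8)<|c)<|a 10<|a 0<|a 30 0) 65536)<|
 b (a (a 6<|a d<|a (b (a 3<|a 7<|a 140 (-128))<|b (a 2<|a 5<|a 41 32)<|b (a 1<|a 1<|a 5 (-8))<|c)<|a 10<|a 0<|a 30 0) 65536)<|c))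

/-- the coset of the class 19 -/
def T19 : List (Row × ℕ) := (beta% delta% lq2608b51449 fun a b c d e _ =>
 (b (a (a 12<|a d<|a (b (a 6<|a 23<|a 252 0)<|b (a 4<|a 5<|a 41 32)<|b (a 3<|a (-9)<|a 20 0)<|b (a 2<|a 5<|a 9 0)<|b (a 1<|a 3<|a (-1) 0)<|c)<|a 8<|a 14<|a 14 16) 1966080)<|
 b (a (a 12<|a d<|a (b (a 6<|a 23<|a 252 0)<|b (a 4<|a 5<|a 41 32)<|b (a 3<|a (-9)<|a (-68) 0)<|b (a 2<|a 5<|a 9 0)<|b (a 1<|a 3<|a 1 0)<|c)<|a 14<|a 8<|a 14 16) 1966080)<|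
 b (a (a 12<|a d<|a (b (a 6<|a 23<|a 252 0)<|b (a 4<|a 5<|a 41 32)<|b (a 3<|a (-9)<|a 60 0)<|b (a 2<|a 5<|a 9 0)<|b (a 1<|a 3<|a 3 0)<|c)<|a 12<|a 10<|a 14 16) 1966080)<|
 b (a (a 12<|a d<|a (b (a 6<|a 23<|a 252 0)<|b (a 4<|a 5<|a 41 32)<|b (a 3<|a (-9)<|a (-12) 0)<|b (a 2<|a 5<|a 9 0)<|b (a 1<|a 3<|a (-3) 0)<|c)<|a 10<|a 12<|a 14 16) 1966080)<|
 b (a (a 12<|a e<|a (b (a 6<|a 23<|a 2300 (-2048))<|b (a 4<|a 5<|a 41 32)<|b (a 3<|a (-9)<|a (-12) 0)<|b (a 2<|a 5<|a 41 (-32))<|b (a 1<|a 3<|a (-9) 0)<|c)<|a 0<|a 22<|a 30 0) 131072)<|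
 b (a (a 6<|a d<|a (b (a 3<|a (-9)<|a (-44) 0)<|b (a 2<|a 5<|a 41 32)<|b (a 1<|a 3<|a (-11) 0)<|c)<|a 2<|a 20<|a 30 0) 131072)<|
 b (a (a 6<|a d<|a (b (a 3<|a (-9)<|a 284 0)<|b (a 2<|a 5<|a 41 32)<|b (a 1<|a 3<|a 11 0)<|c)<|a 20<|a 2<|a 30 0) 131072)<|
 b (a (a 6<|a d<|a (b (a 3<|a (-9)<|a (-228) (-256))<|b (a 2<|a 5<|a 41 32)<|b (a 1<|a 3<|a 9 8)<|c)<|a 22<|a 0<|a 30 0) 65536)<|
 b (a (a 6<|a d<|a (b (a 3<|a (-9)<|a (-228) 256)<|b (a 2<|a 5<|a 41 32)<|b (a 1<|a 3<|a 9 (-8))<|c)<|a 22<|a 0<|a 30 0) 65536)<|c))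

/-- the coset of the class 20 -/
def T20 : List (Row × ℕ) := (beta% delta% lq2608b51449 fun a b c d e _ =>
 (b (a (a 12<|a e<|a (b (a 6<|a 23<|a 2300 (-2048))<|b (a 4<|a (-4)<|a 5 (-4))<|b (a 3<|a 7<|a (-20) 0)<|b (a 2<|a (-4)<|a 5 4)<|b (a 1<|a 4<|a 1 0)<|c)<|a 6<|a 4<|a 0 0) 5242880)<|
 b (a (a 6<|a d<|a (b (a 3<|a 7<|a 12 0)<|b (a 2<|a (-4)<|a 5 (-4))<|b (a 1<|a 4<|a (-3) 0)<|c)<|a 2<|a 8<|a 0 0) 2621440)<|
 b (a (a 6<|a d<|a (b (a 3<|a 7<|a 140 (-128))<|b (a 2<|a (-4)<|a 5 (-4))<|b (a 1<|a 4<|a 5 4)<|c)<|a 10<|a 0<|a 0 0) 262144)<|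
 b (a (a 6<|a d<|a (b (a 3<|a 7<|a 140 128)<|b (a 2<|a (-4)<|a 5 (-4))<|b (a 1<|a 4<|a 5 (-4))<|c)<|a 10<|a 0<|a 0 0) 262144)<|c))

/-- the coset of the class 21 -/
def T21 : List (Row × ℕ) := (beta% delta% lq2608b51449 fun a b c d e _ =>
 (b (a (a 14<|a d<|a (b (a 7<|a 23<|a (-516) 0)<|b (a 2<|a 2<|a 4 4)<|b (a 1<|a 2<|a 2 0)<|c)<|a 6<|a 2<|a 4 4) 2097152)<|
 b (a (a 14<|a d<|a (b (a 7<|a 23<|a 252 0)<|b (a 2<|a 2<|a 4 4)<|b (a 1<|a 2<|a 0 0)<|c)<|a 4<|a 4<|a 4 4) 2097152)<|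
 b (a (a 28<|a e<|a (b (a 14<|a 23<|a 2300 (-2048))<|b (a 7<|a 23<|a (-100) 0)<|b (a 4<|a 2<|a 4 4)<|b (a 2<|a 2<|a 4 (-4))<|b (a 1<|a 2<|a (-2) 0)<|c)<|a 2<|a 6<|a 4 4) 2097152)<|
 b (a (a 28<|a e<|a (b (a 14<|a 23<|a 2300 (-2048))<|b (a 7<|a 23<|a 28 0)<|b (a 4<|a 2<|a 4 4)<|b (a 2<|a 2<|a 4 (-4))<|b (a 1<|a 2<|a 0 0)<|c)<|a 4<|a 4<|a 0 8) 1048576)<|
 b (a (a 14<|a d<|a (b (a 7<|a 23<|a (-4) 0)<|b (a 2<|a 2<|a 4 4)<|b (a 1<|a 2<|a (-4) 0)<|c)<|a 0<|a 8<|a 8 0) 524288)<|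
 b (a (a 7<|a d<|a (b (a 1<|a 2<|a 4 4)<|c)<|a 8<|a 0<|a 8 0) 262144)<|
 b (a (a 14<|a e<|a (b (a 7<|a 23<|a 2300 (-2048))<|b (a 2<|a 2<|a 4 4)<|b (a 1<|a 2<|a 4 (-4))<|c)<|a 8<|a 0<|a 8 0) 262144)<|c))

/-- the coset of the class 22 -/
def T22 : List (Row × ℕ) := (beta% delta% lq2608b51449 fun a b c d _ _ =>
 (b (a (a 16<|a d<|a (b (a 8<|a 23<|a 252 0)<|b (a 4<|a 7<|a 12 0)<|b (a 2<|a 3<|a 8 0)<|b (a 1<|a (-3)<|a (-2) 0)<|c)<|a 12<|a 8<|a 14 16) 3145728)<|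
 b (a (a 16<|a d<|a (b (a 8<|a 23<|a 252 0)<|b (a 4<|a 7<|a 12 0)<|b (a 2<|a 3<|a 8 0)<|b (a 1<|a (-3)<|a 2 0)<|c)<|a 8<|a 12<|a 14 16) 3145728)<|
 b (a (a 8<|a d<|a (b (a 4<|a 7<|a 140 128)<|b (a 2<|a 3<|a 16 0)<|b (a 1<|a (-3)<|a (-2) 0)<|c)<|a 12<|a 8<|a 14 16) 393216)<|
 b (a (a 8<|a d<|a (b (a 4<|a 7<|a 140 (-128))<|b (a 2<|a 3<|a 32 0)<|b (a 1<|a (-3)<|a 6 0)<|c)<|a 4<|a 16<|a 22 8) 393216)<|
 b (a (a 8<|a d<|a (b (a 4<|a 7<|a 140 (-128))<|b (a 2<|a 3<|a 0 0)<|b (a 1<|a (-3)<|a 2 0)<|c)<|a 8<|a 12<|a 14 16) 393216)<|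
 b (a (a 8<|a d<|a (b (a 4<|a 7<|a 140 128)<|b (a 2<|a 3<|a 16 32)<|b (a 1<|a (-3)<|a (-6) 0)<|c)<|a 16<|a 4<|a 22 8) 393216)<|
 b (a (a 8<|a d<|a (b (a 4<|a 7<|a 140 (-128))<|b (a 2<|a 3<|a 32 0)<|b (a 1<|a (-3)<|a (-2) 0)<|c)<|a 12<|a 8<|a 6 24) 131072)<|
 b (a (a 8<|a d<|a (b (a 4<|a 7<|a 140 (-128))<|b (a 2<|a 3<|a 0 0)<|b (a 1<|a (-3)<|a 10 0)<|c)<|a 0<|a 20<|a 30 0) 131072)<|
 b (a (a 8<|a d<|a (b (a 4<|a 7<|a 140 128)<|b (a 2<|a 3<|a 16 (-32))<|b (a 1<|a (-3)<|a 2 0)<|c)<|a 8<|a 12<|a 6 24) 131072)<|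
 b (a (a 8<|a d<|a (b (a 4<|a 7<|a 140 128)<|b (a 2<|a 3<|a 16 0)<|b (a 1<|a (-3)<|a (-10) 8)<|c)<|a 20<|a 0<|a 30 0) 65536)<|
 b (a (a 8<|a d<|a (b (a 4<|a 7<|a 140 128)<|b (a 2<|a 3<|a 16 0)<|b (a 1<|a (-3)<|a (-10) (-8))<|c)<|a 20<|a 0<|a 30 0) 65536)<|c))

/-- the coset of the class 23 -/
def T23 : List (Row × ℕ) := (beta% delta% lq2608b51449 fun a b c d e _ =>
 (b (a (a 8<|a d<|a (b (a 4<|a (-9)<|a 28 0)<|b (a 2<|a (-1)<|a (-4) 0)<|b (a 1<|a (-1)<|a 0 0)<|c)<|a 0<|a 0<|a 2 4) 4194304)<|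
 b (a (a 16<|a e<|a (b (a 8<|a 23<|a 2300 (-2048))<|b (a 4<|a (-9)<|a 28 0)<|b (a 2<|a (-1)<|a 4 0)<|b (a 1<|a (-1)<|a 0 0)<|c)<|a 0<|a 0<|a 2 4) 2097152)<|
 b (a (a 8<|a d<|a (b (a 4<|a (-9)<|a 28 0)<|b (a 2<|a (-1)<|a 4 0)<|b (a 1<|a (-1)<|a 0 0)<|c)<|a 0<|a 0<|a 6 0) 1048576)<|
 b (a (a 8<|a d<|a (b (a 4<|a (-9)<|a (-228) 256)<|b (a 2<|a (-1)<|a 4 0)<|b (a 1<|a (-1)<|a 0 0)<|c)<|a 0<|a 0<|a 6 0) 524288)<|
 b (a (a 8<|a d<|a (b (a 4<|a (-9)<|a 284 0)<|b (a 2<|a (-1)<|a 4 16)<|b (a 1<|a (-1)<|a 0 4)<|c)<|a 0<|a 0<|a 6 0) 262144)<|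
 b (a (a 8<|a d<|a (b (a 4<|a (-9)<|a 284 0)<|b (a 2<|a (-1)<|a 4 16)<|b (a 1<|a (-1)<|a 0 (-4))<|c)<|a 0<|a 0<|a 6 0) 262144)<|c))

/-- the coset of the class 24 -/
def T24 : List (Row × ℕ) := (beta% delta% lq2608b51449 fun a b c d e _ =>
 (b (a (a 16<|a e<|a (b (a 8<|a 23<|a 2300 (-2048))<|b (a 4<|a (-9)<|a 28 0)<|b (a 2<|a 7<|a 4 0)<|b (a 1<|a (-1)<|a 0 0)<|c)<|a 4<|a 4<|a 6 8) 3145728)<|
 b (a (a 8<|a d<|a (b (a 4<|a (-9)<|a 28 0)<|b (a 2<|a 7<|a (-4) 0)<|b (a 1<|a (-1)<|a 0 0)<|c)<|a 4<|a 4<|a 6 8) 3145728)<|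
 b (a (a 16<|a e<|a (b (a 8<|a 23<|a 2300 (-2048))<|b (a 4<|a (-9)<|a 28 0)<|b (a 2<|a 7<|a 4 0)<|b (a 1<|a (-1)<|a (-4) 0)<|c)<|a 8<|a 0<|a 6 8) 524288)<|
 b (a (a 8<|a d<|a (b (a 4<|a (-9)<|a (-228) 256)<|b (a 2<|a 7<|a 28 0)<|b (a 1<|a (-1)<|a 4 0)<|c)<|a 0<|a 8<|a 14 0) 524288)<|
 b (a (a 16<|a e<|a (b (a 8<|a 23<|a 2300 (-2048))<|b (a 4<|a (-9)<|a 28 0)<|b (a 2<|a 7<|a 4 0)<|b (a 1<|a (-1)<|a 4 0)<|c)<|a 0<|a 8<|a 6 8) 524288)<|
 b (a (a 8<|a d<|a (b (a 4<|a (-9)<|a 284 0)<|b (a 2<|a 7<|a 28 16)<|b (a 1<|a (-1)<|a (-4) 4)<|c)<|a 8<|a 0<|a 14 0) 262144)<|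
 b (a (a 8<|a d<|a (b (a 4<|a (-9)<|a 284 0)<|b (a 2<|a 7<|a 28 16)<|b (a 1<|a (-1)<|a (-4) (-4))<|c)<|a 8<|a 0<|a 14 0) 262144)<|c))

/-- the coset of the class 25 -/
def T25 : List (Row × ℕ) := (beta% delta% lq2608b51449 fun a b c d _ _ =>
 (b (a (a 16<|a d<|a (b (a 8<|a 23<|a (-4) 0)<|b (a 4<|a 7<|a (-4) 0)<|b (a 2<|a 3<|a (-4) 0)<|b (a 1<|a 1<|a 0 0)<|c)<|a 2<|a 2<|a 2 4) 2097152)<|
 b (a (a 16<|a d<|a (b (a 8<|a 23<|a (-4) 0)<|b (a 4<|a 7<|a (-4) 0)<|b (a 2<|a 3<|a 4 0)<|b (a 1<|a 1<|a 0 0)<|c)<|a 2<|a 2<|a 2 4) 2097152)<|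
 b (a (a 16<|a d<|a (b (a 8<|a 23<|a 252 0)<|b (a 4<|a 7<|a 12 0)<|b (a 2<|a 3<|a 0 0)<|b (a 1<|a 1<|a 2 0)<|c)<|a 4<|a 0<|a 2 4) 1048576)<|
 b (a (a 16<|a d<|a (b (a 8<|a 23<|a 252 0)<|b (a 4<|a 7<|a 12 0)<|b (a 2<|a 3<|a 8 0)<|b (a 1<|a 1<|a (-2) 0)<|c)<|a 0<|a 4<|a 6 0) 1048576)<|
 b (a (a 8<|a d<|a (b (a 4<|a 7<|a 140 128)<|b (a 2<|a 3<|a 8 0)<|b (a 1<|a 1<|a (-2) 0)<|c)<|a 0<|a 4<|a 2 4) 524288)<|
 b (a (a 8<|a d<|a (b (a 4<|a 7<|a 12 0)<|b (a 2<|a 3<|a 16 16)<|b (a 1<|a 1<|a 2 0)<|c)<|a 4<|a 0<|a 6 0) 524288)<|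
 b (a (a 8<|a d<|a (b (a 4<|a 7<|a 140 (-128))<|b (a 2<|a 3<|a (-8) 0)<|b (a 1<|a 1<|a (-2) 0)<|c)<|a 0<|a 4<|a 2 4) 524288)<|
 b (a (a 8<|a d<|a (b (a 4<|a 7<|a 12 0)<|b (a 2<|a 3<|a 0 0)<|b (a 1<|a 1<|a 2 4)<|c)<|a 4<|a 0<|a 6 0) 262144)<|
 b (a (a 8<|a d<|a (b (a 4<|a 7<|a 12 0)<|b (a 2<|a 3<|a 0 0)<|b (a 1<|a 1<|a 2 (-4))<|c)<|a 4<|a 0<|a 6 0) 262144)<|c))

/-- the coset of the class 26 -/
def T26 : List (Row × ℕ) := (beta% delta% lq2608b51449 fun a b c d _ _ =>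
 (b (a (a 16<|a d<|a (b (a 8<|a 23<|a 252 0)<|b (a 4<|a 7<|a 12 0)<|b (a 2<|a 3<|a 0 0)<|b (a 1<|a 1<|a (-2) 0)<|c)<|a 4<|a 8<|a 6 8) 2097152)<|
 b (a (a 16<|a d<|a (b (a 8<|a 23<|a 252 0)<|b (a 4<|a 7<|a 12 0)<|b (a 2<|a 3<|a 0 0)<|b (a 1<|a 1<|a 2 0)<|c)<|a 8<|a 4<|a 6 8) 2097152)<|
 b (a (a 16<|a d<|a (b (a 8<|a 23<|a 252 0)<|b (a 4<|a 7<|a 12 0)<|b (a 2<|a 3<|a 8 0)<|b (a 1<|a 1<|a 2 0)<|c)<|a 4<|a 8<|a 6 8) 1048576)<|
 b (a (a 16<|a d<|a (b (a 8<|a 23<|a 252 0)<|b (a 4<|a 7<|a 12 0)<|b (a 2<|a 3<|a 8 0)<|b (a 1<|a 1<|a (-2) 0)<|c)<|a 8<|a 4<|a 6 8) 1048576)<|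
 b (a (a 8<|a d<|a (b (a 4<|a 7<|a 140 128)<|b (a 2<|a 3<|a 16 0)<|b (a 1<|a 1<|a 2 0)<|c)<|a 4<|a 8<|a 6 8) 262144)<|
 b (a (a 8<|a d<|a (b (a 4<|a 7<|a 140 128)<|b (a 2<|a 3<|a 16 32)<|b (a 1<|a 1<|a (-2) 0)<|c)<|a 8<|a 4<|a 14 0) 262144)<|
 b (a (a 8<|a d<|a (b (a 4<|a 7<|a 140 (-128))<|b (a 2<|a 3<|a 0 0)<|b (a 1<|a 1<|a (-2) 0)<|c)<|a 8<|a 4<|a 6 8) 262144)<|
 b (a (a 8<|a d<|a (b (a 4<|a 7<|a 140 (-128))<|b (a 2<|a 3<|a 32 0)<|b (a 1<|a 1<|a 2 0)<|c)<|a 4<|a 8<|a 14 0) 262144)<|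
 b (a (a 8<|a d<|a (b (a 4<|a 7<|a 140 128)<|b (a 2<|a 3<|a 16 0)<|b (a 1<|a 1<|a (-6) 0)<|c)<|a 4<|a 8<|a 14 0) 131072)<|
 b (a (a 8<|a d<|a (b (a 4<|a 7<|a 140 128)<|b (a 2<|a 3<|a 16 32)<|b (a 1<|a 1<|a 6 0)<|c)<|a 8<|a 4<|a 6 8) 131072)<|
 b (a (a 8<|a d<|a (b (a 4<|a 7<|a 140 128)<|b (a 2<|a 3<|a 16 (-32))<|b (a 1<|a 1<|a (-2) 0)<|c)<|a 0<|a 12<|a 6 8) 131072)<|
 b (a (a 8<|a d<|a (b (a 4<|a 7<|a 140 (-128))<|b (a 2<|a 3<|a 0 0)<|b (a 1<|a 1<|a (-2) 0)<|c)<|a 0<|a 12<|a 14 0) 131072)<|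
 b (a (a 8<|a d<|a (b (a 4<|a 7<|a 140 (-128))<|b (a 2<|a 3<|a 0 0)<|b (a 1<|a 1<|a 6 0)<|c)<|a 8<|a 4<|a 14 0) 131072)<|
 b (a (a 8<|a d<|a (b (a 4<|a 7<|a 140 (-128))<|b (a 2<|a 3<|a 32 0)<|b (a 1<|a 1<|a (-6) 0)<|c)<|a 4<|a 8<|a 6 8) 131072)<|
 b (a (a 8<|a d<|a (b (a 4<|a 7<|a 140 (-128))<|b (a 2<|a 3<|a 32 0)<|b (a 1<|a 1<|a 2 0)<|c)<|a 12<|a 0<|a 6 8) 131072)<|
 b (a (a 8<|a d<|a (b (a 4<|a 7<|a 140 128)<|b (a 2<|a 3<|a 16 0)<|b (a 1<|a 1<|a 2 8)<|c)<|a 12<|a 0<|a 14 0) 65536)<|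
 b (a (a 8<|a d<|a (b (a 4<|a 7<|a 140 128)<|b (a 2<|a 3<|a 16 0)<|b (a 1<|a 1<|a 2 (-8))<|c)<|a 12<|a 0<|a 14 0) 65536)<|c))

/-- the coset of the class 27 -/
def T27 : List (Row × ℕ) := (beta% delta% lq2608b51449 fun a b c d e _ =>
 (b (a (a 16<|a e<|a (b (a 8<|a 23<|a 2300 (-2048))<|b (a 4<|a (-9)<|a 28 0)<|b (a 2<|a (-1)<|a 4 0)<|b (a 1<|a 3<|a 0 0)<|c)<|a 4<|a 4<|a 2 4) 6291456)<|
 b (a (a 8<|a d<|a (b (a 4<|a (-9)<|a 28 0)<|b (a 2<|a (-1)<|a 4 0)<|b (a 1<|a 3<|a (-4) 0)<|c)<|a 0<|a 8<|a 6 0) 1048576)<|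
 b (a (a 8<|a d<|a (b (a 4<|a (-9)<|a (-228) 256)<|b (a 2<|a (-1)<|a 4 0)<|b (a 1<|a 3<|a 4 0)<|c)<|a 8<|a 0<|a 6 0) 524288)<|
 b (a (a 8<|a d<|a (b (a 4<|a (-9)<|a 284 0)<|b (a 2<|a (-1)<|a 4 16)<|b (a 1<|a 3<|a 4 4)<|c)<|a 8<|a 0<|a 6 0) 262144)<|
 b (a (a 8<|a d<|a (b (a 4<|a (-9)<|a 284 0)<|b (a 2<|a (-1)<|a 4 16)<|b (a 1<|a 3<|a 4 (-4))<|c)<|a 8<|a 0<|a 6 0) 262144)<|c))

/-- the coset of the class 28 -/
def T28 : List (Row × ℕ) := (beta% delta% lq2608b51449 fun a b c d e _ =>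
 (b (a (a 18<|a d<|a (b (a 9<|a 23<|a (-516) 0)<|b (a 6<|a (-4)<|a 5 (-4))<|b (a 3<|a (-4)<|a (-3) 0)<|b (a 2<|a 2<|a 2 2)<|b (a 1<|a 2<|a 0 0)<|c)<|a 2<|a 2<|a 0 0) 4194304)<|
 b (a (a 36<|a e<|a (b (a 18<|a 23<|a 2300 (-2048))<|b (a 12<|a (-4)<|a 5 (-4))<|b (a 9<|a 23<|a 28 0)<|b (a 6<|a (-4)<|a 5 4)<|b (a 4<|a 2<|a 2 2)<|b (a 3<|a (-4)<|a 1 0)<|b (a 2<|a 2<|a 2 (-2))<|b (a 1<|a 2<|a (-2) 0)<|c)<|a 0<|a 4<|a 0 0) 2097152)<|
 b (a (a 9<|a d<|a (b (a 3<|a (-4)<|a 5 (-4))<|b (a 1<|a 2<|a 2 2)<|c)<|a 4<|a 0<|a 0 0) 1048576)<|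
 b (a (a 18<|a e<|a (b (a 9<|a 23<|a 2300 (-2048))<|b (a 6<|a (-4)<|a 5 (-4))<|b (a 3<|a (-4)<|a 5 4)<|b (a 2<|a 2<|a 2 2)<|b (a 1<|a 2<|a 2 (-2))<|c)<|a 4<|a 0<|a 0 0) 1048576)<|c))

/-- the coset of the class 29 -/
def T29 : List (Row × ℕ) := (beta% delta% lq2608b51449 fun a b c d e _ =>
 (b (a (a 40<|a e<|a (b (a 20<|a 23<|a 2300 (-2048))<|b (a 10<|a 23<|a 28 0)<|b (a 8<|a 3<|a 10 8)<|b (a 5<|a (-1)<|a 0 0)<|b (a 4<|a 3<|a 10 (-8))<|b (a 2<|a 3<|a (-2) 0)<|b (a 1<|a (-1)<|a 0 0)<|c)<|a 2<|a 2<|a 2 4) 2097152)<|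
 b (a (a 20<|a d<|a (b (a 10<|a 23<|a 252 0)<|b (a 5<|a (-1)<|a (-20) 0)<|b (a 4<|a 3<|a 10 8)<|b (a 2<|a 3<|a 2 0)<|b (a 1<|a (-1)<|a 0 0)<|c)<|a 2<|a 2<|a 2 4) 1048576)<|
 b (a (a 10<|a d<|a (b (a 5<|a (-1)<|a 20 0)<|b (a 2<|a 3<|a 10 8)<|b (a 1<|a (-1)<|a 0 0)<|c)<|a 2<|a 2<|a 6 0) 1048576)<|
 b (a (a 40<|a e<|a (b (a 20<|a 23<|a 2300 (-2048))<|b (a 10<|a 23<|a 28 0)<|b (a 8<|a 3<|a 10 8)<|b (a 5<|a (-1)<|a (-8) 0)<|b (a 4<|a 3<|a 10 (-8))<|b (a 2<|a 3<|a (-2) 0)<|b (a 1<|a (-1)<|a 2 0)<|c)<|a 0<|a 4<|a 2 4) 1048576)<|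
 b (a (a 40<|a e<|a (b (a 20<|a 23<|a 2300 (-2048))<|b (a 10<|a 23<|a 28 0)<|b (a 8<|a 3<|a 10 8)<|b (a 5<|a (-1)<|a 8 0)<|b (a 4<|a 3<|a 10 (-8))<|b (a 2<|a 3<|a (-2) 0)<|b (a 1<|a (-1)<|a (-2) 0)<|c)<|a 4<|a 0<|a 2 4) 1048576)<|
 b (a (a 20<|a d<|a (b (a 10<|a 23<|a 252 0)<|b (a 5<|a (-1)<|a 52 0)<|b (a 4<|a 3<|a 10 8)<|b (a 2<|a 3<|a 2 0)<|b (a 1<|a (-1)<|a 2 0)<|c)<|a 0<|a 4<|a 6 0) 524288)<|
 b (a (a 20<|a e<|a (b (a 10<|a 23<|a 2300 (-2048))<|b (a 5<|a (-1)<|a 12 0)<|b (a 4<|a 3<|a 10 8)<|b (a 2<|a 3<|a 10 (-8))<|b (a 1<|a (-1)<|a 2 0)<|c)<|a 0<|a 4<|a 2 4) 524288)<|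
 b (a (a 10<|a d<|a (b (a 5<|a (-1)<|a (-52) 0)<|b (a 2<|a 3<|a 10 8)<|b (a 1<|a (-1)<|a (-2) 0)<|c)<|a 4<|a 0<|a 2 4) 524288)<|
 b (a (a 20<|a d<|a (b (a 10<|a 23<|a 252 0)<|b (a 5<|a (-1)<|a (-12) 64)<|b (a 4<|a 3<|a 10 8)<|b (a 2<|a 3<|a 2 0)<|b (a 1<|a (-1)<|a (-2) 4)<|c)<|a 4<|a 0<|a 6 0) 262144)<|
 b (a (a 20<|a d<|a (b (a 10<|a 23<|a 252 0)<|b (a 5<|a (-1)<|a (-12) (-64))<|b (a 4<|a 3<|a 10 8)<|b (a 2<|a 3<|a 2 0)<|b (a 1<|a (-1)<|a (-2) (-4))<|c)<|a 4<|a 0<|a 6 0) 262144)<|c))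

/-- the coset of the class 30 -/
def T30 : List (Row × ℕ) := (beta% delta% lq2608b51449 fun a b c d e _ =>
 (b (a (a 20<|a d<|a (b (a 10<|a 23<|a 252 0)<|b (a 5<|a (-9)<|a 20 0)<|b (a 4<|a 3<|a 10 8)<|b (a 2<|a 3<|a 2 0)<|b (a 1<|a 1<|a 0 0)<|c)<|a 2<|a 6<|a 2 4) 1572864)<|
 b (a (a 20<|a d<|a (b (a 10<|a 23<|a 252 0)<|b (a 5<|a (-9)<|a (-12) 0)<|b (a 4<|a 3<|a 10 8)<|b (a 2<|a 3<|a 2 0)<|b (a 1<|a 1<|a (-2) 0)<|c)<|a 4<|a 4<|a 2 4) 1572864)<|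
 b (a (a 20<|a d<|a (b (a 10<|a 23<|a 252 0)<|b (a 5<|a (-9)<|a (-68) 0)<|b (a 4<|a 3<|a 10 8)<|b (a 2<|a 3<|a 2 0)<|b (a 1<|a 1<|a 2 0)<|c)<|a 4<|a 4<|a 2 4) 1572864)<|
 b (a (a 20<|a d<|a (b (a 10<|a 23<|a 252 0)<|b (a 5<|a (-9)<|a 60 0)<|b (a 4<|a 3<|a 10 8)<|b (a 2<|a 3<|a 2 0)<|b (a 1<|a 1<|a 0 0)<|c)<|a 6<|a 2<|a 2 4) 1572864)<|
 b (a (a 10<|a d<|a (b (a 5<|a (-9)<|a 284 0)<|b (a 2<|a 3<|a 10 8)<|b (a 1<|a 1<|a 4 0)<|c)<|a 6<|a 2<|a 6 0) 524288)<|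
 b (a (a 10<|a d<|a (b (a 5<|a (-9)<|a (-44) 0)<|b (a 2<|a 3<|a 10 8)<|b (a 1<|a 1<|a (-4) 0)<|c)<|a 2<|a 6<|a 6 0) 524288)<|
 b (a (a 20<|a e<|a (b (a 10<|a 23<|a 2300 (-2048))<|b (a 5<|a (-9)<|a (-12) 0)<|b (a 4<|a 3<|a 10 8)<|b (a 2<|a 3<|a 10 (-8))<|b (a 1<|a 1<|a (-2) 0)<|c)<|a 0<|a 8<|a 6 0) 524288)<|
 b (a (a 10<|a d<|a (b (a 5<|a (-9)<|a (-228) (-256))<|b (a 2<|a 3<|a 10 8)<|b (a 1<|a 1<|a 2 4)<|c)<|a 8<|a 0<|a 6 0) 262144)<|
 b (a (a 10<|a d<|a (b (a 5<|a (-9)<|a (-228) 256)<|b (a 2<|a 3<|a 10 8)<|b (a 1<|a 1<|a 2 (-4))<|c)<|a 8<|a 0<|a 6 0) 262144)<|c))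

/-- the coset of the class 31 -/
def T31 : List (Row × ℕ) := (beta% delta% lq2608b51449 fun a b c d e _ =>
 (b (a (a 20<|a e<|a (b (a 10<|a 23<|a 2300 (-2048))<|b (a 5<|a 7<|a (-20) 0)<|b (a 4<|a (-2)<|a 0 (-2))<|b (a 2<|a (-2)<|a 0 2)<|b (a 1<|a 2<|a 0 0)<|c)<|a 0<|a 0<|a 0 0) 6291456)<|
 b (a (a 10<|a d<|a (b (a 5<|a 7<|a 140 (-128))<|b (a 2<|a (-2)<|a 0 (-2))<|b (a 1<|a 2<|a 0 2)<|c)<|a 0<|a 0<|a 0 0) 1048576)<|
 b (a (a 10<|a d<|a (b (a 5<|a 7<|a 140 128)<|b (a 2<|a (-2)<|a 0 (-2))<|b (a 1<|a 2<|a 0 (-2))<|c)<|a 0<|a 0<|a 0 0) 1048576)<|c))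

/-- the coset of the class 32 -/
def T32 : List (Row × ℕ) := (beta% delta% lq2608b51449 fun a b c d e _ =>
 (b (a (a 44<|a e<|a (b (a 22<|a 23<|a 2300 (-2048))<|b (a 11<|a 23<|a (-100) 0)<|b (a 4<|a 1<|a 1 2)<|b (a 2<|a 1<|a 1 (-2))<|b (a 1<|a 1<|a (-1) 0)<|c)<|a 0<|a 2<|a 0 2) 2097152)<|
 b (a (a 22<|a d<|a (b (a 11<|a 23<|a 252 0)<|b (a 2<|a 1<|a 1 2)<|b (a 1<|a 1<|a (-1) 0)<|c)<|a 0<|a 2<|a 2 0) 2097152)<|
 b (a (a 22<|a d<|a (b (a 11<|a 23<|a (-516) 0)<|b (a 2<|a 1<|a 1 2)<|b (a 1<|a 1<|a 1 0)<|c)<|a 2<|a 0<|a 0 2) 2097152)<|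
 b (a (a 11<|a d<|a (b (a 1<|a 1<|a 1 2)<|c)<|a 2<|a 0<|a 2 0) 1048576)<|
 b (a (a 22<|a e<|a (b (a 11<|a 23<|a 2300 (-2048))<|b (a 2<|a 1<|a 1 2)<|b (a 1<|a 1<|a 1 (-2))<|c)<|a 2<|a 0<|a 2 0) 1048576)<|c))

/-- the coset of the class 33 -/
def T33 : List (Row × ℕ) := (beta% delta% lq2608b51449 fun a b c d _ _ =>
 (b (a (a 24<|a d<|a (b (a 12<|a 23<|a 252 0)<|b (a 8<|a 5<|a 41 32)<|b (a 6<|a 7<|a 44 0)<|b (a 4<|a 5<|a 9 0)<|b (a 3<|a 3<|a (-4) 0)<|b (a 2<|a 1<|a 5 0)<|b (a 1<|a (-3)<|a (-1) 0)<|c)<|a 6<|a 4<|a 2 4) 3145728)<|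
 b (a (a 24<|a d<|a (b (a 12<|a 23<|a 252 0)<|b (a 8<|a 5<|a 41 32)<|b (a 6<|a 7<|a 44 0)<|b (a 4<|a 5<|a 9 0)<|b (a 3<|a 3<|a 4 0)<|b (a 2<|a 1<|a 5 0)<|b (a 1<|a (-3)<|a 1 0)<|c)<|a 4<|a 6<|a 2 4) 3145728)<|
 b (a (a 12<|a d<|a (b (a 6<|a 7<|a 140 128)<|b (a 4<|a 5<|a 41 32)<|b (a 3<|a 3<|a (-24) 0)<|b (a 2<|a 1<|a 5 8)<|b (a 1<|a (-3)<|a (-3) 0)<|c)<|a 8<|a 2<|a 6 0) 524288)<|
 b (a (a 12<|a d<|a (b (a 6<|a 7<|a 140 128)<|b (a 4<|a 5<|a 41 32)<|b (a 3<|a 3<|a (-24) 0)<|b (a 2<|a 1<|a 5 8)<|b (a 1<|a (-3)<|a 3 0)<|c)<|a 2<|a 8<|a 6 0) 524288)<|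
 b (a (a 12<|a d<|a (b (a 6<|a 7<|a 140 (-128))<|b (a 4<|a 5<|a 41 32)<|b (a 3<|a 3<|a 32 0)<|b (a 2<|a 1<|a 5 (-8))<|b (a 1<|a (-3)<|a 5 0)<|c)<|a 0<|a 10<|a 6 0) 524288)<|
 b (a (a 12<|a d<|a (b (a 6<|a 7<|a 140 128)<|b (a 4<|a 5<|a 41 32)<|b (a 3<|a 3<|a 16 (-32))<|b (a 2<|a 1<|a 5 8)<|b (a 1<|a (-3)<|a (-5) 4)<|c)<|a 10<|a 0<|a 6 0) 262144)<|
 b (a (a 12<|a d<|a (b (a 6<|a 7<|a 140 128)<|b (a 4<|a 5<|a 41 32)<|b (a 3<|a 3<|a 16 32)<|b (a 2<|a 1<|a 5 8)<|b (a 1<|a (-3)<|a (-5) (-4))<|c)<|a 10<|a 0<|a 6 0) 262144)<|c))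

/-- the coset of the class 34 -/
def T34 : List (Row × ℕ) := (beta% delta% lq2608b51449 fun a b c d e _ =>
 (b (a (a 24<|a e<|a (b (a 12<|a 23<|a 2300 (-2048))<|b (a 8<|a (-4)<|a 5 (-4))<|b (a 6<|a (-9)<|a 28 0)<|b (a 4<|a (-4)<|a 5 4)<|b (a 3<|a 7<|a (-28) 0)<|b (a 2<|a 0<|a 1 0)<|b (a 1<|a (-2)<|a (-1) 0)<|c)<|a 0<|a 2<|a 0 0) 4194304)<|
 b (a (a 12<|a d<|a (b (a 6<|a (-9)<|a (-228) 256)<|b (a 4<|a (-4)<|a 5 (-4))<|b (a 3<|a 7<|a 28 0)<|b (a 2<|a 0<|a (-3) 4)<|b (a 1<|a (-2)<|a 1 0)<|c)<|a 2<|a 0<|a 0 0) 2097152)<|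
 b (a (a 12<|a d<|a (b (a 6<|a (-9)<|a 284 0)<|b (a 4<|a (-4)<|a 5 (-4))<|b (a 3<|a 7<|a 28 (-16))<|b (a 2<|a 0<|a 5 0)<|b (a 1<|a (-2)<|a 1 2)<|c)<|a 2<|a 0<|a 0 0) 1048576)<|
 b (a (a 12<|a d<|a (b (a 6<|a (-9)<|a 284 0)<|b (a 4<|a (-4)<|a 5 (-4))<|b (a 3<|a 7<|a 28 16)<|b (a 2<|a 0<|a 5 0)<|b (a 1<|a (-2)<|a 1 (-2))<|c)<|a 2<|a 0<|a 0 0) 1048576)<|c))

/-- the coset of the class 35 -/
def T35 : List (Row × ℕ) := (beta% delta% lq2608b51449 fun a b c d _ _ =>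
 (b (a (a 24<|a d<|a (b (a 12<|a 23<|a (-4) 0)<|b (a 8<|a 5<|a 41 32)<|b (a 6<|a 7<|a 28 0)<|b (a 4<|a 5<|a (-7) 0)<|b (a 3<|a (-1)<|a (-4) 0)<|b (a 2<|a 1<|a 1 0)<|b (a 1<|a (-1)<|a (-1) 0)<|c)<|a 2<|a 4<|a 2 4) 2097152)<|
 b (a (a 24<|a d<|a (b (a 12<|a 23<|a (-4) 0)<|b (a 8<|a 5<|a 41 32)<|b (a 6<|a 7<|a 28 0)<|b (a 4<|a 5<|a (-7) 0)<|b (a 3<|a (-1)<|a 4 0)<|b (a 2<|a 1<|a 1 0)<|b (a 1<|a (-1)<|a 1 0)<|c)<|a 4<|a 2<|a 2 4) 2097152)<|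
 b (a (a 12<|a d<|a (b (a 6<|a 7<|a 140 128)<|b (a 4<|a 5<|a 41 32)<|b (a 3<|a (-1)<|a 12 0)<|b (a 2<|a 1<|a 5 8)<|b (a 1<|a (-1)<|a 3 0)<|c)<|a 2<|a 4<|a 6 0) 524288)<|
 b (a (a 12<|a d<|a (b (a 6<|a 7<|a 140 (-128))<|b (a 4<|a 5<|a 41 32)<|b (a 3<|a (-1)<|a 4 0)<|b (a 2<|a 1<|a 5 (-8))<|b (a 1<|a (-1)<|a 1 0)<|c)<|a 0<|a 6<|a 2 4) 524288)<|
 b (a (a 12<|a d<|a (b (a 6<|a 7<|a 140 128)<|b (a 4<|a 5<|a 41 32)<|b (a 3<|a (-1)<|a (-12) 0)<|b (a 2<|a 1<|a 5 8)<|b (a 1<|a (-1)<|a (-3) 0)<|c)<|a 4<|a 2<|a 2 4) 524288)<|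
 b (a (a 24<|a d<|a (b (a 12<|a 23<|a 252 0)<|b (a 8<|a 5<|a 41 32)<|b (a 6<|a 7<|a 44 0)<|b (a 4<|a 5<|a 9 0)<|b (a 3<|a (-1)<|a 0 0)<|b (a 2<|a 1<|a 5 0)<|b (a 1<|a (-1)<|a (-3) 0)<|c)<|a 4<|a 2<|a 6 0) 524288)<|
 b (a (a 24<|a d<|a (b (a 12<|a 23<|a 252 0)<|b (a 8<|a 5<|a 41 32)<|b (a 6<|a 7<|a 44 0)<|b (a 4<|a 5<|a 9 0)<|b (a 3<|a (-1)<|a (-8) 0)<|b (a 2<|a 1<|a 5 0)<|b (a 1<|a (-1)<|a 1 0)<|c)<|a 0<|a 6<|a 6 0) 524288)<|
 b (a (a 24<|a d<|a (b (a 12<|a 23<|a 252 0)<|b (a 8<|a 5<|a 41 32)<|b (a 6<|a 7<|a 44 0)<|b (a 4<|a 5<|a 9 0)<|b (a 3<|a (-1)<|a 0 0)<|b (a 2<|a 1<|a 5 0)<|b (a 1<|a (-1)<|a 3 0)<|c)<|a 2<|a 4<|a 2 4) 524288)<|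
 b (a (a 24<|a d<|a (b (a 12<|a 23<|a 252 0)<|b (a 8<|a 5<|a 41 32)<|b (a 6<|a 7<|a 44 0)<|b (a 4<|a 5<|a 9 0)<|b (a 3<|a (-1)<|a 8 0)<|b (a 2<|a 1<|a 5 0)<|b (a 1<|a (-1)<|a (-1) 0)<|c)<|a 6<|a 0<|a 2 4) 524288)<|
 b (a (a 12<|a d<|a (b (a 6<|a 7<|a 140 128)<|b (a 4<|a 5<|a 41 32)<|b (a 3<|a (-1)<|a (-4) 16)<|b (a 2<|a 1<|a 5 8)<|b (a 1<|a (-1)<|a (-1) 4)<|c)<|a 6<|a 0<|a 6 0) 262144)<|
 b (a (a 12<|a d<|a (b (a 6<|a 7<|a 140 128)<|b (a 4<|a 5<|a 41 32)<|b (a 3<|a (-1)<|a (-4) (-16))<|b (a 2<|a 1<|a 5 8)<|b (a 1<|a (-1)<|a (-1) (-4))<|c)<|a 6<|a 0<|a 6 0) 262144)<|c))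

/-- the coset of the class 36 -/
def T36 : List (Row × ℕ) := (beta% delta% lq2608b51449 fun a b c d e _ =>
 (b (a (a 24<|a e<|a (b (a 12<|a 23<|a 2300 (-2048))<|b (a 8<|a (-4)<|a 5 (-4))<|b (a 6<|a 7<|a (-20) 0)<|b (a 4<|a (-4)<|a 5 4)<|b (a 3<|a 3<|a (-4) 0)<|b (a 2<|a 4<|a 1 0)<|b (a 1<|a 0<|a (-1) 0)<|c)<|a 0<|a 2<|a 0 0) 4194304)<|
 b (a (a 12<|a d<|a (b (a 6<|a 7<|a 140 (-128))<|b (a 4<|a (-4)<|a 5 (-4))<|b (a 3<|a 3<|a (-8) 0)<|b (a 2<|a 4<|a 5 4)<|b (a 1<|a 0<|a 1 0)<|c)<|a 2<|a 0<|a 0 0) 2097152)<|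
 b (a (a 12<|a d<|a (b (a 6<|a 7<|a 12 0)<|b (a 4<|a (-4)<|a 5 (-4))<|b (a 3<|a 3<|a 16 (-16))<|b (a 2<|a 4<|a (-3) 0)<|b (a 1<|a 0<|a 1 2)<|c)<|a 2<|a 0<|a 0 0) 1048576)<|
 b (a (a 12<|a d<|a (b (a 6<|a 7<|a 12 0)<|b (a 4<|a (-4)<|a 5 (-4))<|b (a 3<|a 3<|a 16 16)<|b (a 2<|a 4<|a (-3) 0)<|b (a 1<|a 0<|a 1 (-2))<|c)<|a 2<|a 0<|a 0 0) 1048576)<|c))

/-- the coset of the class 37 -/
def T37 : List (Row × ℕ) := (beta% delta% lq2608b51449 fun a b c d _ _ =>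
 (b (a (a 12<|a d<|a (b (a 6<|a 7<|a 140 (-128))<|b (a 4<|a (-4)<|a 5 (-4))<|b (a 3<|a 3<|a (-8) 0)<|b (a 2<|a 4<|a 5 4)<|b (a 1<|a 0<|a 1 0)<|c)<|a 6<|a 4<|a 0 0) 3145728)<|
 b (a (a 12<|a d<|a (b (a 6<|a 7<|a 140 128)<|b (a 4<|a (-4)<|a 5 (-4))<|b (a 3<|a 3<|a 16 0)<|b (a 2<|a 4<|a 5 (-4))<|b (a 1<|a 0<|a 1 0)<|c)<|a 2<|a 8<|a 0 0) 1572864)<|
 b (a (a 12<|a d<|a (b (a 6<|a 7<|a 140 (-128))<|b (a 4<|a (-4)<|a 5 (-4))<|b (a 3<|a 3<|a 0 0)<|b (a 2<|a 4<|a 5 4)<|b (a 1<|a 0<|a (-3) 0)<|c)<|a 6<|a 4<|a 0 0) 1572864)<|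
 b (a (a 12<|a d<|a (b (a 6<|a 7<|a 140 128)<|b (a 4<|a (-4)<|a 5 (-4))<|b (a 3<|a 3<|a (-24) 0)<|b (a 2<|a 4<|a 5 (-4))<|b (a 1<|a 0<|a (-3) 0)<|c)<|a 2<|a 8<|a 0 0) 1048576)<|
 b (a (a 12<|a d<|a (b (a 6<|a 7<|a 140 (-128))<|b (a 4<|a (-4)<|a 5 (-4))<|b (a 3<|a 3<|a 32 0)<|b (a 2<|a 4<|a 5 4)<|b (a 1<|a 0<|a 5 0)<|c)<|a 6<|a 4<|a 0 0) 524288)<|
 b (a (a 12<|a d<|a (b (a 6<|a 7<|a 140 128)<|b (a 4<|a (-4)<|a 5 (-4))<|b (a 3<|a 3<|a 16 (-32))<|b (a 2<|a 4<|a 5 (-4))<|b (a 1<|a 0<|a 1 4)<|c)<|a 10<|a 0<|a 0 0) 262144)<|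
 b (a (a 12<|a d<|a (b (a 6<|a 7<|a 140 128)<|b (a 4<|a (-4)<|a 5 (-4))<|b (a 3<|a 3<|a 16 32)<|b (a 2<|a 4<|a 5 (-4))<|b (a 1<|a 0<|a 1 (-4))<|c)<|a 10<|a 0<|a 0 0) 262144)<|c))

/-- the coset of the class 38 -/
def T38 : List (Row × ℕ) := (beta% delta% lq2608b51449 fun a b c d e _ =>
 (b (a (a 24<|a e<|a (b (a 12<|a 23<|a 2300 (-2048))<|b (a 8<|a 5<|a 41 32)<|b (a 6<|a (-9)<|a 28 0)<|b (a 4<|a 5<|a 41 (-32))<|b (a 3<|a 7<|a 4 0)<|b (a 2<|a (-3)<|a 1 0)<|b (a 1<|a 1<|a 1 0)<|c)<|a 2<|a 0<|a 2 4) 3145728)<|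
 b (a (a 12<|a d<|a (b (a 6<|a (-9)<|a 28 0)<|b (a 4<|a 5<|a 41 32)<|b (a 3<|a 7<|a (-4) 0)<|b (a 2<|a (-3)<|a 1 0)<|b (a 1<|a 1<|a (-1) 0)<|c)<|a 0<|a 2<|a 2 4) 3145728)<|
 b (a (a 24<|a e<|a (b (a 12<|a 23<|a 2300 (-2048))<|b (a 8<|a 5<|a 41 32)<|b (a 6<|a (-9)<|a 28 0)<|b (a 4<|a 5<|a 41 (-32))<|b (a 3<|a 7<|a (-28) 0)<|b (a 2<|a (-3)<|a 1 0)<|b (a 1<|a 1<|a (-1) 0)<|c)<|a 0<|a 2<|a 6 0) 1048576)<|
 b (a (a 12<|a d<|a (b (a 6<|a (-9)<|a (-228) 256)<|b (a 4<|a 5<|a 41 32)<|b (a 3<|a 7<|a 28 0)<|b (a 2<|a (-3)<|a (-15) 16)<|b (a 1<|a 1<|a 1 0)<|c)<|a 2<|a 0<|a 6 0) 524288)<|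
 b (a (a 12<|a d<|a (b (a 6<|a (-9)<|a 284 0)<|b (a 4<|a 5<|a 41 32)<|b (a 3<|a 7<|a 28 16)<|b (a 2<|a (-3)<|a 17 0)<|b (a 1<|a 1<|a 1 4)<|c)<|a 2<|a 0<|a 6 0) 262144)<|
 b (a (a 12<|a d<|a (b (a 6<|a (-9)<|a 284 0)<|b (a 4<|a 5<|a 41 32)<|b (a 3<|a 7<|a 28 (-16))<|b (a 2<|a (-3)<|a 17 0)<|b (a 1<|a 1<|a 1 (-4))<|c)<|a 2<|a 0<|a 6 0) 262144)<|c))

/-- the coset of the class 39 -/
def T39 : List (Row × ℕ) := (beta% delta% lq2608b51449 fun a b c d _ _ =>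
 (b (a (a 24<|a d<|a (b (a 12<|a 23<|a 252 0)<|b (a 8<|a 5<|a 41 32)<|b (a 6<|a 7<|a 12 0)<|b (a 4<|a 5<|a 9 0)<|b (a 3<|a (-5)<|a (-16) 0)<|b (a 2<|a 1<|a (-3) 0)<|b (a 1<|a 1<|a (-1) 0)<|c)<|a 2<|a 0<|a 2 4) 2097152)<|
 b (a (a 24<|a d<|a (b (a 12<|a 23<|a 252 0)<|b (a 8<|a 5<|a 41 32)<|b (a 6<|a 7<|a 12 0)<|b (a 4<|a 5<|a 9 0)<|b (a 3<|a (-5)<|a 16 0)<|b (a 2<|a 1<|a (-3) 0)<|b (a 1<|a 1<|a 1 0)<|c)<|a 0<|a 2<|a 2 4) 2097152)<|
 b (a (a 24<|a d<|a (b (a 12<|a 23<|a 252 0)<|b (a 8<|a 5<|a 41 32)<|b (a 6<|a 7<|a 44 0)<|b (a 4<|a 5<|a 9 0)<|b (a 3<|a (-5)<|a 4 0)<|b (a 2<|a 1<|a 5 0)<|b (a 1<|a 1<|a 1 0)<|c)<|a 0<|a 2<|a 2 4) 1048576)<|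
 b (a (a 24<|a d<|a (b (a 12<|a 23<|a 252 0)<|b (a 8<|a 5<|a 41 32)<|b (a 6<|a 7<|a 44 0)<|b (a 4<|a 5<|a 9 0)<|b (a 3<|a (-5)<|a (-4) 0)<|b (a 2<|a 1<|a 5 0)<|b (a 1<|a 1<|a (-1) 0)<|c)<|a 2<|a 0<|a 2 4) 1048576)<|
 b (a (a 12<|a d<|a (b (a 6<|a 7<|a 140 128)<|b (a 4<|a 5<|a 41 32)<|b (a 3<|a (-5)<|a 16 0)<|b (a 2<|a 1<|a 5 8)<|b (a 1<|a 1<|a 1 0)<|c)<|a 0<|a 2<|a 6 0) 524288)<|
 b (a (a 12<|a d<|a (b (a 6<|a 7<|a 140 (-128))<|b (a 4<|a 5<|a 41 32)<|b (a 3<|a (-5)<|a 40 0)<|b (a 2<|a 1<|a 5 (-8))<|b (a 1<|a 1<|a 1 0)<|c)<|a 0<|a 2<|a 6 0) 524288)<|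
 b (a (a 12<|a d<|a (b (a 6<|a 7<|a 140 128)<|b (a 4<|a 5<|a 41 32)<|b (a 3<|a (-5)<|a (-16) 0)<|b (a 2<|a 1<|a 5 8)<|b (a 1<|a 1<|a (-1) 0)<|c)<|a 2<|a 0<|a 6 0) 524288)<|
 b (a (a 12<|a d<|a (b (a 6<|a 7<|a 140 128)<|b (a 4<|a 5<|a 41 32)<|b (a 3<|a (-5)<|a (-40) (-32))<|b (a 2<|a 1<|a 5 8)<|b (a 1<|a 1<|a (-1) 4)<|c)<|a 2<|a 0<|a 6 0) 262144)<|
 b (a (a 12<|a d<|a (b (a 6<|a 7<|a 140 128)<|b (a 4<|a 5<|a 41 32)<|b (a 3<|a (-5)<|a (-40) 32)<|b (a 2<|a 1<|a 5 8)<|b (a 1<|a 1<|a (-1) (-4))<|c)<|a 2<|a 0<|a 6 0) 262144)<|c))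

/-- the coset of the class 40 -/
def T40 : List (Row × ℕ) := (beta% delta% lq2608b51449 fun a b c d e _ =>
 (b (a (a 24<|a e<|a (b (a 12<|a 23<|a 2300 (-2048))<|b (a 8<|a (-4)<|a 5 (-4))<|b (a 6<|a (-9)<|a 28 0)<|b (a 4<|a (-4)<|a 5 4)<|b (a 3<|a (-1)<|a (-4) 0)<|b (a 2<|a 0<|a 1 0)<|b (a 1<|a 2<|a (-1) 0)<|c)<|a 0<|a 2<|a 0 0) 4194304)<|
 b (a (a 12<|a d<|a (b (a 6<|a (-9)<|a (-228) 256)<|b (a 4<|a (-4)<|a 5 (-4))<|b (a 3<|a (-1)<|a 4 0)<|b (a 2<|a 0<|a (-3) 4)<|b (a 1<|a 2<|a 1 0)<|c)<|a 2<|a 0<|a 0 0) 2097152)<|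
 b (a (a 12<|a d<|a (b (a 6<|a (-9)<|a 284 0)<|b (a 4<|a (-4)<|a 5 (-4))<|b (a 3<|a (-1)<|a 4 (-16))<|b (a 2<|a 0<|a 5 0)<|b (a 1<|a 2<|a 1 2)<|c)<|a 2<|a 0<|a 0 0) 1048576)<|
 b (a (a 12<|a d<|a (b (a 6<|a (-9)<|a 284 0)<|b (a 4<|a (-4)<|a 5 (-4))<|b (a 3<|a (-1)<|a 4 16)<|b (a 2<|a 0<|a 5 0)<|b (a 1<|a 2<|a 1 (-2))<|c)<|a 2<|a 0<|a 0 0) 1048576)<|c))

/-- the coset of the class 41 -/
def T41 : List (Row × ℕ) := (beta% delta% lq2608b51449 fun a b c d e _ =>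
 (b (a (a 14<|a d<|a (b (a 7<|a (-9)<|a 28 0)<|b (a 2<|a 2<|a 4 4)<|b (a 1<|a (-2)<|a 0 0)<|c)<|a 4<|a 4<|a 4 4) 2097152)<|
 b (a (a 14<|a d<|a (b (a 7<|a (-9)<|a (-44) 0)<|b (a 2<|a 2<|a 4 4)<|b (a 1<|a (-2)<|a (-2) 0)<|c)<|a 6<|a 2<|a 4 4) 2097152)<|
 b (a (a 28<|a e<|a (b (a 14<|a 23<|a 2300 (-2048))<|b (a 7<|a (-9)<|a (-12) 0)<|b (a 4<|a 2<|a 4 4)<|b (a 2<|a 2<|a 4 (-4))<|b (a 1<|a (-2)<|a 2 0)<|c)<|a 2<|a 6<|a 4 4) 2097152)<|
 b (a (a 28<|a e<|a (b (a 14<|a 23<|a 2300 (-2048))<|b (a 7<|a (-9)<|a 28 0)<|b (a 4<|a 2<|a 4 4)<|b (a 2<|a 2<|a 4 (-4))<|b (a 1<|a (-2)<|a 0 0)<|c)<|a 4<|a 4<|a 0 8) 1048576)<|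
 b (a (a 14<|a d<|a (b (a 7<|a (-9)<|a 284 0)<|b (a 2<|a 2<|a 4 4)<|b (a 1<|a (-2)<|a 4 0)<|c)<|a 0<|a 8<|a 8 0) 524288)<|
 b (a (a 14<|a d<|a (b (a 7<|a (-9)<|a (-228) 256)<|b (a 2<|a 2<|a 4 4)<|b (a 1<|a (-2)<|a (-4) 4)<|c)<|a 8<|a 0<|a 8 0) 262144)<|
 b (a (a 14<|a d<|a (b (a 7<|a (-9)<|a (-228) (-256))<|b (a 2<|a 2<|a 4 4)<|b (a 1<|a (-2)<|a (-4) (-4))<|c)<|a 8<|a 0<|a 8 0) 262144)<|c))

/-- the coset of the class 42 -/
def T42 : List (Row × ℕ) := (beta% delta% lq2608b51449 fun a b c d _ _ =>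
 (b (a (a 28<|a d<|a (b (a 14<|a 23<|a 252 0)<|b (a 7<|a 7<|a (-28) 0)<|b (a 4<|a 2<|a 4 4)<|b (a 2<|a 2<|a 0 0)<|b (a 1<|a 0<|a 0 0)<|c)<|a 0<|a 0<|a 2 2) 2097152)<|
 b (a (a 28<|a d<|a (b (a 14<|a 23<|a 252 0)<|b (a 7<|a 7<|a (-84) 0)<|b (a 4<|a 2<|a 4 4)<|b (a 2<|a 2<|a 0 0)<|b (a 1<|a 0<|a 0 0)<|c)<|a 0<|a 0<|a 2 2) 2097152)<|
 b (a (a 28<|a d<|a (b (a 14<|a 23<|a (-4) 0)<|b (a 7<|a 7<|a 28 0)<|b (a 4<|a 2<|a 4 4)<|b (a 2<|a 2<|a (-4) 0)<|b (a 1<|a 0<|a 0 0)<|c)<|a 0<|a 0<|a 0 4) 2097152)<|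
 b (a (a 14<|a d<|a (b (a 7<|a 7<|a 140 128)<|b (a 2<|a 2<|a 4 4)<|b (a 1<|a 0<|a 0 2)<|c)<|a 0<|a 0<|a 4 0) 1048576)<|
 b (a (a 14<|a d<|a (b (a 7<|a 7<|a 140 (-128))<|b (a 2<|a 2<|a 4 4)<|b (a 1<|a 0<|a 0 (-2))<|c)<|a 0<|a 0<|a 4 0) 1048576)<|c))

/-- the coset of the class 43 -/
def T43 : List (Row × ℕ) := (beta% delta% lq2608b51449 fun a b c d e _ =>
 (b (a (a 30<|a d<|a (b (a 15<|a 23<|a (-4) 0)<|b (a 10<|a 5<|a 41 32)<|b (a 6<|a 3<|a 10 8)<|b (a 5<|a 5<|a (-1) 0)<|b (a 3<|a 3<|a (-4) 0)<|b (a 2<|a 0<|a 1 2)<|b (a 1<|a 0<|a (-1) 0)<|c)<|a 0<|a 2<|a 0 0) 2097152)<|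
 b (a (a 30<|a d<|a (b (a 15<|a 23<|a (-516) 0)<|b (a 10<|a 5<|a 41 32)<|b (a 6<|a 3<|a 10 8)<|b (a 5<|a 5<|a (-39) 0)<|b (a 3<|a 3<|a 4 0)<|b (a 2<|a 0<|a 1 2)<|b (a 1<|a 0<|a 1 0)<|c)<|a 2<|a 0<|a 0 0) 2097152)<|
 b (a (a 60<|a e<|a (b (a 30<|a 23<|a 2300 (-2048))<|b (a 20<|a 5<|a 41 32)<|b (a 15<|a 23<|a (-100) 0)<|b (a 12<|a 3<|a 10 8)<|b (a 10<|a 5<|a 41 (-32))<|b (a 6<|a 3<|a 10 (-8))<|b (a 5<|a 5<|a (-1) 0)<|b (a 4<|a 0<|a 1 2)<|b (a 3<|a 3<|a (-10) 0)<|b (a 2<|a 0<|a 1 (-2))<|b (a 1<|a 0<|a (-1) 0)<|c)<|a 0<|a 2<|a 0 0) 2097152)<|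
 b (a (a 15<|a d<|a (b (a 5<|a 5<|a 41 32)<|b (a 3<|a 3<|a 10 8)<|b (a 1<|a 0<|a 1 2)<|c)<|a 2<|a 0<|a 0 0) 1048576)<|
 b (a (a 30<|a e<|a (b (a 15<|a 23<|a 2300 (-2048))<|b (a 10<|a 5<|a 41 32)<|b (a 6<|a 3<|a 10 8)<|b (a 5<|a 5<|a 41 (-32))<|b (a 3<|a 3<|a 10 (-8))<|b (a 2<|a 0<|a 1 2)<|b (a 1<|a 0<|a 1 (-2))<|c)<|a 2<|a 0<|a 0 0) 1048576)<|c))

/-- the coset of the class 44 -/
def T44 : List (Row × ℕ) := (beta% delta% lq2608b51449 fun a b c d e _ =>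
 (b (a (a 15<|a d<|a (b (a 5<|a (-4)<|a 5 (-4))<|b (a 3<|a (-2)<|a 0 (-2))<|b (a 1<|a 1<|a 0 1)<|c)<|a 0<|a 0<|a 0 0) 4194304)<|
 b (a (a 30<|a e<|a (b (a 15<|a 23<|a 2300 (-2048))<|b (a 10<|a (-4)<|a 5 (-4))<|b (a 6<|a (-2)<|a 0 (-2))<|b (a 5<|a (-4)<|a 5 4)<|b (a 3<|a (-2)<|a 0 2)<|b (a 2<|a 1<|a 0 1)<|b (a 1<|a 1<|a 0 (-1))<|c)<|a 0<|a 0<|a 0 0) 4194304)<|c))

/-- the coset of the class 45 -/
def T45 : List (Row × ℕ) := (beta% delta% lq2608b51449 fun a b c d e _ =>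
 (b (a (a 32<|a e<|a (b (a 16<|a 23<|a 2300 (-2048))<|b (a 8<|a (-9)<|a 28 0)<|b (a 4<|a (-1)<|a 4 0)<|b (a 2<|a 3<|a 0 0)<|b (a 1<|a (-1)<|a 0 0)<|c)<|a 2<|a 2<|a 0 2) 4194304)<|
 b (a (a 16<|a d<|a (b (a 8<|a (-9)<|a (-228) 256)<|b (a 4<|a (-1)<|a 4 0)<|b (a 2<|a 3<|a 4 0)<|b (a 1<|a (-1)<|a 2 0)<|c)<|a 0<|a 4<|a 2 0) 2097152)<|
 b (a (a 16<|a d<|a (b (a 8<|a (-9)<|a 284 0)<|b (a 4<|a (-1)<|a 4 16)<|b (a 2<|a 3<|a 4 4)<|b (a 1<|a (-1)<|a (-2) 2)<|c)<|a 4<|a 0<|a 2 0) 1048576)<|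
 b (a (a 16<|a d<|a (b (a 8<|a (-9)<|a 284 0)<|b (a 4<|a (-1)<|a 4 16)<|b (a 2<|a 3<|a 4 4)<|b (a 1<|a (-1)<|a (-2) (-2))<|c)<|a 4<|a 0<|a 2 0) 1048576)<|c))

/-- the coset of the class 46 -/
def T46 : List (Row × ℕ) := (beta% delta% lq2608b51449 fun a b c d e _ =>
 (b (a (a 32<|a e<|a (b (a 16<|a 23<|a 2300 (-2048))<|b (a 8<|a (-9)<|a 28 0)<|b (a 4<|a (-1)<|a 4 0)<|b (a 2<|a (-1)<|a 0 0)<|b (a 1<|a 1<|a 0 0)<|c)<|a 0<|a 0<|a 0 2) 4194304)<|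
 b (a (a 16<|a d<|a (b (a 8<|a (-9)<|a (-228) 256)<|b (a 4<|a (-1)<|a 4 0)<|b (a 2<|a (-1)<|a 0 0)<|b (a 1<|a 1<|a 0 0)<|c)<|a 0<|a 0<|a 2 0) 2097152)<|
 b (a (a 16<|a d<|a (b (a 8<|a (-9)<|a 284 0)<|b (a 4<|a (-1)<|a 4 16)<|b (a 2<|a (-1)<|a 0 4)<|b (a 1<|a 1<|a 0 2)<|c)<|a 0<|a 0<|a 2 0) 1048576)<|
 b (a (a 16<|a d<|a (b (a 8<|a (-9)<|a 284 0)<|b (a 4<|a (-1)<|a 4 16)<|b (a 2<|a (-1)<|a 0 4)<|b (a 1<|a 1<|a 0 (-2))<|c)<|a 0<|a 0<|a 2 0) 1048576)<|c))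

/-- the coset of the class 47 -/
def T47 : List (Row × ℕ) := (beta% delta% lq2608b51449 fun a b c d e _ =>
 (b (a (a 36<|a e<|a (b (a 18<|a 23<|a 2300 (-2048))<|b (a 12<|a (-4)<|a 5 (-4))<|b (a 9<|a (-9)<|a (-12) 0)<|b (a 6<|a (-4)<|a 5 4)<|b (a 4<|a 2<|a 2 2)<|b (a 3<|a 0<|a (-3) 0)<|b (a 2<|a 2<|a 2 (-2))<|b (a 1<|a 0<|a 0 0)<|c)<|a 0<|a 4<|a 0 0) 2097152)<|
 b (a (a 18<|a d<|a (b (a 9<|a (-9)<|a (-44) 0)<|b (a 6<|a (-4)<|a 5 (-4))<|b (a 3<|a 0<|a 1 0)<|b (a 2<|a 2<|a 2 2)<|b (a 1<|a 0<|a (-2) 0)<|c)<|a 2<|a 2<|a 0 0) 2097152)<|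
 b (a (a 18<|a d<|a (b (a 9<|a (-9)<|a 284 0)<|b (a 6<|a (-4)<|a 5 (-4))<|b (a 3<|a 0<|a 5 0)<|b (a 2<|a 2<|a 2 2)<|b (a 1<|a 0<|a 2 0)<|c)<|a 2<|a 2<|a 0 0) 2097152)<|
 b (a (a 18<|a d<|a (b (a 9<|a (-9)<|a (-228) (-256))<|b (a 6<|a (-4)<|a 5 (-4))<|b (a 3<|a 0<|a (-3) (-4))<|b (a 2<|a 2<|a 2 2)<|b (a 1<|a 0<|a 0 2)<|c)<|a 4<|a 0<|a 0 0) 1048576)<|
 b (a (a 18<|a d<|a (b (a 9<|a (-9)<|a (-228) 256)<|b (a 6<|a (-4)<|a 5 (-4))<|b (a 3<|a 0<|a (-3) 4)<|b (a 2<|a 2<|a 2 2)<|b (a 1<|a 0<|a 0 (-2))<|c)<|a 4<|a 0<|a 0 0) 1048576)<|c))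

/-- the coset of the class 48 -/
def T48 : List (Row × ℕ) := (beta% delta% lq2608b51449 fun a b c d e _ =>
 (b (a (a 20<|a d<|a (b (a 10<|a (-1)<|a (-52) 0)<|b (a 5<|a (-1)<|a 0 0)<|b (a 4<|a 3<|a 10 8)<|b (a 2<|a (-1)<|a (-2) 0)<|b (a 1<|a (-1)<|a 0 0)<|c)<|a 0<|a 0<|a 0 2) 2097152)<|
 b (a (a 40<|a d<|a (b (a 20<|a 23<|a 252 0)<|b (a 10<|a (-1)<|a (-12) 64)<|b (a 8<|a 3<|a 10 8)<|b (a 5<|a (-1)<|a 0 0)<|b (a 4<|a 3<|a 2 0)<|b (a 2<|a (-1)<|a (-2) 4)<|b (a 1<|a (-1)<|a 0 0)<|c)<|a 0<|a 0<|a 2 0) 2097152)<|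
 b (a (a 40<|a e<|a (b (a 20<|a 23<|a 2300 (-2048))<|b (a 10<|a (-1)<|a 12 0)<|b (a 8<|a 3<|a 10 8)<|b (a 5<|a (-1)<|a 0 0)<|b (a 4<|a 3<|a 10 (-8))<|b (a 2<|a (-1)<|a 2 0)<|b (a 1<|a (-1)<|a 0 0)<|c)<|a 0<|a 0<|a 0 2) 2097152)<|
 b (a (a 40<|a d<|a (b (a 20<|a 23<|a 252 0)<|b (a 10<|a (-1)<|a 52 0)<|b (a 8<|a 3<|a 10 8)<|b (a 5<|a (-1)<|a 0 (-8))<|b (a 4<|a 3<|a 2 0)<|b (a 2<|a (-1)<|a 2 0)<|b (a 1<|a (-1)<|a 0 2)<|c)<|a 0<|a 0<|a 2 0) 1048576)<|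
 b (a (a 40<|a d<|a (b (a 20<|a 23<|a 252 0)<|b (a 10<|a (-1)<|a 52 0)<|b (a 8<|a 3<|a 10 8)<|b (a 5<|a (-1)<|a 0 8)<|b (a 4<|a 3<|a 2 0)<|b (a 2<|a (-1)<|a 2 0)<|b (a 1<|a (-1)<|a 0 (-2))<|c)<|a 0<|a 0<|a 2 0) 1048576)<|c))

/-- the coset of the class 49 -/
def T49 : List (Row × ℕ) := (beta% delta% lq2608b51449 fun a b c d _ _ =>
 (b (a (a 20<|a d<|a (b (a 10<|a 7<|a 140 (-128))<|b (a 5<|a (-5)<|a 0 0)<|b (a 4<|a (-2)<|a 0 (-2))<|b (a 2<|a 2<|a 0 2)<|b (a 1<|a 0<|a 0 0)<|c)<|a 0<|a 0<|a 0 0) 4194304)<|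
 b (a (a 20<|a d<|a (b (a 10<|a 7<|a 140 (-128))<|b (a 5<|a (-5)<|a 40 0)<|b (a 4<|a (-2)<|a 0 (-2))<|b (a 2<|a 2<|a 0 2)<|b (a 1<|a 0<|a 0 0)<|c)<|a 0<|a 0<|a 0 0) 2097152)<|
 b (a (a 20<|a d<|a (b (a 10<|a 7<|a 140 128)<|b (a 5<|a (-5)<|a (-40) 32)<|b (a 4<|a (-2)<|a 0 (-2))<|b (a 2<|a 2<|a 0 (-2))<|b (a 1<|a 0<|a 0 2)<|c)<|a 0<|a 0<|a 0 0) 1048576)<|
 b (a (a 20<|a d<|a (b (a 10<|a 7<|a 140 128)<|b (a 5<|a (-5)<|a (-40) (-32))<|b (a 4<|a (-2)<|a 0 (-2))<|b (a 2<|a 2<|a 0 (-2))<|b (a 1<|a 0<|a 0 (-2))<|c)<|a 0<|a 0<|a 0 0) 1048576)<|c))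

/-- the coset of the class 50 -/
def T50 : List (Row × ℕ) := (beta% delta% lq2608b51449 fun a b c d e _ =>
 (b (a (a 23<|a d<|a (b (a 1<|a 0<|a 0 1)<|c)<|a 0<|a 0<|a 0 0) 4194304)<|
 b (a (a 46<|a e<|a (b (a 23<|a 23<|a 2300 (-2048))<|b (a 2<|a 0<|a 0 1)<|b (a 1<|a 0<|a 0 (-1))<|c)<|a 0<|a 0<|a 0 0) 4194304)<|c))

/-- the coset of the class 51 -/
def T51 : List (Row × ℕ) := (beta% delta% lq2608b51449 fun a b c d e _ =>
 (b (a (a 48<|a e<|a (b (a 24<|a 23<|a 2300 (-2048))<|b (a 16<|a 5<|a 41 32)<|b (a 12<|a (-9)<|a 28 0)<|b (a 8<|a 5<|a 41 (-32))<|b (a 6<|a 7<|a 4 0)<|b (a 4<|a (-3)<|a 1 0)<|b (a 3<|a (-1)<|a (-4) 0)<|b (a 2<|a 1<|a 1 0)<|b (a 1<|a (-1)<|a (-1) 0)<|c)<|a 2<|a 0<|a 0 2) 2097152)<|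
 b (a (a 24<|a d<|a (b (a 12<|a (-9)<|a (-228) 256)<|b (a 8<|a 5<|a 41 32)<|b (a 6<|a 7<|a 28 0)<|b (a 4<|a (-3)<|a (-15) 16)<|b (a 3<|a (-1)<|a 4 0)<|b (a 2<|a 1<|a 1 0)<|b (a 1<|a (-1)<|a 1 0)<|c)<|a 0<|a 2<|a 2 0) 2097152)<|
 b (a (a 48<|a e<|a (b (a 24<|a 23<|a 2300 (-2048))<|b (a 16<|a 5<|a 41 32)<|b (a 12<|a (-9)<|a 28 0)<|b (a 8<|a 5<|a 41 (-32))<|b (a 6<|a 7<|a 4 0)<|b (a 4<|a (-3)<|a 1 0)<|b (a 3<|a (-1)<|a 4 0)<|b (a 2<|a 1<|a 1 0)<|b (a 1<|a (-1)<|a 1 0)<|c)<|a 0<|a 2<|a 0 2) 2097152)<|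
 b (a (a 24<|a d<|a (b (a 12<|a (-9)<|a 284 0)<|b (a 8<|a 5<|a 41 32)<|b (a 6<|a 7<|a 28 16)<|b (a 4<|a (-3)<|a 17 0)<|b (a 3<|a (-1)<|a (-4) (-4))<|b (a 2<|a 1<|a 1 4)<|b (a 1<|a (-1)<|a (-1) 2)<|c)<|a 2<|a 0<|a 2 0) 1048576)<|
 b (a (a 24<|a d<|a (b (a 12<|a (-9)<|a 284 0)<|b (a 8<|a 5<|a 41 32)<|b (a 6<|a 7<|a 28 16)<|b (a 4<|a (-3)<|a 17 0)<|b (a 3<|a (-1)<|a (-4) 4)<|b (a 2<|a 1<|a 1 4)<|b (a 1<|a (-1)<|a (-1) (-2))<|c)<|a 2<|a 0<|a 2 0) 1048576)<|c))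

/-- the coset of the class 52 -/
def T52 : List (Row × ℕ) := (beta% delta% lq2608b51449 fun a b c d _ _ =>
 (b (a (a 24<|a d<|a (b (a 12<|a 7<|a 140 (-128))<|b (a 8<|a (-4)<|a 5 (-4))<|b (a 6<|a 3<|a 32 0)<|b (a 4<|a 4<|a 5 4)<|b (a 3<|a (-3)<|a (-2) 0)<|b (a 2<|a 0<|a 5 0)<|b (a 1<|a 0<|a 1 0)<|c)<|a 0<|a 2<|a 0 0) 2097152)<|
 b (a (a 24<|a d<|a (b (a 12<|a 7<|a 140 (-128))<|b (a 8<|a (-4)<|a 5 (-4))<|b (a 6<|a 3<|a 0 0)<|b (a 4<|a 4<|a 5 4)<|b (a 3<|a (-3)<|a 10 0)<|b (a 2<|a 0<|a (-3) 0)<|b (a 1<|a 0<|a 1 0)<|c)<|a 0<|a 2<|a 0 0) 2097152)<|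
 b (a (a 24<|a d<|a (b (a 12<|a 7<|a 140 128)<|b (a 8<|a (-4)<|a 5 (-4))<|b (a 6<|a 3<|a 16 (-32))<|b (a 4<|a 4<|a 5 (-4))<|b (a 3<|a (-3)<|a 2 0)<|b (a 2<|a 0<|a 1 4)<|b (a 1<|a 0<|a (-1) 0)<|c)<|a 2<|a 0<|a 0 0) 2097152)<|
 b (a (a 24<|a d<|a (b (a 12<|a 7<|a 140 128)<|b (a 8<|a (-4)<|a 5 (-4))<|b (a 6<|a 3<|a 16 0)<|b (a 4<|a 4<|a 5 (-4))<|b (a 3<|a (-3)<|a (-10) 8)<|b (a 2<|a 0<|a 1 0)<|b (a 1<|a 0<|a (-1) 2)<|c)<|a 2<|a 0<|a 0 0) 1048576)<|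
 b (a (a 24<|a d<|a (b (a 12<|a 7<|a 140 128)<|b (a 8<|a (-4)<|a 5 (-4))<|b (a 6<|a 3<|a 16 0)<|b (a 4<|a 4<|a 5 (-4))<|b (a 3<|a (-3)<|a (-10) (-8))<|b (a 2<|a 0<|a 1 0)<|b (a 1<|a 0<|a (-1) (-2))<|c)<|a 2<|a 0<|a 0 0) 1048576)<|c))

/-- the coset of the class 53 -/
def T53 : List (Row × ℕ) := (beta% delta% lq2608b51449 fun a b c d e _ =>
 (b (a (a 56<|a e<|a (b (a 28<|a 23<|a 2300 (-2048))<|b (a 14<|a (-9)<|a 28 0)<|b (a 8<|a 2<|a 4 4)<|b (a 7<|a 7<|a (-28) 0)<|b (a 4<|a 2<|a 4 (-4))<|b (a 2<|a (-2)<|a 0 0)<|b (a 1<|a 0<|a 0 0)<|c)<|a 0<|a 0<|a 0 0) 4194304)<|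
 b (a (a 28<|a d<|a (b (a 14<|a (-9)<|a (-228) 256)<|b (a 7<|a 7<|a 28 0)<|b (a 4<|a 2<|a 4 4)<|b (a 2<|a (-2)<|a (-4) 4)<|b (a 1<|a 0<|a 0 0)<|c)<|a 0<|a 0<|a 0 0) 2097152)<|
 b (a (a 28<|a d<|a (b (a 14<|a (-9)<|a 284 0)<|b (a 7<|a 7<|a 28 16)<|b (a 4<|a 2<|a 4 4)<|b (a 2<|a (-2)<|a 4 0)<|b (a 1<|a 0<|a 0 2)<|c)<|a 0<|a 0<|a 0 0) 1048576)<|
 b (a (a 28<|a d<|a (b (a 14<|a (-9)<|a 284 0)<|b (a 7<|a 7<|a 28 (-16))<|b (a 4<|a 2<|a 4 4)<|b (a 2<|a (-2)<|a 4 0)<|b (a 1<|a 0<|a 0 (-2))<|c)<|a 0<|a 0<|a 0 0) 1048576)<|c))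

/-- the coset of the class 54 -/
def T54 : List (Row × ℕ) := (beta% delta% lq2608b51449 fun a b c d e _ =>
 (b (a (a 60<|a e<|a (b (a 30<|a 23<|a 2300 (-2048))<|b (a 20<|a 5<|a 41 32)<|b (a 15<|a (-9)<|a (-12) 0)<|b (a 12<|a 3<|a 10 8)<|b (a 10<|a 5<|a 41 (-32))<|b (a 6<|a 3<|a 10 (-8))<|b (a 5<|a 3<|a (-9) 0)<|b (a 4<|a 0<|a 1 2)<|b (a 3<|a 1<|a (-2) 0)<|b (a 2<|a 0<|a 1 (-2))<|b (a 1<|a (-2)<|a 1 0)<|c)<|a 0<|a 2<|a 0 0) 2097152)<|
 b (a (a 30<|a d<|a (b (a 15<|a (-9)<|a 284 0)<|b (a 10<|a 5<|a 41 32)<|b (a 6<|a 3<|a 10 8)<|b (a 5<|a 3<|a 11 0)<|b (a 3<|a 1<|a 4 0)<|b (a 2<|a 0<|a 1 2)<|b (a 1<|a (-2)<|a 1 0)<|c)<|a 0<|a 2<|a 0 0) 2097152)<|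
 b (a (a 30<|a d<|a (b (a 15<|a (-9)<|a (-44) 0)<|b (a 10<|a 5<|a 41 32)<|b (a 6<|a 3<|a 10 8)<|b (a 5<|a 3<|a (-11) 0)<|b (a 3<|a 1<|a (-4) 0)<|b (a 2<|a 0<|a 1 2)<|b (a 1<|a (-2)<|a (-1) 0)<|c)<|a 2<|a 0<|a 0 0) 2097152)<|
 b (a (a 30<|a d<|a (b (a 15<|a (-9)<|a (-228) 256)<|b (a 10<|a 5<|a 41 32)<|b (a 6<|a 3<|a 10 8)<|b (a 5<|a 3<|a 9 (-8))<|b (a 3<|a 1<|a 2 (-4))<|b (a 2<|a 0<|a 1 2)<|b (a 1<|a (-2)<|a (-1) 2)<|c)<|a 2<|a 0<|a 0 0) 1048576)<|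
 b (a (a 30<|a d<|a (b (a 15<|a (-9)<|a (-228) (-256))<|b (a 10<|a 5<|a 41 32)<|b (a 6<|a 3<|a 10 8)<|b (a 5<|a 3<|a 9 8)<|b (a 3<|a 1<|a 2 4)<|b (a 2<|a 0<|a 1 2)<|b (a 1<|a (-2)<|a (-1) (-2))<|c)<|a 2<|a 0<|a 0 0) 1048576)<|c))

/-- the coset of the class 55 -/
def T55 : List (Row × ℕ) := (beta% delta% lq2608b51449 fun a b c d _ _ =>
 (b (a (a 30<|a d<|a (b (a 15<|a 7<|a 140 128)<|b (a 10<|a (-4)<|a 5 (-4))<|b (a 6<|a (-2)<|a 0 (-2))<|b (a 5<|a 4<|a 5 (-4))<|b (a 3<|a 2<|a 0 (-2))<|b (a 2<|a 1<|a 0 1)<|b (a 1<|a (-1)<|a 0 1)<|c)<|a 0<|a 0<|a 0 0) 4194304)<|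
 b (a (a 30<|a d<|a (b (a 15<|a 7<|a 140 (-128))<|b (a 10<|a (-4)<|a 5 (-4))<|b (a 6<|a (-2)<|a 0 (-2))<|b (a 5<|a 4<|a 5 4)<|b (a 3<|a 2<|a 0 2)<|b (a 2<|a 1<|a 0 1)<|b (a 1<|a (-1)<|a 0 (-1))<|c)<|a 0<|a 0<|a 0 0) 4194304)<|c))

/-- all tables -/
def TT : List (List (Row × ℕ)) := (beta% delta% lq2608b51449 fun _ b c _ _ f =>
 (let g:=(let g:=(let g:=(f T49<|f T50<|f T51<|f T52<|f T53<|f T54<|f T55<|c);
 (f T42<|f T43<|f T44<|f T45<|f T46<|f T47<|f T48<|g));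
 (let g:=(f T35<|f T36<|f T37<|f T38<|f T39<|f T40<|f T41<|g);
 (f T28<|f T29<|f T30<|f T31<|f T32<|f T33<|f T34<|g)));
 (let g:=(let g:=(f T21<|f T22<|f T23<|f T24<|f T25<|f T26<|f T27<|g);
 (f T14<|f T15<|f T16<|f T17<|f T18<|f T19<|f T20<|g));
 (let g:=(f T7<|f T8<|f T9<|f T10<|f T11<|f T12<|f T13<|g);
 (b T0<|b T1<|b T2<|b T3<|b T4<|b T5<|b T6<|g)))))

end Cfsg.Agent.TAB.B.C2
end

-- part: TAB/B/C2/Lf
section
set_option linter.all false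
open scoped Cfsg.Agent.FastGrp

/-!
# The codes of the traces of the powers (helper48)
-/

set_option autoImplicit false

namespace Cfsg.Agent.TAB.B.C2

open Cfsg
open Cfsg.Agent.H633.Ore (linL linL_cons linL_nil force force_eq)
open Cfsg.Agent.Monster.PauliBasic
open Cfsg.Agent.H155.TC.Pau (tr)
open Cfsg.Agent.TAB.C2B (Cl)
open Cfsg.Agent.BabyM Cfsg.Agent.BabyM.Conc Cfsg.Agent.BabyM.KTab
open Finset

/-- the data of a power -/
structure En where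
  d : ℕ
  tu : ℤ
  na : ℕ
  h : ℕ
  h2 : ℕ
  m : ℕ
  qb : ℕ
  kind : ℕ
  ref : ℕ
  fl : Bool

/-- the default -/
def En.z : En := ⟨0, 0, 0, 0, 0, 0, 0, 0, 0, false⟩

/-- a code -/
noncomputable def cAt (R r : ℕ) : ℕ := Nat.land (Nat.shiftRight R (Nat.mul 4 r)) 3

/-- the code of a square -/
noncomputable def gAt (R r : ℕ) : ℕ := Nat.land (Nat.shiftRight R (Nat.add (Nat.mul 4 r) 2)) 3

theorem cAt_eq (R r : ℕ) : cAt R r = R / 16 ^ r % 4 := by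
  show (R >>> (4 * r)) &&& (2 ^ 2 - 1) = _
  rw [Nat.and_two_pow_sub_one_eq_mod, Nat.shiftRight_eq_div_pow, pow_mul]
  rfl

theorem gAt_eq (R r : ℕ) : gAt R r = R / 16 ^ r / 4 % 4 := by
  show (R >>> (4 * r + 2)) &&& (2 ^ 2 - 1) = _
  rw [Nat.and_two_pow_sub_one_eq_mod, Nat.shiftRight_eq_div_pow, pow_add, pow_mul, ← Nat.div_div_eq_div_mul]
  rfl

/-- the code of the trace -/
noncomputable def code (kind ref : ℕ) (fl : Bool) (ed σ R : ℕ) : ℕ :=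
  cond (Nat.beq kind 1) (gAt R ref)
    (cond (Nat.beq ed 0) (cond (Nat.beq kind 0) σ (cond fl (cAt R ref) (Nat.sub 3 (cAt R ref)))) 0)

/-- all codes -/
noncomputable def lf (es : List En) : ℕ → ℕ → ℕ :=
  List.rec (fun _ _ => 0) (fun en _ ih E σ => force (Nat.shiftRight E 22) fun E' => force (ih E' σ) fun R =>
    force (Nat.land E 4194303) fun ed => Nat.add (Nat.add (code en.kind en.ref en.fl ed σ R)
      (Nat.mul 4 (force (Nat.xor ed en.qb) (gs en.m)))) (Nat.mul 16 R)) es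

theorem xor_shl {a : ℕ} (ha : a < 2 ^ 22) (b : ℕ) :
    Nat.shiftRight (a ^^^ b <<< 22) 22 = b ∧ Nat.land (a ^^^ b <<< 22) 4194303 = a := by
  constructor
  · show (a ^^^ b <<< 22) >>> 22 = b
    rw [Nat.shiftRight_xor_distrib, Nat.shiftLeft_shiftRight, Nat.shiftRight_eq_div_pow, Nat.div_eq_of_lt ha, Nat.zero_xor]
  · show (a ^^^ b <<< 22) &&& (2 ^ 22 - 1) = a
    rw [Nat.and_xor_distrib_right, Nat.and_two_pow_sub_one_eq_mod, Nat.and_two_pow_sub_one_eq_mod, Nat.mod_eq_of_lt ha,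
      Nat.shiftLeft_eq, Nat.mul_mod_left, Nat.xor_zero]

theorem lf_cons (en : En) (es : List En) {ed : ℕ} (h : ed < 2 ^ 22) (E σ : ℕ) : lf (en :: es) (ed ^^^ E <<< 22) σ =
    code en.kind en.ref en.fl ed σ (lf es E σ) + 4 * gs en.m (ed ^^^ en.qb) + 16 * lf es E σ := by
  show force (Nat.shiftRight (ed ^^^ E <<< 22) 22) (fun E' => force (lf es E' σ) fun R =>
    force (Nat.land (ed ^^^ E <<< 22) 4194303) fun ed => Nat.add (Nat.add (code en.kind en.ref en.fl ed σ R)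
      (Nat.mul 4 (force (Nat.xor ed en.qb) (gs en.m)))) (Nat.mul 16 R)) = _
  rw [force_eq, force_eq, force_eq, force_eq, (xor_shl h E).1, (xor_shl h E).2]
  rfl

theorem linL_shl : ∀ (L : List ℕ) (e : ℕ), linL (L.map fun x => Nat.shiftLeft x 22) e = linL L e <<< 22
  | [], _ => by simp [linL_nil]
  | c :: L, e => by
    have h : (e &&& 1) * Nat.shiftLeft c 22 = ((e &&& 1) * c) <<< 22 := by
      rw [shl_eq, Nat.shiftLeft_eq]
      ring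
    rw [List.map_cons, linL_cons, linL_cons, linL_shl L, Nat.shiftLeft_xor_distrib, h]

/-- the meaning of a code -/
def Cod (g : C) (c h : ℕ) : Prop := c < 3 ∧ tq g = vl c h

/-- the meaning of the numbers `P` and `R` -/
def Inv (g : C) (Ψ : ℕ → Prop) : List En → ℕ → ℕ → Prop
  | [], P, _ => Ψ P
  | en :: es, P, R => (tp Cd.isU (g ^ en.d).1 = en.tu ∧ tp Cd.isX (g ^ en.d).1 = ((2 * (P % 4096 : ℕ) - en.na : ℤ) : ℚ)) ∧
      Cod (g ^ en.d) (R % 4) en.h ∧ Cod (g ^ (2 * en.d)) (R / 4 % 4) en.h2 ∧ Inv g Ψ es (P / 4096) (R / 16)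

theorem Inv.at {g : C} {Ψ : ℕ → Prop} : ∀ {es : List En} {P R r : ℕ}, Inv g Ψ es P R → r < es.length →
    Cod (g ^ (es.getD r En.z).d) (cAt R r) (es.getD r En.z).h ∧
      Cod (g ^ (2 * (es.getD r En.z).d)) (gAt R r) (es.getD r En.z).h2
  | [], _, _, _, _, h => absurd h (Nat.not_lt_zero _)
  | _ :: _, _, _, 0, h, _ => by
    rw [cAt_eq, gAt_eq, pow_zero, Nat.div_one]
    exact ⟨h.2.1, h.2.2.1⟩
  | _ :: _, _, _, r + 1, h, hr => by
    have h1 := Inv.at h.2.2.2 (Nat.lt_of_succ_lt_succ hr)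
    rw [cAt_eq, gAt_eq, Nat.div_div_eq_div_mul _ 16, ← pow_succ'] at h1
    rw [cAt_eq, gAt_eq]
    exact h1

/-- the exponent of the trace -/
noncomputable def hh (kind ref f : ℕ) (es : List En) : ℕ := cond (Nat.beq kind 1) (es.getD ref En.z).h2 (Nat.div f 2)

/-- the flag for the sign -/
noncomputable def flg (ref p h : ℕ) (es : List En) : Bool :=
  Nat.beq (Nat.mod (Nat.pow 2 h) p) (Nat.mod (Nat.pow 2 (es.getD ref En.z).h) p)

/-- the conditions -/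
noncomputable def kindB (d kind ref p f : ℕ) (es : List En) : Bool :=
  cond (Nat.beq kind 1) (Nat.blt ref es.length && Nat.beq d (2 * (es.getD ref En.z).d))
    (Nat.beq (f % 2) 0 && cond (Nat.beq kind 0) (Nat.beq d 1)
      (Nat.blt ref es.length && Nat.beq d ((es.getD ref En.z).d * p) && decide (p ∈ [3, 5, 7, 11, 23])))

theorem sq_cases {t : ℚ} {f : ℕ} (hf : f % 2 = 0) (h : t * t = 2 ^ f) : t = 2 ^ (f / 2) ∨ t = -2 ^ (f / 2) := by
  rw [← mul_self_eq_mul_self_iff, h, ← pow_add]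
  congr 1
  omega

theorem odd_code {p h h' c : ℕ} (hp : p ∈ [3, 5, 7, 11, 23]) (hc : c < 3) {t : ℤ} (ht : t = 2 ^ h ∨ t = -2 ^ h)
    (hd : (p : ℤ) ∣ t - vl c h') : cond (Nat.beq (2 ^ h % p) (2 ^ h' % p)) c (3 - c) < 3 ∧
      t = vl (cond (Nat.beq (2 ^ h % p) (2 ^ h' % p)) c (3 - c)) h := by
  have h1 : ∀ k, ¬ (p : ℤ) ∣ 2 ^ k := fun k hk => by
    have h2 : Prime (p : ℤ) ∧ ¬ (p : ℤ) ∣ 2 := by
      simp only [List.mem_cons, List.not_mem_nil, or_false] at hp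
      rcases hp with rfl | rfl | rfl | rfl | rfl <;> exact ⟨Nat.prime_iff_prime_int.1 (by norm_num), by decide⟩
    exact h2.2 (h2.1.dvd_of_dvd_pow hk)
  have h2 : Nat.beq (2 ^ h % p) (2 ^ h' % p) = true ↔ (p : ℤ) ∣ 2 ^ h' - 2 ^ h := by
    rw [Nat.beq_eq]
    have := Nat.modEq_iff_dvd (n := p) (a := 2 ^ h) (b := 2 ^ h')
    push_cast at this
    exact this
  have h3 : c = 0 ∨ c = 1 ∨ c = 2 := by omega
  cases h4 : Nat.beq (2 ^ h % p) (2 ^ h' % p)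
  · have h5 : ¬ (p : ℤ) ∣ 2 ^ h' - 2 ^ h := fun h6 => by rw [h2.2 h6] at h4; exact absurd h4 (by decide)
    rcases h3 with rfl | rfl | rfl <;> rcases ht with rfl | rfl <;> simp only [vl] at hd ⊢ <;> norm_num at hd ⊢
    · exact h1 _ hd
    · exact h1 _ hd
    · exact absurd (dvd_sub_comm.1 hd) h5
    · exact absurd (by rwa [sub_eq_neg_add]) h5
  · have h5 := h2.1 h4
    rcases h3 with rfl | rfl | rfl <;> rcases ht with rfl | rfl <;> simp only [vl] at hd ⊢ <;> norm_num at hd ⊢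
    · exact h1 _ hd
    · exact h1 _ hd
    · refine absurd ?_ (h1 (h + 1))
      have := dvd_add hd h5
      rwa [show (-2 ^ h - 2 ^ h' + (2 ^ h' - 2 ^ h) : ℤ) = -2 ^ (h + 1) by ring, dvd_neg] at this
    · refine absurd ?_ (h1 (h + 1))
      have := dvd_sub hd h5
      rwa [show (2 ^ h + 2 ^ h' - (2 ^ h' - 2 ^ h) : ℤ) = 2 ^ (h + 1) by ring] at this

theorem code_spec {g : C} {Ψ : ℕ → Prop} {es : List En} {P R σ d kind ref p f ed : ℕ} (h : Inv g Ψ es P R) (hσ : Sig g σ)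
    (hk : kindB d kind ref p f es = true) (hsq : tq (g ^ d) * tq (g ^ d) = if ed = 0 then 2 ^ f else 0) :
    Cod (g ^ d) (code kind ref (flg ref p (hh kind ref f es) es) ed σ R) (hh kind ref f es) := by
  unfold code hh
  unfold kindB at hk
  cases h1 : Nat.beq kind 1 <;> rw [h1] at hk
  · simp only [cond_false, Bool.and_eq_true, Nat.beq_eq] at hk ⊢
    cases h2 : Nat.beq ed 0
    · rw [if_neg (Nat.ne_of_beq_eq_false h2), mul_self_eq_zero] at hsq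
      exact ⟨by norm_num, by rw [hsq]; rfl⟩
    · rw [if_pos (Nat.eq_of_beq_eq_true h2)] at hsq
      have h3 := sq_cases hk.1 hsq
      obtain ⟨-, hk⟩ := hk
      cases h4 : Nat.beq kind 0 <;> rw [h4] at hk
      · simp only [cond_false, cond_true, Bool.and_eq_true, Nat.beq_eq, Nat.blt_eq, decide_eq_true_eq] at hk ⊢
        obtain ⟨⟨h5, rfl⟩, h6⟩ := hk
        obtain ⟨h7, h8⟩ := (h.at h5).1
        obtain ⟨t, ht, ht'⟩ : ∃ t : ℤ, tq (g ^ ((es.getD ref En.z).d * p)) = t ∧ (t = 2 ^ (f / 2) ∨ t = -2 ^ (f / 2)) := by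
          rcases h3 with h3 | h3
          · exact ⟨2 ^ (f / 2), by rw [h3]; push_cast; rfl, Or.inl rfl⟩
          · exact ⟨-2 ^ (f / 2), by rw [h3]; push_cast; rfl, Or.inr rfl⟩
        obtain ⟨α, hα⟩ := hC.fact _ (g ^ (es.getD ref En.z).d).2
        have h9 : p.Prime := by
          simp only [List.mem_cons, List.not_mem_nil, or_false] at h6
          rcases h6 with rfl | rfl | rfl | rfl | rfl <;> norm_num
        have h10 := odd_code h6 h7 ht' ((cl_sp hC hα).tr_congr h9 ((tq_eq _).symm.trans h8)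
          (by rw [← map_pow, ← pow_mul, ← tq_eq, ht]))
        exact ⟨h10.1, ht.trans (congrArg _ h10.2)⟩
      · have h5 : d = 1 := Nat.eq_of_beq_eq_true hk
        subst h5
        rw [pow_one] at h3 ⊢
        show Cod g σ (f / 2)
        rcases h3 with h3 | h3
        · rw [hσ.2.1 (by rw [h3]; positivity)]
          exact ⟨by norm_num, by rw [h3]; simp [vl]⟩
        · rw [hσ.2.2 (by rw [h3, neg_lt_zero]; positivity)]
          exact ⟨by norm_num, by rw [h3]; simp [vl]⟩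
  · simp only [cond_true, Bool.and_eq_true, Nat.beq_eq, Nat.blt_eq] at hk ⊢
    rw [hk.2]
    exact (h.at hk.1).2

/-! ### rows -/

/-- the traces of the powers -/
noncomputable def ents (es : List En) : ℕ → ℕ → List (ℕ × ℤ × ℤ × ℤ) :=
  List.rec (fun _ _ => []) (fun en _ ih P R =>
    (en.d, en.tu, 2 * (P % 4096 : ℕ) - en.na, vl (R % 4) en.h) :: ih (P / 4096) (R / 16)) es

theorem Inv.ents {g : C} {Ψ : ℕ → Prop} : ∀ {es : List En} {P R : ℕ}, Inv g Ψ es P R →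
    (∀ q ∈ ents es P R, Tr3 g q) ∧ Ψ (P / 4096 ^ es.length)
  | [], _, _, h => ⟨fun _ hq => absurd hq List.not_mem_nil, by rwa [List.length_nil, pow_zero, Nat.div_one]⟩
  | _ :: _, _, _, h => by
    have h1 := Inv.ents h.2.2.2
    refine ⟨fun q hq => ?_, by rw [List.length_cons, pow_succ', ← Nat.div_div_eq_div_mul]; exact h1.2⟩
    rcases List.mem_cons.1 hq with rfl | hq
    · exact ⟨h.1.1, h.1.2, h.2.1.2⟩
    · exact h1.1 q hq

/-- the meaning of the innermost number -/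
def Bas (pA pB : ℕ) (g : C) (x : ℕ) : Prop :=
  Ex4 g (2 * (x % 4096), 2 * (pA - x % 4096), 2 * (x / 4096), 2 * (pB - x / 4096))

/-- the order -/
noncomputable def ordr (n r R : ℕ) : ℕ := if cAt R r = 1 then n else if gAt R r = 1 then 2 * n else 4 * n

/-- the row -/
noncomputable def rowOf (es : List En) (n r pA pB P R : ℕ) : Row :=
  (ordr n r R, decide (cAt R r = 2 ∨ cAt R r ≠ 1 ∧ gAt R r ≠ 1),
    (if cAt R r ≠ 1 ∧ gAt R r ≠ 1 then [(2 * n, 23, 2300, -2048)] else []) ++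
      (ents es P R).filter (fun q => decide (ordr n r R % q.1 = 0 ∧ q.1 < ordr n r R)),
    2 * (P / 4096 ^ es.length % 4096), 2 * (pA - P / 4096 ^ es.length % 4096), 2 * (P / 4096 ^ es.length / 4096),
    2 * (pB - P / 4096 ^ es.length / 4096))

theorem vl_pos {c h : ℕ} (h1 : (0 : ℚ) < vl c h) : c = 1 := by
  unfold vl at h1
  split_ifs at h1 with h2 h3
  · simp at h1
  · exact h3
  · exact absurd h1 (by push_cast; rw [not_lt, neg_nonpos]; positivity)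

theorem has_row {g : C} {es : List En} {n r pA pB P R : ℕ} (h : Inv g (Bas pA pB g) es P R) (hr : r < es.length)
    (hn : (es.getD r En.z).d = n) (hg : pr2 g ^ n = 1) (hok : okRow (rowOf es n r pA pB P R) = true) :
    Has g (rowOf es n r pA pB P R) := by
  obtain ⟨y, hy⟩ := pr2_eq_one.1 ((map_pow pr2 g n).trans hg)
  obtain ⟨⟨-, h1⟩, -, h2⟩ := h.at hr
  rw [hn] at h1 h2
  have h3 : g ^ (2 * n) = rq (y * y) := by rw [map_mul, hy, two_mul, pow_add]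
  rw [← hy] at h1
  rw [h3] at h2
  have hz : rq (Pauli.z 11) * rq (Pauli.z 11) = 1 := by rw [← map_mul, Pauli.z_sq, map_one]
  have h4 : tq (rq 1) = 2048 := by rw [tq_eq, sp_rq, map_one, H155.TC.Pau.tr_one]; norm_num
  have h5 : gAt R r ≠ 1 → g ^ (2 * n) = rq (Pauli.z 11) := fun h6 => by
    rw [h3, Pauli.sq_eq]
    rw [Pauli.sq_eq] at h2
    rcases zmod2_cases (y.b ⬝ᵥ y.a) with h7 | h7 <;> rw [h7] at h2 ⊢
    · exact absurd (vl_pos (by rw [← h2, show (⟨0, 0, 0⟩ : Pauli 11) = 1 from rfl, h4]; norm_num)) h6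
    · rfl
  have h6 : ∀ q ∈ (rowOf es n r pA pB P R).2.2.1, Tr3 g q := fun q hq => by
    rcases List.mem_append.1 hq with hq | hq
    · split_ifs at hq with h7
      · rw [List.mem_singleton.1 hq]
        exact tr3_z (h5 h7.2)
      · exact absurd hq List.not_mem_nil
    · exact h.ents.1 q (List.mem_filter.1 hq).1
  refine ⟨orderOf_row hok ?_ h6, fun h7 => ?_, h6, h.ents.2⟩
  · show g ^ ordr n r R = 1
    unfold ordr
    split_ifs with h7 h8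
    · rw [← hy, (tq_rq y).1 (by rw [h1, h7]; simp [vl]), map_one]
    · rw [h3, (tq_rq (y * y)).1 (by rw [h2, h8]; simp [vl]), map_one]
    · rw [show 4 * n = 2 * n + 2 * n by ring, pow_add, h5 h8, hz]
  · show g ^ (ordr n r R / 2) = _
    unfold ordr
    rcases of_decide_eq_true h7 with h8 | h8
    · have h9 : y = Pauli.z 11 := (tq_rq y).2 (by rw [h1, h8]; simp [vl])
      have h10 : gAt R r = 1 := vl_pos (by rw [← h2, h9, Pauli.z_sq, h4]; norm_num)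
      rw [if_neg (by omega), if_pos h10, Nat.mul_div_cancel_left _ (by norm_num), ← hy, h9]
    · rw [if_neg h8.1, if_neg h8.2, show 4 * n / 2 = 2 * n by omega, h5 h8.2]

end Cfsg.Agent.TAB.B.C2

private theorem dce_1041bad30618 : _root_.True := by
  try have : _root_.True := by simp only [_root_.Cfsg.Agent.TAB.B.C2.Inv.eq_def]
  exact _root_.True.intro
end

-- part: H300/Ru/Row
section
set_option linter.all false
open scoped Cfsg.Agent.FastGrp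

/-!
# S4947 / S4547, row `Ru` (helper300): `Good5 S`, `RowA S`

The rational characters of degrees `1`, `783`, `20475`, `23751`; their values at an element of order 3 are
`1, 0, 9, -9`, with an odd sum (column parity, `H740/K4/Four.lean`).
-/

set_option autoImplicit false
set_option maxRecDepth 100000

namespace Cfsg.Agent.H300.Ru.Row

open Cfsg Cfsg.Agent.H740.K4 Cfsg.Agent.SporadicB Cfsg.Agent.SporadicB.RuOrder Cfsg.Agent.H300.Cls

universe u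

/-- the tables -/
def tt : Fin 4 → List ℤ := ![v0, va, th1, th2]

theorem irr_tt (i : Fin 4) : IsIrrCharacter H (tv fam (tt i)) := by
  fin_cases i
  · exact irr_of gc0 (by decide +kernel) (by decide +kernel)
  · exact irr_a
  · exact irr_th1
  · exact irr_th2

theorem deg_tt : ∀ i : Fin 4, ((tt i).getD 0 0).toNat = (tt i).getD 0 0 ∧ Odd ((tt i).getD 0 0).toNat := by
  decide +kernel

theorem inj_tt : ∀ i j : Fin 4, (tt i).getD 0 0 = (tt j).getD 0 0 → i = j := by decide +kernel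

theorem tv_one (v : List ℤ) : tv fam v 1 = ((v.getD 0 0 : ℤ) : ℂ) := by
  rw [tv, fam_one]

theorem good_tt (i : Fin 4) : H601.K4.Good (tv fam (tt i)) := by
  refine good_of_rat (irr_tt i) (fun g => ⟨((tt i).getD (fam g) 0 : ℤ), ?_⟩) ?_
  · rw [tv]
    push_cast
    rfl
  · obtain ⟨h1, h2⟩ := deg_tt i
    have h3 : tv fam (tt i) 1 = (((tt i).getD 0 0).toNat : ℕ) := by
      rw [tv_one, ← h1]
      push_cast
      rfl
    rw [Cfsg.Agent.Blocks.Basic.charDegree_of_eq h3]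
    exact h2

theorem good5_model : H601.K4.Good5 H := by
  have ho : orderOf (R 3) = 3 := order_R 3
  refine good5_of_four (by rw [card_H]; decide) (χ := fun i => tv fam (tt i)) (t := R 3)
    (z := fun i => (tt i).getD 3 0) ?_ good_tt (by rw [ho]; decide) ?_ (by decide +kernel)
  · intro i j hij
    apply inj_tt
    have h := congrFun hij 1
    simp only [tv_one] at h
    exact_mod_cast h
  · intro i
    have h : fam (R 3) = 3 := fam_R 3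
    rw [tv, h]

/-- **`Ru`, row (A) of S4547** -/
theorem good5 {S : Type u} [Group S] (h : Spor.IsoRu S) : H601.K4.Good5 S := by
  obtain ⟨e⟩ := h
  have : Finite S := Finite.of_equiv _ (e.trans RuLat.Main.equiv).symm.toEquiv
  exact good5_of_equiv (e.trans RuLat.Main.equiv) good5_model

theorem odd5 {S : Type u} [Group S] (h : Spor.IsoRu S) : H601.K4.Odd5 S := (good5 h).odd5

/-- **`Ru`, row (A) of S4947** -/
theorem rowA {S : Type u} [Group S] (h : Spor.IsoRu S) : H714.K4.RowA S := by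
  classical
  have : Finite S := Nat.finite_of_card_ne_zero (by rw [NotCT.Orders.ru h]; norm_num)
  obtain ⟨χ, h1, h2⟩ := odd5 h
  refine H714.K4.rowA_of_finset (Finset.univ.image χ) ?_ ?_
  · rw [Finset.card_image_of_injective _ h1]
    simp
  · intro ψ hψ
    obtain ⟨i, -, rfl⟩ := Finset.mem_image.1 hψ
    exact h2 i

end Cfsg.Agent.H300.Ru.Row
end
end
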