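import Cfsg.Agent.TAB.B.C2.Tab_m3
import Cfsg.Agent.H633.Ore.Co2Ore
import Cfsg.Agent.TAB.B.Fin.Cols_m3
import Cfsg.Agent.TAB.B.Fin.St2_m3
import Cfsg.Agent.SB.SporB.Inst
import Cfsg.Agent.H909.PwM.TwoA
import Cfsg.Agent.BM.KHAll
import Cfsg.Agent.TAB.B.Ch_m3
import Cfsg.Agent.CharactersDeep.ColumnBessel
import Cfsg.Agent.J3Type.CharTools
import Cfsg.Agent.FastGrp
import Cfsg.Agent.Prune
set_option linter.all false

-- part: TAB/B/C2/Chk
section
prune_inst 0x7f00000000000000000000000000000000000000000000000000000000000000000000000000000000000000000000000000000000000000000000000000000000000000000000000000000000000000003fffffffffffffffffffffffffffbeffbdffffffff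
set_option linter.all false
open scoped Cfsg.Agent.FastGrp

/-!
# The check of a class (helper48)
-/

set_option autoImplicit false

namespace Cfsg.Agent.TAB.B.C2

open Cfsg
open Cfsg.Agent.SporadicStructure.Co2RankThree (toCo0)
open Cfsg.Agent.H633.Ore (linL linL_map linL_lt force force_eq mapF mapF_eq idL nth nth_eq)
open Cfsg.Agent.H633.Ore.Co2 (wd ordT ordT_sound)
open Cfsg.Agent.Monster.PauliBasic Cfsg.Agent.Monster.PauliClif
open Cfsg.Agent.Monster.PauliBits (bit bit_xor)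
open Cfsg.Agent.BabyM Cfsg.Agent.BabyM.Conc Cfsg.Agent.BabyM.KTab
open Finset

theorem col_lt (A : List ℕ) (b : ℕ) : col A b < 2 ^ A.length := colf_lt _ _

theorem toCo0_mul (a b : Spor.Co2) : toCo0 (a * b) = toCo0 a * toCo0 b := rfl

theorem wdL_true {w : List ℕ} {k : List ℕ → Bool} (h : wdL w I22 k = true) : ∃ L, IndC (wd w) L ∧ k L = true := by
  obtain ⟨L, h1, h2⟩ := wdL_spec w 1 I22 k (by rw [I22_eq]; exact IndC.one)
  exact ⟨L, by rwa [one_mul] at h1, h2 ▸ h⟩

theorem wdY_true {w : List ℕ} {k : List ℕ → Bool} (h : wdY w YI k = true) : ∃ Y, HY (toCo0 (wd w)) Y ∧ k Y = true := by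
  obtain ⟨Y, h1, h2⟩ := wdY_spec w 1 YI k hy_one
  exact ⟨Y, by rwa [one_mul] at h1, h2 ▸ h⟩

/-- equality of rows -/
def reqB (r s : Row) : Bool :=
  decide (r.1 = s.1) && decide (r.2.1 = s.2.1) && decide (r.2.2.1 = s.2.2.1) && decide (r.2.2.2 = s.2.2.2)

theorem reqB_spec {r s : Row} (h : reqB r s = true) : r = s := by
  simp only [reqB, Bool.and_eq_true, decide_eq_true_eq] at h
  exact Prod.ext h.1.1.1 (Prod.ext h.1.1.2 (Prod.ext h.1.2 h.2))

/-! ### all sign vectors at once -/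

namespace Sd

theorem pk_bw {W : ℕ} (f : Bool → Bool → Bool) (hf : f false false = false) : ∀ {k : ℕ} {a b : ℕ → ℕ},
    (∀ p < 2 ^ k, a p < 2 ^ W) → (∀ p < 2 ^ k, b p < 2 ^ W) →
      Nat.bitwise f (pk W k a) (pk W k b) = pk W k fun p => Nat.bitwise f (a p) (b p)
  | 0, _, _, _, _ => by rw [pk_zero, pk_zero, pk_zero]
  | k + 1, a, b, ha, hb => by
    have h : ∀ p < 2 ^ k, p < 2 ^ (k + 1) ∧ 2 ^ k + p < 2 ^ (k + 1) := fun p hp => by rw [pow_succ]; omega
    have h1 := pk_lt fun p hp => ha p (h p hp).1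
    have h2 := pk_lt fun p hp => hb p (h p hp).1
    rw [pk_succ, pk_succ, pk_succ, ← pk_bw f hf (fun p hp => ha p (h p hp).1) fun p hp => hb p (h p hp).1,
      ← pk_bw f hf (fun p hp => ha _ (h p hp).2) fun p hp => hb _ (h p hp).2]
    apply Nat.eq_of_testBit_eq
    intro i
    rw [Nat.testBit_bitwise hf, add_comm (pk W k a), add_comm (pk W k b), add_comm (Nat.bitwise f _ _),
      Nat.testBit_two_pow_mul_add _ h1, Nat.testBit_two_pow_mul_add _ h2,
      Nat.testBit_two_pow_mul_add _ (Nat.bitwise_lt_two_pow h1 h2)]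
    split_ifs <;> rw [Nat.testBit_bitwise hf]

theorem pk_and {W k : ℕ} {a b : ℕ → ℕ} (ha : ∀ p < 2 ^ k, a p < 2 ^ W) (hb : ∀ p < 2 ^ k, b p < 2 ^ W) :
    Nat.land (pk W k a) (pk W k b) = pk W k fun p => a p &&& b p := pk_bw and rfl ha hb

theorem pk_or {W k : ℕ} {a b : ℕ → ℕ} (ha : ∀ p < 2 ^ k, a p < 2 ^ W) (hb : ∀ p < 2 ^ k, b p < 2 ^ W) :
    Nat.lor (pk W k a) (pk W k b) = pk W k fun p => a p ||| b p := pk_bw or rfl ha hb

theorem pk_xor {W k : ℕ} {a b : ℕ → ℕ} (ha : ∀ p < 2 ^ k, a p < 2 ^ W) (hb : ∀ p < 2 ^ k, b p < 2 ^ W) :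
    Nat.xor (pk W k a) (pk W k b) = pk W k fun p => a p ^^^ b p := pk_bw bne rfl ha hb

theorem pk_c (W k c : ℕ) : Nat.mul c (pk W k fun _ => 1) = pk W k fun _ => c :=
  (pk_mul W k c _).trans (pk_congr fun _ _ => mul_one c)

theorem pk_cm (W k c : ℕ) (a : ℕ → ℕ) : Nat.mul c (pk W k a) = pk W k fun p => c * a p := pk_mul W k c a

theorem pk_ad (W k : ℕ) (a b : ℕ → ℕ) : Nat.add (pk W k a) (pk W k b) = pk W k fun p => a p + b p := pk_add W k a b

theorem pk_sub {W k : ℕ} {a b : ℕ → ℕ} (h : ∀ p < 2 ^ k, b p ≤ a p) :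
    Nat.sub (pk W k a) (pk W k b) = pk W k fun p => a p - b p :=
  Nat.sub_eq_of_eq_add (by rw [pk_add]; exact pk_congr fun p hp => (Nat.sub_add_cancel (h p hp)).symm)

theorem pk_tot {W k : ℕ} {a : ℕ → ℕ} (h : ∀ p < 2 ^ k, a p ≤ 1) (hk : k + 2 ≤ W) :
    Nat.mod (pk W k a) (Nat.pred (Nat.pow 2 W)) = ∑ p ∈ range (2 ^ k), a p := by
  have h1 : pk W k a ≡ ∑ p ∈ range (2 ^ k), a p [MOD 2 ^ W - 1] := by
    unfold pk
    refine Nat.ModEq.sum fun p _ => ?_
    have h1 : (2 ^ W) ^ p ≡ 1 ^ p [MOD 2 ^ W - 1] :=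
      Nat.ModEq.pow p ((Nat.modEq_iff_dvd' (Nat.two_pow_pos W)).2 dvd_rfl).symm
    rw [one_pow, ← pow_mul] at h1
    simpa using h1.mul_left (a p)
  have h2 : ∑ p ∈ range (2 ^ k), a p ≤ 2 ^ k := by
    simpa using sum_le_card_nsmul _ _ 1 fun p hp => h p (mem_range.1 hp)
  have h3 : 2 ^ (k + 2) ≤ 2 ^ W := Nat.pow_le_pow_right (by norm_num) hk
  have h4 := Nat.two_pow_pos k
  rw [pow_add] at h3
  exact Eq.trans h1 (Nat.mod_eq_of_lt (by omega))

/-- all fields shifted -/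
noncomputable def shS (W o D s : ℕ) : ℕ :=
  Nat.shiftRight (Nat.land D (Nat.mul (Nat.shiftLeft (Nat.pred (Nat.pow 2 (Nat.sub W s))) s) o)) s

theorem shS_eq {W k : ℕ} {a : ℕ → ℕ} (ha : ∀ p < 2 ^ k, a p < 2 ^ W) (s : ℕ) :
    shS W (pk W k fun _ => 1) (pk W k a) s = pk W k fun p => a p >>> s := by
  have h1 : ∀ i, (Nat.shiftLeft (Nat.pred (Nat.pow 2 (Nat.sub W s))) s).testBit i = (decide (i ≥ s) && decide (i - s < W - s)) :=
    fun i => by
      show ((2 ^ (W - s) - 1) <<< s).testBit i = _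
      rw [Nat.testBit_shiftLeft, Nat.testBit_two_pow_sub_one]
  unfold shS
  rw [pk_c, pk_and ha fun p _ => Nat.lt_pow_two_of_testBit _ fun i hi => by
      rw [h1, Bool.and_eq_false_iff, decide_eq_false_iff_not, decide_eq_false_iff_not]; omega,
    pk_congr (b := fun p => 2 ^ s * (a p >>> s)) fun p hp => ?_, ← pk_mul]
  · show _ >>> s = _
    rw [Nat.shiftRight_eq_div_pow, Nat.mul_div_cancel_left _ (Nat.two_pow_pos s)]
  · apply Nat.eq_of_testBit_eq
    intro i
    rw [Nat.testBit_and, h1, mul_comm, ← Nat.shiftLeft_eq, Nat.testBit_shiftLeft, Nat.testBit_shiftRight]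
    by_cases h2 : i ≥ s
    · rw [decide_eq_true h2, Nat.add_sub_cancel' h2, Bool.true_and, Bool.true_and]
      by_cases h3 : i < W
      · rw [decide_eq_true (by omega), Bool.and_true]
      · rw [Nat.testBit_lt_two_pow (lt_of_lt_of_le (ha p hp) (Nat.pow_le_pow_right (by norm_num) (by omega))), Bool.false_and]
    · rw [decide_eq_false h2, Bool.false_and, Bool.false_and, Bool.and_false]

theorem shr_lt {a W : ℕ} (h : a < 2 ^ W) (s : ℕ) : a >>> s < 2 ^ W := lt_of_le_of_lt (Nat.shiftRight_le _ _) h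

/-- the fields which are zero -/
noncomputable def zS (W o D : ℕ) : ℕ :=
  force D fun D => force (Nat.mul (Nat.pred (Nat.pow 2 (Nat.pred W))) o) fun M =>
    Nat.sub o (shS W o (Nat.add (Nat.add (Nat.land D M) (shS W o D (Nat.pred W))) M) (Nat.pred W))

theorem zS_eq {W k : ℕ} {a : ℕ → ℕ} (hW : 0 < W) (ha : ∀ p < 2 ^ k, a p < 2 ^ W) :
    zS W (pk W k fun _ => 1) (pk W k a) = pk W k fun p => if a p = 0 then 1 else 0 := by
  obtain ⟨V, rfl⟩ : ∃ V, W = V + 1 := ⟨W - 1, by omega⟩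
  have h0 := Nat.two_pow_pos V
  have h1 : ∀ p < 2 ^ k, (a p &&& Nat.pred (Nat.pow 2 (Nat.pred (V + 1)))) + a p >>> Nat.pred (V + 1) +
      Nat.pred (Nat.pow 2 (Nat.pred (V + 1))) = if a p < 2 ^ V then a p + (2 ^ V - 1) else a p := fun p hp => by
    show (a p &&& (2 ^ V - 1)) + a p >>> V + (2 ^ V - 1) = _
    have h2 := ha p hp
    rw [pow_succ] at h2
    rw [Nat.and_two_pow_sub_one_eq_mod, Nat.shiftRight_eq_div_pow]
    split_ifs with h
    · rw [Nat.mod_eq_of_lt h, Nat.div_eq_of_lt h, add_zero]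
    · rw [Nat.mod_eq_sub_mod (by omega), Nat.mod_eq_of_lt (by omega),
        Nat.div_eq_of_lt_le (k := 1) (by omega) (by omega)]
      omega
  have h2 : ∀ p < 2 ^ k, (if a p < 2 ^ V then a p + (2 ^ V - 1) else a p) >>> Nat.pred (V + 1) = if a p = 0 then 0 else 1 :=
    fun p hp => by
      show _ >>> V = _
      have h2 := ha p hp
      rw [pow_succ] at h2
      rw [Nat.shiftRight_eq_div_pow]
      split_ifs
      · exact Nat.div_eq_of_lt (by omega)
      · exact Nat.div_eq_of_lt_le (by omega) (by omega)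
      · omega
      · exact Nat.div_eq_of_lt_le (by omega) (by omega)
  unfold zS
  rw [force_eq, force_eq, pk_c, pk_and ha fun p _ => by show 2 ^ V - 1 < _; rw [pow_succ]; omega, shS_eq ha, pk_ad, pk_ad,
    pk_congr h1, shS_eq fun p hp => by have := ha p hp; rw [pow_succ] at this ⊢; split_ifs <;> omega, pk_congr h2,
    pk_sub fun p _ => by split_ifs <;> omega]
  exact pk_congr fun p _ => by split_ifs <;> rfl

/-- the array of an affine map -/
noncomputable def lin (W : ℕ) (LT : List ℕ) (E k : ℕ) : ℕ :=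
  Nat.rec E (fun k ih => force ih fun A =>
    Nat.add A (Nat.shiftLeft (Nat.xor A (Nat.mul (nth LT k) (ones W k))) (Nat.mul W (Nat.pow 2 k)))) k

theorem lin_eq {W E : ℕ} {LT : List ℕ} (hE : E < 2 ^ W) (hL : ∀ x ∈ LT, x < 2 ^ W) :
    ∀ k, lin W LT E k = pk W k fun e => E ^^^ linL LT e
  | 0 => by rw [pk_zero, Cfsg.Agent.H633.Ore.linL_zero, Nat.xor_zero]; rfl
  | k + 1 => by
    show force (lin W LT E k) (fun A =>
      Nat.add A (Nat.shiftLeft (Nat.xor A (Nat.mul (nth LT k) (ones W k))) (Nat.mul W (Nat.pow 2 k)))) = _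
    have h1 : LT.getD k 0 < 2 ^ W := by
      rcases lt_or_ge k LT.length with h | h
      · rw [List.getD_eq_getElem _ _ h]; exact hL _ (List.getElem_mem h)
      · rw [List.getD_eq_default _ _ h]; exact Nat.two_pow_pos W
    rw [force_eq, lin_eq hE hL k, ones_eq, pk_c, nth_eq, pk_xor (fun p _ => Nat.xor_lt_two_pow hE (linL_lt hL p)) fun _ _ => h1,
      shl_eq, pk_succ]
    refine congrArg (_ + 2 ^ (W * 2 ^ k) * ·) (pk_congr fun p hp => ?_)
    rw [linL_top LT hp, Nat.xor_assoc, Nat.xor_comm (linL LT p)]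

theorem linL_add (g : ℕ → ℕ) (h0 : g 0 = 0) (h : ∀ x y, g (x ^^^ y) = g x ^^^ g y) :
    ∀ (L : List ℕ) (e : ℕ), linL (L.map g) e = g (linL L e)
  | [], _ => h0.symm
  | c :: L, e => by
    rw [List.map_cons, Cfsg.Agent.H633.Ore.linL_cons, Cfsg.Agent.H633.Ore.linL_cons, linL_add g h0 h L, h, Nat.and_one_is_mod]
    rcases Nat.mod_two_eq_zero_or_one e with h1 | h1 <;> rw [h1]
    · rw [zero_mul, zero_mul, h0]
    · rw [one_mul, one_mul]

/-- the Arf sums -/
noncomputable def gqS (W o D m : ℕ) : ℕ :=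
  Nat.rec 0 (fun j ih => Nat.xor ih
    (Nat.land (Nat.land (shS W o D (Nat.mul 2 j)) (shS W o D (Nat.succ (Nat.mul 2 j)))) o)) m

theorem pk_z (W k : ℕ) : 0 = pk W k fun _ => 0 := by simp [pk]

theorem gqS_eq {W k : ℕ} {a : ℕ → ℕ} (hW : 0 < W) (ha : ∀ p < 2 ^ k, a p < 2 ^ W) :
    ∀ m, gqS W (pk W k fun _ => 1) (pk W k a) m = pk W k fun p => (gq m (a p)).val
  | 0 => pk_z W k
  | m + 1 => by
    have h1 : 1 < 2 ^ W := Nat.one_lt_two_pow hW.ne'
    show Nat.xor (gqS W _ _ m) (Nat.land (Nat.land (shS W _ _ (2 * m)) (shS W _ _ (2 * m + 1))) _) = _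
    rw [gqS_eq hW ha m, shS_eq ha, shS_eq ha, pk_and (fun p hp => shr_lt (ha p hp) _) fun p hp => shr_lt (ha p hp) _,
      pk_and (fun p hp => lt_of_le_of_lt Nat.and_le_left (shr_lt (ha p hp) _)) fun _ _ => h1,
      pk_xor (fun p _ => by have := ZMod.val_lt (gq m (a p)); omega) fun p _ => lt_of_le_of_lt Nat.and_le_right h1]
    refine pk_congr fun p _ => ?_
    have h2 : gq (m + 1) (a p) = gq m (a p) + bit (a p) (2 * m) * bit (a p) (2 * m + 1) := sum_range_succ _ _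
    have h3 := Nat.and_two_pow (a p >>> (2 * m) &&& a p >>> (2 * m + 1)) 0
    rw [pow_zero, mul_one, Nat.testBit_and, Nat.testBit_shiftRight, Nat.testBit_shiftRight, add_zero, add_zero] at h3
    rw [h2, h3]
    unfold bit
    rcases zmod2_cases (gq m (a p)) with h | h <;> rw [h] <;> cases (a p).testBit (2 * m) <;>
      cases (a p).testBit (2 * m + 1) <;> rfl

/-- the codes of the Gauss sums -/
noncomputable def gsS (W o m D : ℕ) : ℕ :=
  Nat.land (Nat.mul 3 (zS W o (shS W o D (Nat.mul 2 m)))) (Nat.add (gqS W o D m) o)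

theorem sel3 (c : Prop) [Decidable c] {v : ℕ} (hv : v < 4) : (3 * if c then 1 else 0) &&& v = if c then v else 0 := by
  split_ifs
  · rw [Nat.and_comm]
    exact (Nat.and_two_pow_sub_one_eq_mod v 2).trans (Nat.mod_eq_of_lt hv)
  · exact Nat.zero_and v

theorem gsS_eq {W k m : ℕ} {a : ℕ → ℕ} (hW : 2 ≤ W) (hm : m ≤ 11) (ha : ∀ p < 2 ^ k, a p < 2 ^ W) :
    gsS W (pk W k fun _ => 1) m (pk W k a) = pk W k fun p => gs m (a p) := by
  have h1 : 2 ^ 2 ≤ 2 ^ W := Nat.pow_le_pow_right (by norm_num) hW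
  unfold gsS
  rw [shS_eq ha, zS_eq (by omega) fun p hp => shr_lt (ha p hp) _, gqS_eq (by omega) ha, pk_cm, pk_ad,
    pk_and (fun p _ => by split_ifs <;> omega) fun p _ => by have := ZMod.val_lt (gq m (a p)); omega]
  refine pk_congr fun p _ => ?_
  rw [gs_eq hm, sel3 _ (by have := ZMod.val_lt (gq m (a p)); omega)]
  rfl

/-- the codes of the traces -/
noncomputable def codeS (W o kind ref : ℕ) (fl : Bool) (D σ R : ℕ) : ℕ :=
  cond (Nat.beq kind 1) (Nat.land (shS W o R (Nat.add (Nat.mul 4 ref) 2)) (Nat.mul 3 o))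
    (Nat.land (Nat.mul 3 (zS W o D)) (cond (Nat.beq kind 0) (Nat.mul σ o)
      (cond fl (Nat.land (shS W o R (Nat.mul 4 ref)) (Nat.mul 3 o))
        (Nat.sub (Nat.mul 3 o) (Nat.land (shS W o R (Nat.mul 4 ref)) (Nat.mul 3 o))))))

theorem code_lt (kind ref : ℕ) (fl : Bool) (ed R : ℕ) {σ : ℕ} (hσ : σ < 4) : code kind ref fl ed σ R < 4 := by
  have h1 : cAt R ref ≤ 3 := Nat.and_le_right
  have h2 : gAt R ref ≤ 3 := Nat.and_le_right
  have h3 : Nat.sub 3 (cAt R ref) ≤ 3 := Nat.sub_le _ _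
  unfold code
  cases Nat.beq kind 1 <;> cases Nat.beq ed 0 <;> cases Nat.beq kind 0 <;> cases fl <;>
    simp only [cond_true, cond_false] <;> omega

theorem codeS_eq {W k σ : ℕ} {a r : ℕ → ℕ} (kind ref : ℕ) (fl : Bool) (hW : 2 ≤ W) (hσ : σ < 4)
    (ha : ∀ p < 2 ^ k, a p < 2 ^ W) (hr : ∀ p < 2 ^ k, r p < 2 ^ W) :
    codeS W (pk W k fun _ => 1) kind ref fl (pk W k a) σ (pk W k r) = pk W k fun p => code kind ref fl (a p) σ (r p) := by
  have h1 : 2 ^ 2 ≤ 2 ^ W := Nat.pow_le_pow_right (by norm_num) hW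
  have h2 : ∀ s, Nat.land (shS W (pk W k fun _ => 1) (pk W k r) s) (Nat.mul 3 (pk W k fun _ => 1)) =
      pk W k fun p => r p >>> s &&& 3 := fun s => by
    rw [shS_eq hr, pk_c, pk_and (fun p hp => shr_lt (hr p hp) _) fun _ _ => by omega]
  have h3 : ∀ v : ℕ → ℕ, (∀ p, v p < 4) → Nat.land (Nat.mul 3 (zS W (pk W k fun _ => 1) (pk W k a))) (pk W k v) =
      pk W k fun p => cond (Nat.beq (a p) 0) (v p) 0 := fun v hv => by
    rw [zS_eq (by omega) ha, pk_cm, pk_and (fun p _ => by split_ifs <;> omega) fun p _ => by have := hv p; omega]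
    refine pk_congr fun p _ => ?_
    rw [sel3 _ (hv p)]
    cases h : Nat.beq (a p) 0
    · exact if_neg (Nat.ne_of_beq_eq_false h)
    · exact if_pos (Nat.eq_of_beq_eq_true h)
  have h4 : ∀ p s, r p >>> s &&& 3 ≤ 3 := fun _ _ => Nat.and_le_right
  unfold codeS code
  rw [h2, h2]
  cases Nat.beq kind 1
  · cases Nat.beq kind 0
    · cases fl
      · rw [pk_c W k 3, pk_sub fun p _ => h4 p _]
        exact h3 _ fun p => by omega
      · exact h3 _ fun p => Nat.lt_succ_of_le (h4 p _)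
    · rw [pk_c W k σ]
      exact h3 _ fun _ => hσ
  · rfl

/-- the arrays of all codes -/
noncomputable def lfS (W o f σ : ℕ) (es : List En) : List ℕ → ℕ → ℕ :=
  List.rec (fun _ _ => 0) (fun en _ ih LT E =>
    force (ih (LT.map fun x => Nat.shiftRight x 22) (Nat.shiftRight E 22)) fun R =>
    force (lin W (LT.map fun x => Nat.land x 4194303) (Nat.land E 4194303) f) fun D =>
    force (Nat.xor D (Nat.mul en.qb o)) fun D' =>
      Nat.add (Nat.add (codeS W o en.kind en.ref en.fl D σ R) (Nat.mul 4 (gsS W o en.m D'))) (Nat.mul 16 R)) es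

/-- the bounds for the entries -/
noncomputable def okE (es : List En) : Bool := es.all fun en => Nat.ble en.m 11 && Nat.blt en.qb 4194304

theorem lf_succ (en : En) (es : List En) (E σ : ℕ) : lf (en :: es) E σ = code en.kind en.ref en.fl (E &&& 4194303) σ
    (lf es (E >>> 22) σ) + 4 * gs en.m ((E &&& 4194303) ^^^ en.qb) + 16 * lf es (E >>> 22) σ := by
  show force (Nat.shiftRight E 22) (fun E' => force (lf es E' σ) fun R =>
    force (Nat.land E 4194303) fun ed => Nat.add (Nat.add (code en.kind en.ref en.fl ed σ R)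
      (Nat.mul 4 (force (Nat.xor ed en.qb) (gs en.m)))) (Nat.mul 16 R)) = _
  rw [force_eq, force_eq, force_eq, force_eq]
  rfl

theorem okE_cons {en : En} {es : List En} (h : okE (en :: es) = true) : en.m ≤ 11 ∧ en.qb < 2 ^ 22 ∧ okE es = true := by
  unfold okE at h ⊢
  rw [List.all_cons, Bool.and_eq_true, Bool.and_eq_true, Nat.ble_eq, Nat.blt_eq] at h
  exact ⟨h.1.1, h.1.2, h.2⟩

theorem lf_lt {σ : ℕ} (hσ : σ < 4) : ∀ (es : List En) (E : ℕ), okE es = true → lf es E σ < 16 ^ es.length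
  | [], _, _ => Nat.one_pos
  | en :: es, E, h => by
    have h1 := lf_lt hσ es (E >>> 22) (okE_cons h).2.2
    have h2 := code_lt en.kind en.ref en.fl (E &&& 4194303) (lf es (E >>> 22) σ) hσ
    have h3 := gs_lt (eps := (E &&& 4194303) ^^^ en.qb) (okE_cons h).1
    rw [lf_succ, List.length_cons, pow_succ]
    omega

theorem lf_lt' {σ W : ℕ} (hσ : σ < 4) {es : List En} (h : okE es = true) (hW : 4 * es.length ≤ W) (E : ℕ) :
    lf es E σ < 2 ^ W := lt_of_lt_of_le (lf_lt hσ es E h) (by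
  rw [show 16 = 2 ^ 4 from rfl, ← pow_mul]
  exact Nat.pow_le_pow_right (by norm_num) hW)

theorem lfS_eq {W f σ : ℕ} (hσ : σ < 4) (h22 : 22 ≤ W) : ∀ (es : List En) (LT : List ℕ) (E : ℕ), okE es = true →
    4 * es.length ≤ W → lfS W (pk W f fun _ => 1) f σ es LT E = pk W f fun e => lf es (E ^^^ linL LT e) σ
  | [], _, _, _, _ => pk_z W f
  | en :: es, LT, E, h, hW => by
    obtain ⟨h1, h2, h3⟩ := okE_cons h
    rw [List.length_cons] at hW
    have h4 : ∀ x, x &&& 4194303 < 2 ^ W := fun x =>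
      lt_of_lt_of_le (Nat.and_lt_two_pow x (n := 22) (by norm_num)) (Nat.pow_le_pow_right (by norm_num) h22)
    have h5 : en.qb < 2 ^ W := lt_of_lt_of_le h2 (Nat.pow_le_pow_right (by norm_num) h22)
    have h6 : ∀ e, Nat.shiftRight E 22 ^^^ linL (LT.map fun x => Nat.shiftRight x 22) e = (E ^^^ linL LT e) >>> 22 := fun e => by
      rw [linL_add (fun x => Nat.shiftRight x 22) rfl fun x y => Nat.shiftRight_xor_distrib, Nat.shiftRight_xor_distrib]
      rfl
    have h7 : ∀ e, Nat.land E 4194303 ^^^ linL (LT.map fun x => Nat.land x 4194303) e = (E ^^^ linL LT e) &&& 4194303 :=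
      fun e => by
        rw [linL_add (fun x => Nat.land x 4194303) rfl fun x y => Nat.and_xor_distrib_right, Nat.and_xor_distrib_right]
        rfl
    show force (lfS W _ f σ es (LT.map fun x => Nat.shiftRight x 22) (Nat.shiftRight E 22)) (fun R =>
      force (lin W (LT.map fun x => Nat.land x 4194303) (Nat.land E 4194303) f) fun D =>
      force (Nat.xor D (Nat.mul en.qb _)) fun D' => Nat.add (Nat.add (codeS W _ en.kind en.ref en.fl D σ R)
        (Nat.mul 4 (gsS W _ en.m D'))) (Nat.mul 16 R)) = _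
    rw [force_eq, force_eq, force_eq, lfS_eq hσ h22 es _ _ h3 (by omega), lin_eq (E := Nat.land E 4194303) (h4 E) fun x hx => by
        obtain ⟨y, -, rfl⟩ := List.mem_map.1 hx
        exact h4 y, pk_c]
    simp only [h6, h7]
    rw [pk_xor (fun p _ => h4 _) fun _ _ => h5, codeS_eq _ _ _ (by omega) hσ (fun p _ => h4 _)
      fun p _ => lf_lt' hσ h3 (by omega) _, gsS_eq (by omega) h1 fun p _ => Nat.xor_lt_two_pow (h4 _) h5, pk_cm, pk_cm, pk_ad,
      pk_ad]
    exact pk_congr fun p _ => (lf_succ _ _ _ _).symm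

/-- the numbers of the keys -/
noncomputable def cntS (W M o T X R : ℕ) (SL : List ℕ) : ℕ → ℕ :=
  List.rec (fun m => Nat.mod m (Nat.pred (Nat.pow 2 W))) (fun a _ ih m =>
    force (Nat.land m (zS W o (Nat.lor (Nat.lor (Nat.xor T (Nat.mul (Nat.mod a M) o))
      (Nat.xor X (Nat.mul (Nat.mod (Nat.div a M) (Nat.pow 2 W)) o))) (Nat.xor R (Nat.mul (Nat.div (Nat.div a M) (Nat.pow 2 W)) o)))))
      fun z => force (Nat.sub m z) fun m' => Nat.add (Nat.mod z (Nat.pred (Nat.pow 2 W))) (Nat.mul 4294967296 (ih m'))) SL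

theorem cntS_eq {W M k : ℕ} {t x r : ℕ → ℕ} (hk : k + 2 ≤ W) (hM : M ≤ 2 ^ W) (ht : ∀ p, t p < M)
    (hx : ∀ p < 2 ^ k, x p < 2 ^ W) (hr : ∀ p < 2 ^ k, r p < 2 ^ W) : ∀ (SL : List ℕ) (μ : ℕ → ℕ),
      (∀ a ∈ SL, a / M / 2 ^ W < 2 ^ W) → (∀ p < 2 ^ k, μ p ≤ 1) →
      cntS W M (pk W k fun _ => 1) (pk W k t) (pk W k x) (pk W k r) SL (pk W k μ) =
        ∑ p ∈ range (2 ^ k), μ p * 2 ^ (32 * fnd SL (t p + M * (x p + 2 ^ W * r p)))
  | [], μ, _, hμ => (pk_tot hμ hk).trans (sum_congr rfl fun _ _ => (mul_one _).symm)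
  | a :: SL, μ, hS, hμ => by
    have hM0 : 0 < M := Nat.zero_lt_of_lt (ht 0)
    have hW := Nat.two_pow_pos W
    have h1 : 1 < 2 ^ W := Nat.one_lt_two_pow (by omega)
    have h2 : ∀ p, t p ^^^ a % M < 2 ^ W := fun p =>
      Nat.xor_lt_two_pow (lt_of_lt_of_le (ht p) hM) (lt_of_lt_of_le (Nat.mod_lt _ hM0) hM)
    have h3 : ∀ p < 2 ^ k, x p ^^^ a / M % 2 ^ W < 2 ^ W := fun p hp => Nat.xor_lt_two_pow (hx p hp) (Nat.mod_lt _ hW)
    have h4 : ∀ p < 2 ^ k, r p ^^^ a / M / 2 ^ W < 2 ^ W := fun p hp =>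
      Nat.xor_lt_two_pow (hr p hp) (hS a List.mem_cons_self)
    have h5 : ∀ p < 2 ^ k, (μ p &&& if ((t p ^^^ a % M) ||| (x p ^^^ a / M % 2 ^ W)) ||| (r p ^^^ a / M / 2 ^ W) = 0
        then 1 else 0) = if a = t p + M * (x p + 2 ^ W * r p) then μ p else 0 := fun p hp => by
      have h6 : ((t p ^^^ a % M) ||| (x p ^^^ a / M % 2 ^ W)) ||| (r p ^^^ a / M / 2 ^ W) = 0 ↔
          a = t p + M * (x p + 2 ^ W * r p) := by
        rw [Nat.or_eq_zero_iff, Nat.or_eq_zero_iff, Nat.xor_eq_zero_iff, Nat.xor_eq_zero_iff, Nat.xor_eq_zero_iff]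
        constructor
        · rintro ⟨⟨e1, e2⟩, e3⟩
          rw [e1, e2, e3, Nat.mod_add_div, Nat.mod_add_div]
        · rintro rfl
          rw [Nat.add_mul_mod_self_left, Nat.mod_eq_of_lt (ht p), Nat.add_mul_div_left _ _ hM0, Nat.div_eq_of_lt (ht p),
            zero_add, Nat.add_mul_mod_self_left, Nat.mod_eq_of_lt (hx p hp), Nat.add_mul_div_left _ _ hW,
            Nat.div_eq_of_lt (hx p hp), zero_add]
          exact ⟨⟨rfl, rfl⟩, rfl⟩
      simp only [h6]
      split_ifs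
      · rw [Nat.and_one_is_mod, Nat.mod_eq_of_lt (Nat.lt_succ_of_le (hμ p hp))]
      · exact Nat.and_zero _
    show force (Nat.land (pk W k μ) (zS W _ (Nat.lor (Nat.lor (Nat.xor _ (Nat.mul (a % M) _))
      (Nat.xor _ (Nat.mul (a / M % 2 ^ W) _))) (Nat.xor _ (Nat.mul (a / M / 2 ^ W) _)))))
      (fun z => force (Nat.sub (pk W k μ) z) fun m' => Nat.mod z (Nat.pred (Nat.pow 2 W)) + 4294967296 *
        cntS W M _ _ _ _ SL m') = _
    rw [force_eq, force_eq, pk_c, pk_c, pk_c, pk_xor (fun p _ => lt_of_lt_of_le (ht p) hM)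
      fun _ _ => lt_of_lt_of_le (Nat.mod_lt _ hM0) hM, pk_xor hx fun _ _ => Nat.mod_lt _ hW,
      pk_xor hr fun _ _ => hS a List.mem_cons_self, pk_or (fun p _ => h2 p) h3,
      pk_or (fun p hp => Nat.or_lt_two_pow (h2 p) (h3 p hp)) h4,
      zS_eq (by omega) fun p hp => Nat.or_lt_two_pow (Nat.or_lt_two_pow (h2 p) (h3 p hp)) (h4 p hp),
      pk_and (fun p hp => lt_of_le_of_lt (hμ p hp) h1) fun p _ => by split_ifs <;> omega, pk_congr h5,
      pk_sub fun p _ => by split_ifs <;> omega, pk_tot (fun p hp => by have := hμ p hp; split_ifs <;> omega) hk,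
      cntS_eq hk hM ht hx hr SL _ (fun b hb => hS b (List.mem_cons_of_mem _ hb)) fun p hp =>
        le_trans (Nat.sub_le _ _) (hμ p hp), mul_sum, ← sum_add_distrib]
    refine sum_congr rfl fun p _ => ?_
    show _ = μ p * 2 ^ (32 * cond (Nat.beq a (t p + M * (x p + 2 ^ W * r p))) 0 (fnd SL _ + 1))
    cases h : Nat.beq a (t p + M * (x p + 2 ^ W * r p))
    · rw [if_neg (Nat.ne_of_beq_eq_false h), cond_false, mul_add 32, pow_add, Nat.sub_zero]
      ring
    · rw [if_pos (Nat.eq_of_beq_eq_true h), cond_true, Nat.sub_self]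
      ring

/-- the numbers of the keys for both signs -/
noncomputable def totS (W M f : ℕ) (T : ℕ) (SL : List ℕ) (es : List En) (X : ℕ) (LT : List ℕ) (E : ℕ) : ℕ :=
  force (ones W f) fun o => force T fun T => force (lfS W o f 1 es LT E) fun R1 => force (lfS W o f 2 es LT E) fun R2 =>
    Nat.add (cntS W M o T X R1 SL o) (cntS W M o T X R2 SL o)

/-- the bounds for the keys -/
noncomputable def okS (W M : ℕ) (SL : List ℕ) : Bool := SL.all fun a => Nat.blt (a / M / 2 ^ W) (2 ^ W)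

theorem totS_eq {W M f E : ℕ} {t x : ℕ → ℕ} {SL LT : List ℕ} {es : List En} (hf : f ≤ 22) (hW : 28 + 12 * es.length ≤ W)
    (hM : M ≤ 256) (ht : ∀ p, t p < M) (hx : ∀ p < 2 ^ f, x p < 2 ^ W) (hE : okE es = true) (hS : okS W M SL = true) :
    ∑ y ∈ range (2 ^ f) ×ˢ ({1, 2} : Finset ℕ), 2 ^ (32 * fnd SL (t y.1 + M * (x y.1 + 2 ^ W * lf es (E ^^^ linL LT y.1) y.2))) =
      totS W M f (pk W f t) SL es (pk W f x) LT E := by
  have h1 : M ≤ 2 ^ W := le_trans hM (Nat.pow_le_pow_right (n := 2) (i := 8) (by norm_num) (by omega))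
  have h2 : ∀ a ∈ SL, a / M / 2 ^ W < 2 ^ W := fun a ha => Nat.blt_eq.mp (List.all_eq_true.1 hS a ha)
  unfold totS
  rw [force_eq, force_eq, force_eq, force_eq, ones_eq, lfS_eq (by norm_num) (by omega) _ _ _ hE (by omega),
    lfS_eq (by norm_num) (by omega) _ _ _ hE (by omega),
    cntS_eq (by omega) h1 ht hx (fun p _ => lf_lt' (by norm_num) hE (by omega) _) _ _ h2 fun _ _ => le_rfl,
    cntS_eq (by omega) h1 ht hx (fun p _ => lf_lt' (by norm_num) hE (by omega) _) _ _ h2 fun _ _ => le_rfl, sum_product]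
  refine Eq.trans (sum_congr rfl fun e _ => ?_) sum_add_distrib
  rw [sum_pair (by norm_num), one_mul, one_mul]

end Sd

open Sd

set_option maxHeartbeats 200000

attribute [local irreducible] wh wh2 mp dfs fixM spl tpl pk cn ws linL colf col pln ph qpl lf code gs hh flg fnd ones PL0 rowOf
  okRow totS zS

/-! ### powers -/

/-- the matrices of the power `j` -/
structure St (γ : Spor.Co2) (j : ℕ) (L N Y : List ℕ) : Prop where
  ind : IndC (γ ^ j) L
  lenL : L.length = 22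
  indN : ∀ (g : C) α, pr2 g = γ → Au Cd u g.1 α → IndN α j N
  lenN : N.length = 22
  hy : HY (toCo0 (γ ^ j)) Y

theorem St.indL {γ : Spor.Co2} {j : ℕ} {L N Y : List ℕ} (h : St γ j L N Y) {g : C} {α : MulAut (Pauli 11)}
    (hg : pr2 g = γ) (hα : Au Cd u g.1 α) : Ind (α ^ j) L := h.ind (g ^ j) _ (by rw [map_pow, hg]) (hα.pow j)

/-- the next powers -/
noncomputable def adv (L1 : List ℕ) (A : List (List ℕ)) (n : ℕ) :
    List ℕ → List ℕ → List ℕ → (List ℕ → List ℕ → List ℕ → Bool) → Bool :=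
  Nat.rec (fun L N Y k => k L N Y) (fun _ ih L N Y k => mapF (linL L1) L fun L' =>
    mapF (fun x => x) (List.zipWith Nat.xor N L) fun N' => mulYF Y A fun Y' => ih L' N' Y' k) n

theorem adv_spec {γ : Spor.Co2} {L1 : List ℕ} {A : List (List ℕ)} (h1 : IndC γ L1) (hA : HA (toCo0 γ) A)
    {k : List ℕ → List ℕ → List ℕ → Bool} : ∀ (n j : ℕ) (L N Y : List ℕ), St γ j L N Y → adv L1 A n L N Y k = true →
      ∃ L' N' Y', St γ (j + n) L' N' Y' ∧ k L' N' Y' = true
  | 0, _, L, N, Y, h, hk => ⟨L, N, Y, h, hk⟩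
  | n + 1, j, L, N, Y, h, hk => by
    change mapF (linL L1) L (fun L' => mapF (fun x => x) (List.zipWith Nat.xor N L) fun N' => mulYF Y A fun Y' =>
      adv L1 A n L' N' Y' k) = true at hk
    rw [mapF_eq, mapF_eq, mulYF_eq, List.map_id'] at hk
    have h2 := adv_spec h1 hA n (j + 1) _ _ _ ⟨by rw [pow_succ']; exact h1.mul h.ind, by rw [List.length_map, h.lenL],
      fun g α hg hα => (h.indN g α hg hα).succ (h.indL hg hα) (h.lenN.trans h.lenL.symm),
      by rw [List.length_zipWith, h.lenN, h.lenL]; rfl, by rw [pow_succ, toCo0_mul]; exact h.hy.mul hA⟩ hk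
    rwa [add_assoc, add_comm 1] at h2

/-! ### one power -/

/-- the certificate of a power -/
structure Ci where
  d : ℕ
  bs : List ℕ
  U : List ℕ
  K : List ℕ
  m : ℕ
  kind : ℕ
  ref : ℕ
  p : ℕ
  tu : ℤ

/-- the work for one power -/
noncomputable def ent (PL O Rf U1 : List ℕ) (W f : ℕ) (L N Y : List ℕ) (c : Ci) (X : ℕ) (LT : List ℕ) (E : ℕ)
    (es : List En) (k : ℕ → List ℕ → ℕ → List En → Bool) : Bool :=
  cond (bsB L c.bs c.U c.K && adB c.m c.bs && Nat.ble c.m 11 && tuB Y c.tu && kindB c.d c.kind c.ref c.p c.bs.length es)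
    (mapF (linL U1) N fun NU => mapF (linL NU) c.bs fun BN => mapF (col BN) Rf fun LD =>
      force (fixM PL L) fun A => mapF (pln PL NU) Rf fun PP => force (Nat.xor (spl PL N) (tpl Y A)) fun S =>
      force (Nat.add (wh W PP O S f A) (Nat.mul 4096 X)) fun X' =>
      mapF (fun x => x) (List.zipWith Nat.xor LD (LT.map fun x => Nat.shiftLeft x 22)) fun LT' =>
      force (Nat.xor (colf (fun b => fm b (linL N b)) c.bs) (Nat.shiftLeft E 22)) fun E' =>
      force (Nat.mod A 4095) fun na => force (hh c.kind c.ref c.bs.length es) fun h =>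
      force (Nat.sub c.bs.length c.m) fun h2 => force (colf qf c.bs) fun qb =>
      cond (flg c.ref c.p h es) (k X' LT' E' (⟨c.d, c.tu, na, h, h2, c.m, qb, c.kind, c.ref, true⟩ :: es))
        (k X' LT' E' (⟨c.d, c.tu, na, h, h2, c.m, qb, c.kind, c.ref, false⟩ :: es))) false

/-- the invariant -/
def Acc (γ : Spor.Co2) (B1 : List ℕ) (W pA pB X : ℕ) (LT : List ℕ) (E : ℕ) (es : List En) : Prop :=
  LT.length = B1.length ∧ ∃ a : ℕ → ℕ, X = pk W B1.length a ∧ (∀ e < 2 ^ B1.length, a e < 2 ^ 28 * 4096 ^ es.length) ∧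
    ∀ (g : C) α e σ, pr2 g = γ → Au Cd u g.1 α → Sg α B1 e → Sig g σ →
      Inv g (Bas pA pB g) es (a e) (lf es (E ^^^ linL LT e) σ)

theorem cond_self' (b : Bool) (k : Bool → Bool) : cond b (k true) (k false) = k b := by cases b <;> rfl

theorem ent_spec {γ : Spor.Co2} {O B1 U1 L N Y LT : List ℕ} {W pA pB X E : ℕ} {c : Ci} {es : List En}
    {k : ℕ → List ℕ → ℕ → List En → Bool} (hB : ∀ (g : C) α, pr2 g = γ → Au Cd u g.1 α → Bs α B1 U1)
    (hf : B1.length ≤ 22) (hO : ∀ j < B1.length, O.getD j 0 = ones W j) (hS : St γ c.d L N Y)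
    (hA : Acc γ B1 W pA pB X LT E es) (h : ent PL0 O (List.range B1.length) U1 W B1.length L N Y c X LT E es k = true) :
    ∃ X' LT' E' es', Acc γ B1 W pA pB X' LT' E' es' ∧ k X' LT' E' es' = true := by
  unfold ent at h
  cases h0 : (bsB L c.bs c.U c.K && adB c.m c.bs && Nat.ble c.m 11 && tuB Y c.tu &&
    kindB c.d c.kind c.ref c.p c.bs.length es) <;> rw [h0] at h
  · exact absurd h Bool.false_ne_true
  simp only [Bool.and_eq_true, Nat.ble_eq] at h0
  obtain ⟨⟨⟨⟨h1, h2⟩, h3⟩, h4⟩, h5⟩ := h0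
  rw [cond_true, mapF_eq, mapF_eq, mapF_eq, force_eq, mapF_eq, force_eq, force_eq, mapF_eq, force_eq, force_eq, force_eq,
    force_eq, force_eq, List.map_id', cond_self' _ fun b => k _ _ _ (⟨c.d, c.tu, _, _, _, c.m, _, c.kind, c.ref, b⟩ :: es)] at h
  refine ⟨_, _, _, _, ?_, h⟩
  obtain ⟨hl, a, rfl, ha, hI⟩ := hA
  refine ⟨by simp [hl], fun e => cn (fixM PL0 L) (ph ((List.range B1.length).map (pln PL0 (N.map (linL U1))))
    (spl PL0 N ^^^ tpl Y (fixM PL0 L)) B1.length e) + 4096 * a e, ?_, fun e he => ?_, fun g α e σ hg hα he hσ => ?_⟩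
  · rw [wh_eq un_mL _ _ hO _ (sub_fixM _ _), ← pk_add, ← pk_mul]
    rfl
  · have h6 := lt_of_le_of_lt (cn_le (sub_fixM PL0 L) (ph ((List.range B1.length).map (pln PL0 (N.map (linL U1))))
      (spl PL0 N ^^^ tpl Y (fixM PL0 L)) B1.length e)) un_mL.2
    have h7 := ha e he
    beta_reduce
    rw [List.length_cons, pow_succ 4096, ← mul_assoc]
    omega
  · have hb1 := hB g α hg hα
    have hL := hS.indL hg hα
    have hb := bsB_spec h1 hL
    have hY : HY (toCo0 (pr2 (g ^ c.d))) Y := by rw [map_pow, hg]; exact hS.hy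
    obtain ⟨ed, hed⟩ : ∃ ed, ed = colf (fun b => fm b (linL N b)) c.bs ^^^
      linL ((List.range B1.length).map (col (c.bs.map (linL (N.map (linL U1)))))) e := ⟨_, rfl⟩
    have h6 : Sg (α ^ c.d) c.bs ed := by
      refine ⟨hed ▸ Nat.xor_lt_two_pow (colf_lt _ _) (linL_lt (fun x hx => ?_) _), fun j hj => ?_⟩
      · obtain ⟨b, -, rfl⟩ := List.mem_map.1 hx
        have := col_lt (c.bs.map (linL (N.map (linL U1)))) b
        rwa [List.length_map] at this
      · rw [hed, bit_xor, bit_colf _ _ _ hj, bit_linL_trn hf _ he.1, add_comm,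
          List.getD_eq_getElem (c.bs.map _) _ (by rw [List.length_map]; exact hj), List.getElem_map, linL_map,
          ← List.getD_eq_getElem _ 0 hj]
        refine hb1.sn_pow he (hS.indN g α hg hα) (hb.fix_mem ?_)
        rw [List.getD_eq_getElem _ _ hj]
        exact List.getElem_mem hj
    have h7 : ed < 2 ^ 22 := lt_of_lt_of_le h6.1 (Nat.pow_le_pow_right (by norm_num) hb.le)
    have h8 : Nat.xor (colf (fun b => fm b (linL N b)) c.bs) (Nat.shiftLeft E 22) ^^^ linL (List.zipWith Nat.xor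
        ((List.range B1.length).map (col (c.bs.map (linL (N.map (linL U1)))))) (LT.map fun x => Nat.shiftLeft x 22)) e =
        ed ^^^ (E ^^^ linL LT e) <<< 22 := by
      rw [linL_zip _ _ (by simp [hl]), linL_shl, hed, Nat.shiftLeft_xor_distrib]
      show (_ ^^^ E <<< 22) ^^^ _ = _
      simp only [Nat.xor_assoc, Nat.xor_left_comm]
    have hcl := cl_sp hC (g := g ^ c.d) (hα.pow c.d)
    have h9 := hI g α e σ hg hα he hσ
    have h10 := code_spec h9 hσ h5 (ed := ed) (by rw [tq_eq]; exact hb.sq hcl h6)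
    have h11 : Cod (g ^ (2 * c.d)) (gs c.m (ed ^^^ colf qf c.bs)) (c.bs.length - c.m) :=
      ⟨gs_lt h3, by rw [tq_eq, two_mul, pow_add, map_mul]; exact hb.two hcl h6 h3 h2⟩
    have h12 := tX_pow hα hb1 he hL hS.lenL (hS.indN g α hg hα) hS.lenN hY
    have h13 := lt_of_le_of_lt (cn_le (sub_fixM PL0 L) (ph ((List.range B1.length).map (pln PL0 (N.map (linL U1))))
      (spl PL0 N ^^^ tpl Y (fixM PL0 L)) B1.length e)) un_mL.2
    beta_reduce
    rw [h8, lf_cons _ _ h7]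
    dsimp only
    rw [← un_mL.mod (sub_fixM PL0 L)] at h12
    generalize cn (fixM PL0 L) (ph ((List.range B1.length).map (pln PL0 (N.map (linL U1))))
      (spl PL0 N ^^^ tpl Y (fixM PL0 L)) B1.length e) = x at h12 h13 ⊢
    have h14 := h10.1
    have h15 := h11.1
    generalize code c.kind c.ref (flg c.ref c.p (hh c.kind c.ref c.bs.length es) es) ed σ (lf es (E ^^^ linL LT e) σ) = y
      at h10 h14 ⊢
    generalize gs c.m (ed ^^^ colf qf c.bs) = t at h11 h15 ⊢
    generalize lf es (E ^^^ linL LT e) σ = R at h9 ⊢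
    refine ⟨⟨tuB_spec hY h4, ?_⟩, ?_, ?_, ?_⟩
    · rw [show (x + 4096 * a e) % 4096 = x by omega]
      push_cast
      exact h12
    · rw [show (y + 4 * t + 16 * R) % 4 = y by omega]
      exact h10
    · rw [show (y + 4 * t + 16 * R) / 4 % 4 = t by omega]
      exact h11
    · rw [show (x + 4096 * a e) / 4096 = a e by omega, show (y + 4 * t + 16 * R) / 16 = R by omega]
      exact h9

/-- all powers -/
noncomputable def loop (PL O Rf U1 : List ℕ) (W f : ℕ) (L1 : List ℕ) (A : List (List ℕ))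
    (k : ℕ → List ℕ → ℕ → List En → Bool) (cs : List Ci) :
    ℕ → List ℕ → List ℕ → List ℕ → ℕ → List ℕ → ℕ → List En → Bool :=
  List.rec (fun _ _ _ _ X LT E es => k X LT E es) (fun c _ ih j L N Y X LT E es => cond (Nat.ble j c.d)
    (adv L1 A (Nat.sub c.d j) L N Y fun L' N' Y' => ent PL O Rf U1 W f L' N' Y' c X LT E es (ih c.d L' N' Y')) false) cs

theorem loop_spec {γ : Spor.Co2} {O B1 U1 L1 : List ℕ} {A : List (List ℕ)} {W pA pB : ℕ}
    {k : ℕ → List ℕ → ℕ → List En → Bool} (hB : ∀ (g : C) α, pr2 g = γ → Au Cd u g.1 α → Bs α B1 U1)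
    (hf : B1.length ≤ 22) (hO : ∀ j < B1.length, O.getD j 0 = ones W j) (h1 : IndC γ L1) (h2 : HA (toCo0 γ) A) :
    ∀ (cs : List Ci) (j : ℕ) (L N Y : List ℕ) (X : ℕ) (LT : List ℕ) (E : ℕ) (es : List En), St γ j L N Y →
      Acc γ B1 W pA pB X LT E es → loop PL0 O (List.range B1.length) U1 W B1.length L1 A k cs j L N Y X LT E es = true →
        ∃ X' LT' E' es', Acc γ B1 W pA pB X' LT' E' es' ∧ k X' LT' E' es' = true
  | [], _, _, _, _, X, LT, E, es, _, hA, h => ⟨X, LT, E, es, hA, h⟩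
  | c :: cs, j, L, N, Y, X, LT, E, es, hS, hA, h => by
    change cond (Nat.ble j c.d) (adv L1 A (c.d - j) L N Y fun L' N' Y' =>
      ent PL0 O (List.range B1.length) U1 W B1.length L' N' Y' c X LT E es
        (loop PL0 O (List.range B1.length) U1 W B1.length L1 A k cs c.d L' N' Y')) false = true at h
    cases h0 : Nat.ble j c.d <;> rw [h0] at h
    · exact absurd h Bool.false_ne_true
    obtain ⟨L', N', Y', hS', h3⟩ := adv_spec h1 h2 _ j L N Y hS h
    rw [Nat.add_sub_cancel' (Nat.le_of_ble_eq_true h0)] at hS'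
    obtain ⟨X', LT', E', es', hA', h4⟩ := ent_spec hB hf hO hS' hA h3
    exact loop_spec hB hf hO h1 h2 cs _ _ _ _ _ _ _ _ hS' hA' h4

/-! ### the start -/

/-- the counts for the two small classes of `Q` -/
noncomputable def ini (PL O Rf B1 U1 L1 : List ℕ) (W f : ℕ) (k : ℕ → ℕ → ℕ → Bool) : Bool :=
  force (fixM PL L1) fun A => mapF (linL U1) I22 fun NU => mapF (pln PL NU) Rf fun PP =>
    mapF (fun x => x) (qpl PL B1) fun QP => force (wh W QP O 0 f mL) fun T =>
    force (ones W f) fun o => force (zS W o (Nat.xor T (Nat.mul 1276 o))) fun Z => force (wh2 W O f Z) fun XB =>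
    force (Nat.mod A 4095) fun pA => force (Nat.land XB (Nat.pred (Nat.pow 2 W))) fun pB =>
    cond (Nat.blt pB 65536) (force (Nat.add (wh W PP O 0 f A) (Nat.mul 4096 XB)) fun X => k pA pB X) false

theorem zB'_le (B : List ℕ) (v : ℕ) : zB' B v ≤ 1 := by unfold zB'; split_ifs <;> omega

theorem ini_spec {γ : Spor.Co2} {O B1 U1 L1 : List ℕ} {W : ℕ} {k : ℕ → ℕ → ℕ → Bool}
    (hB : ∀ (g : C) α, pr2 g = γ → Au Cd u g.1 α → Bs α B1 U1) (hf : B1.length ≤ 22) (hW : 28 ≤ W)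
    (hO : ∀ j < B1.length, O.getD j 0 = ones W j) (h1 : IndC γ L1) (hl : L1.length = 22)
    (h : ini PL0 O (List.range B1.length) B1 U1 L1 W B1.length k = true) :
    ∃ pA pB X, Acc γ B1 W pA pB X (List.replicate B1.length 0) 0 [] ∧ k pA pB X = true := by
  unfold ini at h
  have hW' : 2 ^ 12 ≤ 2 ^ W := Nat.pow_le_pow_right (by norm_num) (by omega)
  have hc : ∀ p, cn mL (ph (qpl PL0 B1) 0 B1.length p) < 2 ^ W := fun p =>
    lt_of_lt_of_le (lt_of_le_of_lt (cn_le sub_mL _) un_mL.2) (by omega)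
  rw [force_eq, mapF_eq, mapF_eq, mapF_eq, force_eq, force_eq, force_eq, force_eq, force_eq, force_eq, force_eq, List.map_id',
    wh_eq un_mL _ _ hO _ sub_mL, wh_eq un_mL _ _ hO _ (sub_fixM _ _), ones_eq, pk_c, pk_xor (fun p _ => hc p) fun _ _ => by omega,
    zS_eq (by omega) fun p _ => Nat.xor_lt_two_pow (hc p) (by omega),
    pk_congr (b := zB' B1) (fun p _ => by
      unfold zB'
      simp only [Nat.xor_eq_zero_iff]),
    wh2_eq _ (by omega) hO _ fun p _ => zB'_le _ _] at h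
  have h2 : Nat.land (pk W B1.length (ws B1.length (zB' B1))) (Nat.pred (Nat.pow 2 W)) = ws B1.length (zB' B1) 0 := by
    show _ &&& (2 ^ W - 1) = _
    rw [Nat.and_two_pow_sub_one_eq_mod, pk_mod (ws_lt (fun p _ => zB'_le _ _) (by omega) 0)]
  rw [h2] at h
  cases h0 : Nat.blt (ws B1.length (zB' B1) 0) 65536 <;> rw [h0] at h
  · exact absurd h Bool.false_ne_true
  rw [Nat.blt_eq] at h0
  refine ⟨_, _, _, ⟨List.length_replicate, fun e => cn (fixM PL0 L1) (ph ((List.range B1.length).map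
    (pln PL0 (I22.map (linL U1)))) 0 B1.length e) + 4096 * ws B1.length (zB' B1) e, ?_, fun e _ => ?_,
    fun g α e σ hg hα he _ => ?_⟩, h⟩
  · rw [← pk_add, ← pk_mul]
    rfl
  · have h3 := lt_of_le_of_lt (cn_le (sub_fixM PL0 L1) (ph ((List.range B1.length).map (pln PL0 (I22.map (linL U1)))) 0
      B1.length e)) un_mL.2
    have h4 := ws_le (k := B1.length) (z := zB' B1) e
    beta_reduce
    rw [List.length_nil, pow_zero]
    omega
  · have hb := hB g α hg hα
    have h3 := lt_of_le_of_lt (cn_le (sub_fixM PL0 L1) (ph ((List.range B1.length).map (pln PL0 (I22.map (linL U1)))) 0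
      B1.length e)) un_mL.2
    have h4 := cS_XA hα hb he (h1 g α hg hα) hl 0
    have h5 := cS_XA hα hb he (h1 g α hg hα) hl 1
    have h6 := cn_add_one (fixM PL0 L1) (ph ((List.range B1.length).map (pln PL0 (I22.map (linL U1)))) 0 B1.length e)
    have h7 : cS XB g.1 0 = 2 * ws B1.length (zB' B1) e := by rw [cS_XB hα hb he 0, ws]
    have h8 := cS_XB hα hb he 1
    have h9 := ws_add_one B1.length (zB' B1) e
    have h10 : Nat.mod (fixM PL0 L1) 4095 = cn (fixM PL0 L1) 0 := un_mL.mod (sub_fixM PL0 L1)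
    simp only [add_zero] at h4
    change cS XA g.1 0 = 2 * cn (fixM PL0 L1) (ph ((List.range B1.length).map (pln PL0 (I22.map (linL U1)))) 0
      B1.length e) at h4
    rw [h10]
    refine ⟨?_, ?_, ?_, ?_⟩ <;> dsimp only <;> omega

/-! ### the end -/

/-- the default row -/
def r0 : Row × ℕ := ((0, false, [], 0, 0, 0, 0), 0)

/-- the final check -/
noncomputable def Sd.fnS (n r W f pA pB : ℕ) (SL : List ℕ) (T : List (Row × ℕ)) (X : ℕ) (LT : List ℕ) (E : ℕ)
    (es : List En) : Bool :=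
  Nat.blt r es.length && Nat.beq (es.getD r En.z).d n && Nat.ble (28 + 12 * es.length) W && Nat.beq SL.length T.length &&
    okE es && okS W 1 SL && force (totS W 1 f 0 SL es X LT E) fun CN =>
      Nat.blt CN (2 ^ (32 * SL.length)) && (List.range SL.length).all fun j =>
        reqB (rowOf es n r pA pB (SL.getD j 0 % 2 ^ W) (SL.getD j 0 / 2 ^ W)) (T.getD j r0).1 && okRow (T.getD j r0).1 &&
          Nat.beq (T.getD j r0).2 (2 ^ (22 - f) * (CN / (2 ^ 32) ^ j % 2 ^ 32))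

theorem tot_eq (sel : Row → Bool) : ∀ T : List (Row × ℕ),
    tot sel T = ∑ j ∈ range T.length, if sel (T.getD j r0).1 = true then (T.getD j r0).2 else 0
  | [] => rfl
  | t :: T => by
    rw [List.length_cons, sum_range_succ', add_comm]
    exact congrArg (_ + ·) (tot_eq sel T)

theorem fin_spec {γ : Spor.Co2} {B1 U1 SL LT : List ℕ} {n r W pA pB X E : ℕ} {T : List (Row × ℕ)} {es : List En}
    (hB : ∀ (g : C) α, pr2 g = γ → Au Cd u g.1 α → Bs α B1 U1) (hf : B1.length ≤ 22) (hn : γ ^ n = 1)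
    (hA : Acc γ B1 W pA pB X LT E es) (h : fnS n r W B1.length pA pB SL T X LT E es = true) : ClsOK γ T := by
  unfold fnS at h
  rw [force_eq] at h
  simp only [Bool.and_eq_true, Nat.blt_eq, Nat.beq_eq, Nat.ble_eq, List.all_eq_true, List.mem_range] at h
  obtain ⟨⟨⟨⟨⟨⟨h1, h2⟩, h3⟩, h4⟩, hE⟩, hS⟩, h5, h6⟩ := h
  obtain ⟨-, a, rfl, ha, hI⟩ := hA
  have h7 : ∀ e < 2 ^ B1.length, a e < 2 ^ W := fun e he => lt_of_lt_of_le (ha e he) (by
    rw [show 4096 = 2 ^ 12 from rfl, ← pow_mul, ← pow_add]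
    exact Nat.pow_le_pow_right (by norm_num) h3)
  obtain ⟨φ, hφ⟩ : ∃ φ : ℕ × ℕ → ℕ, ∀ e σ, φ (e, σ) = fnd SL (a e + 2 ^ W * lf es (E ^^^ linL LT e) σ) :=
    ⟨fun x => fnd SL (a x.1 + 2 ^ W * lf es (E ^^^ linL LT x.1) x.2), fun _ _ => rfl⟩
  have h8 : ∑ x ∈ range (2 ^ B1.length) ×ˢ ({1, 2} : Finset ℕ), 2 ^ (32 * φ x) =
      totS W 1 B1.length 0 SL es (pk W B1.length a) LT E := by
    rw [pk_z W B1.length, ← totS_eq hf h3 (by norm_num) (fun _ => Nat.one_pos) h7 hE hS]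
    exact sum_congr rfl fun x _ => by rw [zero_add, one_mul, ← hφ]
  obtain ⟨h9, h10⟩ := count_of_sum _ φ (by
    rw [card_product, card_range, card_pair (by norm_num), ← pow_succ]
    exact Nat.pow_lt_pow_right (by norm_num) (by omega)) h8 h5
  have h11 : ∀ (g : C) α e σ, pr2 g = γ → Au Cd u g.1 α → Sg α B1 e → Sig g σ →
      φ (e, σ) < SL.length ∧ Has g (T.getD (φ (e, σ)) r0).1 := fun g α e σ hg hα he hσ => by
    have h12 := h9 (e, σ) (mem_product.2 ⟨mem_range.2 he.1, by rcases hσ.1 with rfl | rfl <;> simp⟩)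
    refine ⟨h12, ?_⟩
    have h13 := (h6 _ h12).1
    have h14 : SL.getD (φ (e, σ)) 0 = a e + 2 ^ W * lf es (E ^^^ linL LT e) σ := by
      rw [hφ] at h12 ⊢
      exact fnd_spec _ _ h12
    rw [h14, Nat.add_mul_mod_self_left, Nat.mod_eq_of_lt (h7 e he.1), Nat.add_mul_div_left _ _ (Nat.two_pow_pos W),
      Nat.div_eq_of_lt (h7 e he.1), zero_add] at h13
    rw [← reqB_spec h13.1]
    exact has_row (hI g α e σ hg hα he hσ) h1 h2 (by rw [hg, hn]) (by rw [reqB_spec h13.1]; exact h13.2)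
  refine ⟨fun g hg => ?_, fun sel => ?_⟩
  · obtain ⟨α, hα⟩ := hC.fact _ g.2
    obtain ⟨σ, hσ⟩ := exists_sig g
    obtain ⟨h12, h13⟩ := h11 g α _ σ hg hα (hB g α hg hα).sg hσ
    refine ⟨_, ?_, h13⟩
    rw [List.getD_eq_getElem _ _ (h4 ▸ h12)]
    exact List.getElem_mem _
  · refine le_trans (le_of_eq ?_) (count_coset hB _ (fun e σ => if sel (T.getD (φ (e, σ)) r0).1 = true then 1 else 0)
      (fun e σ => by split_ifs <;> omega) fun g α e σ hg hα he hσ h12 =>
        ⟨_, by_contra fun h13 => h12 (if_neg h13), (h11 g α e σ hg hα he hσ).2⟩)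
    have h12 : ∑ e ∈ range (2 ^ B1.length), ((if sel (T.getD (φ (e, 1)) r0).1 = true then 1 else 0) +
        if sel (T.getD (φ (e, 2)) r0).1 = true then 1 else 0) = ∑ x ∈ range (2 ^ B1.length) ×ˢ ({1, 2} : Finset ℕ),
          if sel (T.getD (φ x) r0).1 = true then 1 else 0 := by
      rw [sum_product]
      exact sum_congr rfl fun e _ => (sum_pair (f := fun σ => if sel (T.getD (φ (e, σ)) r0).1 = true then 1 else 0)
        (by norm_num)).symm
    rw [h12, ← sum_fiberwise_of_maps_to (g := φ) (t := range SL.length) fun x hx => mem_range.2 (h9 x hx), tot_eq, ← h4,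
      mul_sum]
    refine sum_congr rfl fun j hj => ?_
    rw [sum_congr rfl (g := fun _ => if sel (T.getD j r0).1 = true then 1 else 0) fun x hx => by rw [(mem_filter.1 hx).2],
      sum_const, smul_eq_mul, h10 j (mem_range.1 hj), (h6 j (mem_range.1 hj)).2]
    split_ifs
    · rw [mul_one]
    · rw [mul_zero, mul_zero]

/-- the data of a class -/
structure Cs where
  w : List ℕ
  n : ℕ
  r : ℕ
  W : ℕ
  bs : List ℕ
  U : List ℕ
  K : List ℕ
  cs : List Ci
  SL : List ℕ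

/-- **the check of a class** -/
noncomputable def clsB (c : Cs) (T : List (Row × ℕ)) : Bool :=
  cond (ordT c.w c.n && Nat.ble 28 c.W) (mapF pl R22 fun PL => wdL c.w I22 fun L1 => wdY c.w YI fun Y1 => dgsF Y1 fun A =>
    force c.bs.length fun f => mapF (fun x => x) (List.range f) fun Rf => mapF (ones c.W) Rf fun O =>
    cond (bsB L1 c.bs c.U c.K) (ini PL O Rf c.bs c.U L1 c.W f fun pA pB X =>
      loop PL O Rf c.U c.W f L1 A (fnS c.n c.r c.W f pA pB c.SL T) c.cs 1 L1 I22 Y1 X (List.replicate f 0) 0 []) false) false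

theorem clsB_spec {c : Cs} {T : List (Row × ℕ)} (h : clsB c T = true) : ClsOK (wd c.w) T := by
  unfold clsB at h
  cases h0 : (ordT c.w c.n && Nat.ble 28 c.W) <;> rw [h0] at h
  · exact absurd h Bool.false_ne_true
  rw [Bool.and_eq_true, Nat.ble_eq] at h0
  rw [cond_true, mapF_eq, ← PL0] at h
  obtain ⟨L1, hL, h1⟩ := wdL_true h
  obtain ⟨Y1, hY, h⟩ := wdY_true h1
  rw [dgsF_eq, force_eq, mapF_eq, mapF_eq, List.map_id'] at h
  cases h3 : bsB L1 c.bs c.U c.K <;> rw [h3] at h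
  · exact absurd h Bool.false_ne_true
  rw [cond_true] at h
  have hB : ∀ (g : C) α, pr2 g = wd c.w → Au Cd u g.1 α → Bs α c.bs c.U := fun g α hg hα => bsB_spec h3 (hL g α hg hα)
  simp only [bsB, Bool.and_eq_true, Nat.ble_eq, Nat.beq_eq] at h3
  have hf := h3.1.1.1.1.1.1.1
  have hl := h3.1.1.1.1.1.2
  have hO : ∀ j < c.bs.length, ((List.range c.bs.length).map (ones c.W)).getD j 0 = ones c.W j := fun j hj => by
    rw [List.getD_eq_getElem _ _ (by simpa using hj), List.getElem_map, List.getElem_range]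
  obtain ⟨pA, pB, X, hA, h4⟩ := ini_spec hB hf h0.2 hO hL hl h
  obtain ⟨X', LT', E', es', hA', h5⟩ := loop_spec hB hf hO hL hY.ha c.cs 1 L1 I22 Y1 _ _ _ _
    ⟨by rwa [pow_one], hl, fun _ _ _ _ => by rw [I22_eq]; exact IndN.one, rfl, by rwa [pow_one]⟩ hA h4
  exact fin_spec hB hf (ordT_sound h0.1) hA' h5

end Cfsg.Agent.TAB.B.C2

private theorem dce_112491f1c211 : _root_.True := by
  try have : _root_.True := by simp only [_root_.Cfsg.Agent.TAB.B.C2.reqB.eq_1]
  exact _root_.True.intro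
end

-- part: TAB/B/C2/R1
section
set_option linter.all false

/-!
# Runs, part 1 (helper48)
-/

set_option autoImplicit false

namespace Cfsg.Agent.TAB.B.C2

open Cfsg.Agent.H633.Ore.Co2

/-- the class 1 -/
def c1 : Cs := ⟨C0.w1, 2, 0, 52, [4, 8345, 90, 4099, 408, 20582, 801, 2207, 1872, 49536, 69607, 185851, 284659, 564681, 1101759, 2146912], [0, 0, 1, 0, 0, 0, 4, 0, 16, 80, 324, 129, 8, 2, 45, 573, 1408, 2888, 4389, 9188, 17300, 33348], [0, 0, 0, 0, 0, 0, 0, 0, 0, 0, 0, 0, 0, 0, 0, 0, 163, 178, 10, 18, 34, 2],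
   [⟨1, [4, 8345, 90, 4099, 408, 20582, 801, 2207, 1872, 49536, 69607, 185851, 284659, 564681, 1101759, 2146912], [0, 0, 1, 0, 0, 0, 4, 0, 16, 80, 324, 129, 8, 2, 45, 573, 1408, 2888, 4389, 9188, 17300, 33348], [0, 0, 0, 0, 0, 0, 0, 0, 0, 0, 0, 0, 0, 0, 0, 0, 163, 178, 10, 18, 34, 2], 5, 0, 0, 0, -9⟩,
    ⟨2, [2048, 1, 4096, 2, 8192, 4, 16384, 8, 32768, 16, 65536, 32, 131072, 64, 262144, 128, 524288, 256, 1048576, 512, 2097152, 1024], [2, 8, 32, 128, 512, 2048, 8192, 32768, 131072, 524288, 2097152, 1, 4, 16, 64, 256, 1024, 4096, 16384, 65536, 262144, 1048576], [0, 0, 0, 0, 0, 0, 0, 0, 0, 0, 0, 0, 0, 0, 0, 0, 0, 0, 0, 0, 0, 0], 11, 1, 0, 2, 23⟩],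
   [18090198441706748, 18090748398830844, 18090748130460924, 18098993997989116, 18098995071468796, 310830771559057660, 310826922932668668, 603560898443380988, 603555951245117692, 310901138156275964, 382958736488122620, 455016330526050556]⟩

theorem ok1 : ClsOK (wd C0.w1) T1 := clsB_spec (c := c1) (by decide +kernel)

end Cfsg.Agent.TAB.B.C2
end

-- part: TAB/B/C2/Low
section
set_option linter.all false
open scoped Cfsg.Agent.FastGrp

/-!
# From the cosets of `Q` to `C` (helper48)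
-/

set_option autoImplicit false

namespace Cfsg.Agent.TAB.B.C2

open Cfsg
open Cfsg.Agent.H633.Ore (UU)
open Cfsg.Agent.H633.Ore.Co2 (wd Dt data data_good data_nodup ff ff_conj ff_inv)
open Cfsg.Agent.Monster.PauliBasic
open Cfsg.Agent.BabyM Cfsg.Agent.BabyM.Conc Cfsg.Agent.BabyM.KTab
open Finset

theorem sum_card_le {X ι : Type} [Finite X] (s : Finset ι) (A : ι → X → Prop) (Φ : X → Prop)
    (hd : ∀ i ∈ s, ∀ j ∈ s, ∀ x, A i x → A j x → i = j) (h : ∀ i ∈ s, ∀ x, A i x → Φ x) :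
    ∑ i ∈ s, Nat.card {x // A i x} ≤ Nat.card {x // Φ x} := by
  rw [← sum_coe_sort, ← Nat.card_sigma]
  refine Nat.card_le_card_of_injective (fun p => ⟨p.2.1, h _ p.1.2 _ p.2.2⟩) ?_
  rintro ⟨⟨i, hi⟩, x, hx⟩ ⟨⟨j, hj⟩, y, hy⟩ e
  obtain rfl : x = y := congrArg Subtype.val e
  obtain rfl := hd i hi j hj x hx hy
  rfl

theorem card_mono {X : Type} [Finite X] {A B : X → Prop} (h : ∀ x, A x → B x) : Nat.card {x // A x} ≤ Nat.card {x // B x} :=
  Nat.card_le_card_of_injective (fun x => ⟨x.1, h _ x.2⟩) fun _ _ e => Subtype.ext (congrArg Subtype.val e :)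

/-- the class number `j` of `Co2` -/
def dd (j : ℕ) : Dt := data.getD j ⟨[], 0, 0, 0, 0, 0, 0⟩

theorem data_length : data.length = 56 := rfl

theorem dd_eq {j : ℕ} (hj : j < 56) : dd j = data[j]'(data_length ▸ hj) := List.getD_eq_getElem _ _ _

section

variable {Φ : C → Prop} (hc : ∀ g k, Φ g → Φ (k * g * k⁻¹)) (hi : ∀ g, Φ g → Φ g⁻¹)

include hc in
theorem fib_conj {γ δ : Spor.Co2} (h : IsConj γ δ) :
    Nat.card {g : C // pr2 g = γ ∧ Φ g} ≤ Nat.card {g : C // pr2 g = δ ∧ Φ g} := by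
  have := finite_C
  obtain ⟨c, rfl⟩ := isConj_iff.1 h
  obtain ⟨k, rfl⟩ := pr2_surj c
  refine Nat.card_le_card_of_injective
    (fun g => ⟨k * g * k⁻¹, by rw [map_mul, map_mul, map_inv, g.2.1], hc _ _ g.2.2⟩) fun a b e => ?_
  exact Subtype.ext (mul_left_cancel (mul_right_cancel (congrArg Subtype.val e :)))

include hi in
theorem fib_inv (γ : Spor.Co2) : Nat.card {g : C // pr2 g = γ ∧ Φ g} ≤ Nat.card {g : C // pr2 g = γ⁻¹ ∧ Φ g} := by
  have := finite_C
  refine Nat.card_le_card_of_injective (fun g => ⟨g⁻¹, by rw [map_inv, g.2.1], hi _ g.2.2⟩) fun a b e => ?_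
  exact Subtype.ext (inv_injective (congrArg Subtype.val e :))

include hc hi in
/-- **the distribution over the classes of `Co2`** -/
theorem dist (m : ℕ → ℕ) (h : ∀ j < 56, m j ≤ Nat.card {g : C // pr2 g = wd (dd j).w ∧ Φ g}) :
    ∑ j ∈ range 56, (dd j).q * m j ≤ Nat.card {g : C // Φ g} := by
  classical
  have := finite_C
  have : Finite Spor.Co2 := Finite.of_surjective pr2 pr2_surj
  have h1 : ∀ j < 56, ff (wd (dd j).w) = (dd j).k ∧ (dd j).q ≤ Nat.card (UU (wd (dd j).w)) := fun j hj =>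
    data_good _ (by rw [dd_eq hj]; exact List.getElem_mem _)
  have h2 : ∀ r x : Spor.Co2, x ∈ UU r → ff x = ff r := by
    rintro r x (h2 | h2) <;> obtain ⟨c, rfl⟩ := isConj_iff.1 h2
    · exact ff_conj c r
    · rw [ff_conj, ff_inv]
  refine le_trans (sum_le_sum fun j hj => ?_) (sum_card_le _ (fun j g => pr2 g ∈ UU (wd (dd j).w) ∧ Φ g) Φ
    (fun i hi j hj g h3 h4 => ?_) fun _ _ _ h3 => h3.2)
  · have hj := mem_range.1 hj
    refine le_trans ?_ (sum_card_le (Set.toFinite (UU (wd (dd j).w))).toFinset (fun γ g => pr2 g = γ ∧ Φ g) _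
      (fun _ _ _ _ g h3 h4 => h3.1.symm.trans h4.1) fun γ hγ g h3 => ⟨h3.1 ▸ (Set.Finite.mem_toFinset _).1 hγ, h3.2⟩)
    refine le_trans (Nat.mul_le_mul_right _ (h1 j hj).2) ?_
    rw [Nat.card_coe_set_eq, Set.ncard_eq_toFinset_card _ (Set.toFinite _), ← smul_eq_mul]
    refine card_nsmul_le_sum _ _ _ fun γ hγ => (h j hj).trans ?_
    rcases (Set.Finite.mem_toFinset _).1 hγ with h3 | h3
    · exact fib_conj hc h3
    · exact (fib_inv hi _).trans (fib_conj hc h3)
  · have hi := mem_range.1 hi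
    have hj := mem_range.1 hj
    have h5 : (dd i).k = (dd j).k := by rw [← (h1 i hi).1, ← (h1 j hj).1, ← h2 _ _ h3.1, ← h2 _ _ h4.1]
    rw [dd_eq hi, dd_eq hj] at h5
    exact (List.Nodup.getElem_inj_iff data_nodup (hi := by rw [List.length_map]; exact hi)
      (hj := by rw [List.length_map]; exact hj)).1 (by rw [List.getElem_map, List.getElem_map]; exact h5)

include hc hi in
/-- a property of all elements over the words holds for all elements -/
theorem all_of (h : ∀ j < 56, ∀ g : C, pr2 g = wd (dd j).w → Φ g) (g : C) : Φ g := by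
  obtain ⟨w, hw, h1⟩ := H633.Ore.Co2.cover (pr2 g)
  rw [← H633.Ore.Co2.reps_eq] at hw
  obtain ⟨d, hd, rfl⟩ := List.mem_map.1 hw
  obtain ⟨j, hj, rfl⟩ := List.getElem_of_mem hd
  rw [← dd_eq hj] at h1
  rcases h1 with h1 | h1 <;> obtain ⟨c, h2⟩ := isConj_iff.1 h1 <;> obtain ⟨k, rfl⟩ := pr2_surj c
  · have h3 := hc _ k (h j hj (k⁻¹ * g * k) (by rw [map_mul, map_mul, map_inv, ← h2]; group))
    rwa [show k * (k⁻¹ * g * k) * k⁻¹ = g by group] at h3
  · have h3 := hi _ (hc _ k (h j hj (k⁻¹ * g⁻¹ * k) (by rw [map_mul, map_mul, map_inv, map_inv, ← h2]; group)))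
    rwa [show (k * (k⁻¹ * g⁻¹ * k) * k⁻¹)⁻¹ = g by group] at h3

end

/-! ### rows without the four numbers -/

/-- `g` is described by the row, up to the four numbers -/
def Has0 (g : C) (r : Row) : Prop :=
  orderOf g = r.1 ∧ (r.2.1 = true → g ^ (r.1 / 2) = rq (Pauli.z 11)) ∧ ∀ q ∈ r.2.2.1, Tr3 g q

theorem Has.has0 {g : C} {r : Row} (h : Has g r) : Has0 g r := ⟨h.1, h.2.1, h.2.2.1⟩

/-- the lower bounds -/
def Low0 (γ : Spor.Co2) (T : List (Row × ℕ)) : Prop :=
  ∀ sel : Row → Bool, tot sel T ≤ Nat.card {g : C // pr2 g = γ ∧ ∃ r, sel r = true ∧ Has0 g r}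

theorem ClsOK.low0 {γ : Spor.Co2} {T : List (Row × ℕ)} (h : ClsOK γ T) : Low0 γ T := fun sel =>
  have := finite_C
  (h.2 sel).trans (card_mono fun _ h1 => ⟨h1.1, h1.2.imp fun _ h2 => ⟨h2.1, h2.2.has0⟩⟩)

/-- the rows exclude each other -/
def sepR (r s : Row) : Bool :=
  decide (r.1 ≠ s.1) || r.2.2.1.any fun p => s.2.2.1.any fun q => decide (p.1 = q.1) && decide (p.2.2.1 ≠ q.2.2.1)

theorem sepR_spec {g : C} {r s : Row} (h : sepR r s = true) (h1 : Has0 g r) (h2 : Has0 g s) : False := by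
  simp only [sepR, Bool.or_eq_true, decide_eq_true_eq, List.any_eq_true, Bool.and_eq_true] at h
  rcases h with h | ⟨p, hp, q, hq, h3, h4⟩
  · exact h (h1.1.symm.trans h2.1)
  · have h5 := (h1.2.2 p hp).2.1
    rw [h3, (h2.2.2 q hq).2.1] at h5
    exact h4 (by exact_mod_cast h5.symm)

theorem low0_of {γ : Spor.Co2} {T : List (Row × ℕ)}
    (hs : ((List.range T.length).all fun i => (List.range T.length).all fun j =>
      decide (i = j) || sepR (T.getD i r0).1 (T.getD j r0).1) = true)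
    (h : ∀ j < T.length, (T.getD j r0).2 ≤ Nat.card {g : C // pr2 g = γ ∧ Has0 g (T.getD j r0).1}) : Low0 γ T := by
  intro sel
  have := finite_C
  simp only [List.all_eq_true, List.mem_range, Bool.or_eq_true, decide_eq_true_eq] at hs
  rw [tot_eq, ← sum_filter]
  refine le_trans (sum_le_sum fun j hj => h j (mem_range.1 (mem_filter.1 hj).1)) (sum_card_le _ _ _
    (fun i hi j hj g h1 h2 => ?_) fun j hj g h1 => ⟨h1.1, _, (mem_filter.1 hj).2, h1.2⟩)
  exact (hs i (mem_range.1 (mem_filter.1 hi).1) j (mem_range.1 (mem_filter.1 hj).1)).resolve_right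
    fun h3 => sepR_spec h3 h1.2 h2.2

end Cfsg.Agent.TAB.B.C2

private theorem dce_e4a272ca3381 : _root_.True := by
  try have : _root_.True := by simp only [_root_.Cfsg.Agent.TAB.B.C2.sepR.eq_1]
  exact _root_.True.intro
end

-- part: TAB/B/C2/Tag
section
set_option linter.all false
open scoped Cfsg.Agent.FastGrp

/-!
# The check of a class with tags on the sign vectors (helper48)
-/

set_option autoImplicit false

namespace Cfsg.Agent.TAB.B.C2

open Cfsg
open Cfsg.Agent.H633.Ore (linL force force_eq mapF mapF_eq idL linL_idL)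
open Cfsg.Agent.H633.Ore.Co2 (wd ordT ordT_sound)
open Cfsg.Agent.Monster.PauliBasic
open Cfsg.Agent.BabyM Cfsg.Agent.BabyM.Conc Cfsg.Agent.BabyM.KTab
open Finset Sd

set_option maxHeartbeats 200000

attribute [local irreducible] wh wh2 mp dfs fixM spl tpl pk cn ws linL colf col pln ph qpl lf code gs hh flg fnd ones PL0 rowOf
  okRow totS

/-- the total of the selected rows and tags -/
def totT (sel : Row → ℕ → Bool) (T : List (Row × ℕ)) (tags : List ℕ) : ℕ :=
  ∑ j ∈ range T.length, if sel (T.getD j r0).1 (tags.getD j 0) = true then (T.getD j r0).2 else 0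

/-- the table with tags describes the coset over `γ` -/
def ClsTg (γ : Spor.Co2) (B : List ℕ) (tg : ℕ → ℕ) (T : List (Row × ℕ)) (tags : List ℕ) : Prop :=
  ∀ sel : Row → ℕ → Bool, totT sel T tags ≤ Nat.card {g : C // pr2 g = γ ∧
    ∃ r α e, Au Cd u g.1 α ∧ Sg α B e ∧ sel r (tg e % 256) = true ∧ Has g r}

/-- the array of the values of a function -/
noncomputable def Sd.tabS (W : ℕ) (g : ℕ → ℕ) (k : ℕ) : ℕ → ℕ :=
  Nat.rec g (fun k ih b => force (Nat.add b (Nat.pow 2 k)) fun b' =>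
    Nat.add (ih b) (Nat.shiftLeft (ih b') (Nat.mul W (Nat.pow 2 k)))) k

theorem Sd.tabS_eq (W : ℕ) (g : ℕ → ℕ) : ∀ k b, tabS W g k b = pk W k fun e => g (b + e)
  | 0, b => by rw [pk_zero]; rfl
  | k + 1, b => by
    show force (Nat.add b (Nat.pow 2 k)) (fun b' =>
      Nat.add (tabS W g k b) (Nat.shiftLeft (tabS W g k b') (Nat.mul W (Nat.pow 2 k)))) = _
    rw [force_eq, tabS_eq W g k, tabS_eq W g k, shl_eq, pk_succ]
    exact congrArg (_ + 2 ^ (W * 2 ^ k) * ·) (pk_congr fun p _ => congrArg g (add_assoc _ _ _))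

/-- the final check -/
noncomputable def finT (tg : ℕ → ℕ) (n r W f pA pB : ℕ) (SL : List ℕ) (T : List (Row × ℕ)) (tags : List ℕ) (X : ℕ)
    (LT : List ℕ) (E : ℕ) (es : List En) : Bool :=
  Nat.blt r es.length && Nat.beq (es.getD r En.z).d n && Nat.ble (28 + 12 * es.length) W && Nat.beq SL.length T.length &&
    okE es && okS W 256 SL && force (totS W 256 f (tabS W (fun e => Nat.mod (tg e) 256) f 0) SL es X LT E) fun CN =>
      Nat.blt CN (2 ^ (32 * SL.length)) && (List.range SL.length).all fun j =>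
        reqB (rowOf es n r pA pB (SL.getD j 0 / 256 % 2 ^ W) (SL.getD j 0 / 256 / 2 ^ W)) (T.getD j r0).1 &&
          okRow (T.getD j r0).1 && Nat.beq (SL.getD j 0 % 256) (tags.getD j 0) &&
          Nat.beq (T.getD j r0).2 (2 ^ (22 - f) * (CN / (2 ^ 32) ^ j % 2 ^ 32))

theorem finT_spec {γ : Spor.Co2} {B1 U1 SL LT tags : List ℕ} {n r W pA pB X E : ℕ} {T : List (Row × ℕ)} {es : List En}
    {tg : ℕ → ℕ} (hB : ∀ (g : C) α, pr2 g = γ → Au Cd u g.1 α → Bs α B1 U1) (hf : B1.length ≤ 22) (hn : γ ^ n = 1)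
    (hA : Acc γ B1 W pA pB X LT E es) (h : finT tg n r W B1.length pA pB SL T tags X LT E es = true) :
    ClsTg γ B1 tg T tags := by
  unfold finT at h
  rw [force_eq, tabS_eq] at h
  simp only [Bool.and_eq_true, Nat.blt_eq, Nat.beq_eq, Nat.ble_eq, List.all_eq_true, List.mem_range] at h
  obtain ⟨⟨⟨⟨⟨⟨h1, h2⟩, h3⟩, h4⟩, hE⟩, hS⟩, h5, h6⟩ := h
  obtain ⟨hl, a, rfl, ha, hI⟩ := hA
  have h7 : ∀ e < 2 ^ B1.length, a e < 2 ^ W := fun e he => lt_of_lt_of_le (ha e he) (by
    rw [show 4096 = 2 ^ 12 from rfl, ← pow_mul, ← pow_add]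
    exact Nat.pow_le_pow_right (by norm_num) h3)
  obtain ⟨φ, hφ⟩ : ∃ φ : ℕ × ℕ → ℕ, ∀ e σ, φ (e, σ) =
      fnd SL (tg e % 256 + 256 * (a e + 2 ^ W * lf es (E ^^^ linL LT e) σ)) :=
    ⟨fun x => fnd SL (tg x.1 % 256 + 256 * (a x.1 + 2 ^ W * lf es (E ^^^ linL LT x.1) x.2)), fun _ _ => rfl⟩
  have h8 : ∑ x ∈ range (2 ^ B1.length) ×ˢ ({1, 2} : Finset ℕ), 2 ^ (32 * φ x) =
      totS W 256 B1.length (pk W B1.length fun e => Nat.mod (tg (0 + e)) 256) SL es (pk W B1.length a) LT E := by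
    rw [← totS_eq (t := fun e => Nat.mod (tg (0 + e)) 256) hf h3 le_rfl (fun _ => Nat.mod_lt _ (by norm_num)) h7 hE hS]
    exact sum_congr rfl fun x _ => by rw [zero_add, hφ]; rfl
  obtain ⟨h9, h10⟩ := count_of_sum _ φ (by
    rw [card_product, card_range, card_pair (by norm_num), ← pow_succ]
    exact Nat.pow_lt_pow_right (by norm_num) (by omega)) h8 h5
  have h11 : ∀ (g : C) α e σ, pr2 g = γ → Au Cd u g.1 α → Sg α B1 e → Sig g σ →
      tags.getD (φ (e, σ)) 0 = tg e % 256 ∧ Has g (T.getD (φ (e, σ)) r0).1 := fun g α e σ hg hα he hσ => by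
    have h12 := h9 (e, σ) (mem_product.2 ⟨mem_range.2 he.1, by rcases hσ.1 with rfl | rfl <;> simp⟩)
    have h13 := (h6 _ h12).1
    have h14 : SL.getD (φ (e, σ)) 0 = tg e % 256 + 256 * (a e + 2 ^ W * lf es (E ^^^ linL LT e) σ) := by
      rw [hφ] at h12 ⊢
      exact fnd_spec _ _ h12
    have h15 := Nat.mod_lt (tg e) (show 0 < 256 by norm_num)
    rw [h14, Nat.add_mul_mod_self_left, Nat.mod_mod, Nat.add_mul_div_left _ _ (show 0 < 256 by norm_num),
      Nat.div_eq_of_lt h15, zero_add, Nat.add_mul_mod_self_left, Nat.mod_eq_of_lt (h7 e he.1),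
      Nat.add_mul_div_left _ _ (Nat.two_pow_pos W), Nat.div_eq_of_lt (h7 e he.1), zero_add] at h13
    refine ⟨h13.2.symm, ?_⟩
    rw [← reqB_spec h13.1.1]
    exact has_row (hI g α e σ hg hα he hσ) h1 h2 (by rw [hg, hn]) (by rw [reqB_spec h13.1.1]; exact h13.1.2)
  intro sel
  refine le_trans (le_of_eq ?_) (count_coset hB _
    (fun e σ => if sel (T.getD (φ (e, σ)) r0).1 (tags.getD (φ (e, σ)) 0) = true then 1 else 0)
    (fun e σ => by split_ifs <;> omega) fun g α e σ hg hα he hσ h12 =>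
      ⟨_, α, e, hα, he, by_contra fun h13 => h12 (if_neg (by rw [(h11 g α e σ hg hα he hσ).1]; exact h13)),
        (h11 g α e σ hg hα he hσ).2⟩)
  have h12 : ∑ e ∈ range (2 ^ B1.length), ((if sel (T.getD (φ (e, 1)) r0).1 (tags.getD (φ (e, 1)) 0) = true then 1 else 0) +
      if sel (T.getD (φ (e, 2)) r0).1 (tags.getD (φ (e, 2)) 0) = true then 1 else 0) =
        ∑ x ∈ range (2 ^ B1.length) ×ˢ ({1, 2} : Finset ℕ),
          if sel (T.getD (φ x) r0).1 (tags.getD (φ x) 0) = true then 1 else 0 := by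
    rw [sum_product]
    exact sum_congr rfl fun e _ => (sum_pair
      (f := fun σ => if sel (T.getD (φ (e, σ)) r0).1 (tags.getD (φ (e, σ)) 0) = true then 1 else 0) (by norm_num)).symm
  rw [h12, ← sum_fiberwise_of_maps_to (g := φ) (t := range SL.length) fun x hx => mem_range.2 (h9 x hx), totT, ← h4,
    mul_sum]
  refine sum_congr rfl fun j hj => ?_
  rw [sum_congr rfl (g := fun _ => if sel (T.getD j r0).1 (tags.getD j 0) = true then 1 else 0) fun x hx => by
      rw [(mem_filter.1 hx).2], sum_const, smul_eq_mul, h10 j (mem_range.1 hj), (h6 j (mem_range.1 hj)).2]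
  split_ifs
  · rw [mul_one]
  · rw [mul_zero, mul_zero]

/-- **the check of a class with tags** (the field `SL` of `c` holds the keys with tags) -/
noncomputable def clsT (c : Cs) (tg : ℕ → ℕ) (T : List (Row × ℕ)) (tags : List ℕ) : Bool :=
  cond (ordT c.w c.n && Nat.ble 28 c.W) (mapF pl R22 fun PL => wdL c.w I22 fun L1 => wdY c.w YI fun Y1 => dgsF Y1 fun A =>
    force c.bs.length fun f => mapF (fun x => x) (List.range f) fun Rf => mapF (ones c.W) Rf fun O =>
    cond (bsB L1 c.bs c.U c.K) (ini PL O Rf c.bs c.U L1 c.W f fun pA pB X =>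
      loop PL O Rf c.U c.W f L1 A (finT tg c.n c.r c.W f pA pB c.SL T tags) c.cs 1 L1 I22 Y1 X (List.replicate f 0) 0 [])
      false) false

theorem clsT_spec {c : Cs} {tg : ℕ → ℕ} {T : List (Row × ℕ)} {tags : List ℕ} (h : clsT c tg T tags = true) :
    ClsTg (wd c.w) c.bs tg T tags ∧ ∀ (g : C) α, pr2 g = wd c.w → Au Cd u g.1 α → Bs α c.bs c.U := by
  unfold clsT at h
  cases h0 : (ordT c.w c.n && Nat.ble 28 c.W) <;> rw [h0] at h
  · exact absurd h Bool.false_ne_true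
  rw [Bool.and_eq_true, Nat.ble_eq] at h0
  rw [cond_true, mapF_eq, ← PL0] at h
  obtain ⟨L1, hL, h1⟩ := wdL_true h
  obtain ⟨Y1, hY, h⟩ := wdY_true h1
  rw [dgsF_eq, force_eq, mapF_eq, mapF_eq, List.map_id'] at h
  cases h3 : bsB L1 c.bs c.U c.K <;> rw [h3] at h
  · exact absurd h Bool.false_ne_true
  rw [cond_true] at h
  have hB : ∀ (g : C) α, pr2 g = wd c.w → Au Cd u g.1 α → Bs α c.bs c.U := fun g α hg hα => bsB_spec h3 (hL g α hg hα)
  simp only [bsB, Bool.and_eq_true, Nat.ble_eq, Nat.beq_eq] at h3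
  have hf := h3.1.1.1.1.1.1.1
  have hl := h3.1.1.1.1.1.2
  have hO : ∀ j < c.bs.length, ((List.range c.bs.length).map (ones c.W)).getD j 0 = ones c.W j := fun j hj => by
    rw [List.getD_eq_getElem _ _ (by simpa using hj), List.getElem_map, List.getElem_range]
  obtain ⟨pA, pB, X, hA, h4⟩ := ini_spec hB hf h0.2 hO hL hl h
  obtain ⟨X', LT', E', es', hA', h5⟩ := loop_spec hB hf hO hL hY.ha c.cs 1 L1 I22 Y1 _ _ _ _
    ⟨by rwa [pow_one], hl, fun _ _ _ _ => by rw [I22_eq]; exact IndN.one, rfl, by rwa [pow_one]⟩ hA h4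
  exact ⟨finT_spec hB hf (ordT_sound h0.1) hA' h5, hB⟩

end Cfsg.Agent.TAB.B.C2

private theorem dce_110e4820dda2 : _root_.True := by
  try have : _root_.True := by simp only [_root_.Cfsg.Agent.TAB.B.C2.lvT.eq_1]
  try have : _root_.True := by simp only [_root_.Cfsg.Agent.TAB.B.C2.totT.eq_1]
  exact _root_.True.intro
end

-- part: TAB/B/Geo/Inst
section
prune_inst 0x7f00000000000000000000000000000000000000000000000000000000000000000000000000000000000000000000000000000000000000000000000000000000000000000000000000000000000000003fffffffffffffffffffffffffffbeffbdffffffff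
set_option linter.all false
open scoped Cfsg.Agent.FastGrp

/-!
# The double cover of the Baby Monster inside the Monster (helper1, TAB)

`exists_cov` : the geometry of the Monster, a `2A`-involution `t` and the map of `C(t)` onto the group of the model.
-/

set_option autoImplicit false
set_option maxRecDepth 100000

namespace Cfsg.Agent.TAB.B.Geo

open Cfsg Cfsg.Agent.R2.M7

section plus

open Cfsg.Agent.MonsterU.Lam2 (L2)
open Cfsg.Agent.MonsterU.Ch
open Cfsg.Agent.MonsterU.AmalGen (pre z_mem_pre)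
open Cfsg.Agent.CoOneType.SignFacts
open Cfsg.Agent.R2.H4.Mon.Frm Cfsg.Agent.R2.H4.Mon.GeoInst
open Cfsg.Agent.H848 Cfsg.Agent.H848.Oct
open Cfsg.Agent.H848.TenB (T)

theorem card_plus : Fintype.card {v : Fin 4 ⊕ Fin 4 → ZMod 2 // quadFormPlus 4 (ZMod 2) v = 0} = 136 := by
  decide +kernel

variable {G : Type*} [Group G] [Finite G] {Q : Subgroup G} {z : G} {eta : G → L2}
  {pi : Subgroup.centralizer ({z} : Set G) →* Spor.Co1} {y τ : G} {o : golayCode}

/-- the arks are of plus type -/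
theorem gs_T (ho : wt o = 8) (F : Fr Q z eta pi y τ) (hE : TE F.ch τ) (A : (geo F.ch o).ArkFacts) :
    gs (T F.ch o) (geo F.ch o).kap = 32 := by
  have Fo := facts ho
  have hO : T F.ch o ∈ (geo F.ch o).Ark := ⟨1, (cj_one _).symm⟩
  have hz : z ∈ T F.ch o := TenB.pre_W8_le F.ch (z_mem_pre F.ch _)
  have hp : z ∈ (geo F.ch o).Pt := TwoB.self z
  have h1 := (qg_ark A hO).card_q_pol hz F.ch.large.z_ne 0 0
  rw [A.card _ hO, Ark.kap_pt hp, sn_zero] at h1
  have hk : ∀ a, (geo F.ch o).kap a = 0 ↔ TenD.kap z a = 0 := fun a => by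
    rw [Ark.kap_eq_zero, TenD.kap_eq_zero]
    rfl
  obtain ⟨b, hb⟩ := Fo.hyp
  choose s hs hse using F.ch.eta_surj
  have h2 : Nat.card {a : G // a ∈ T F.ch o ∧ (geo F.ch o).kap a = 0 ∧ pol (geo F.ch o).kap a z = 0} = 136 * 2 := by
    have h0 : Nat.card ({v : Fin 4 ⊕ Fin 4 → ZMod 2 // quadFormPlus 4 (ZMod 2) v = 0} × ZMod 2) = 136 * 2 := by
      rw [Nat.card_prod, Nat.card_zmod, Nat.card_eq_fintype_card, card_plus]
    rw [← h0]
    have m : ∀ (v : Fin 4 ⊕ Fin 4 → ZMod 2) (c : ZMod 2), s (b v) * TenB.zp z c ∈ pre F.ch (W8 o) := fun v c =>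
      Subgroup.mul_mem _ ⟨hs _, by rw [hse]; exact (b v).2⟩ (TenB.zp_mem F.ch c _)
    have e : ∀ (v : Fin 4 ⊕ Fin 4 → ZMod 2) (c : ZMod 2), eta (s (b v) * TenB.zp z c) = b v := fun v c => by
      rcases z2 c with rfl | rfl
      · rw [TenB.zp_zero, mul_one, hse]
      · rw [TenB.zp_one, F.ch.eta_mul _ (hs _) _ F.ch.large.z_mem, F.ch.eta_z, add_zero, hse]
    have hQ : ∀ a ∈ T F.ch o, pol (geo F.ch o).kap a z = 0 ↔ a ∈ Q := fun a ha => by
      have h3 := A.bet_iff _ hO z hz hp a ha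
      rw [geo_QQ, F.QQ_z] at h3
      exact h3.symm
    symm
    refine Nat.card_congr (Equiv.ofBijective (fun p => ⟨s (b p.1.1) * TenB.zp z p.2, TenB.pre_W8_le F.ch (m _ _), ?_,
      (hQ _ (TenB.pre_W8_le F.ch (m _ _))).2 (m _ _).1⟩) ⟨?_, ?_⟩)
    · rw [hk, TenD.kap_pre F.ch Fo F.hyQ F.hy F.τz F.τy hE (m _ _), e, hb]
      exact p.1.2
    · rintro ⟨v, c⟩ ⟨v', c'⟩ h3
      have h4 : s (b v.1) * TenB.zp z c = s (b v'.1) * TenB.zp z c' := congrArg Subtype.val h3
      have h5 := congrArg eta h4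
      rw [e, e] at h5
      have h6 : v = v' := Subtype.ext (b.injective (Subtype.ext h5))
      subst h6
      rw [TenB.zp_inj F.ch (mul_left_cancel h4)]
    · rintro ⟨a, ha, h3, h4⟩
      have haQ := (hQ a ha).1 h4
      have h5 := TenB.mem_pre_W8 F.ch haQ ha
      obtain ⟨v, hv⟩ := b.surjective ⟨eta a, h5.2⟩
      have h6 : (b v : L2) = eta a := congrArg Subtype.val hv
      have h7 : quadFormPlus 4 (ZMod 2) v = 0 := by
        rw [← hb, h6, ← TenD.kap_pre F.ch Fo F.hyQ F.hy F.τz F.τy hE h5, ← hk]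
        exact h3
      rcases (F.ch.eta_eq haQ (hs (b v))).1 (by rw [hse, h6]) with h8 | h8
      · exact ⟨(⟨v, h7⟩, 0), Subtype.ext (by
          show s (b v) * TenB.zp z 0 = a
          rw [TenB.zp_zero, mul_one, ← h8])⟩
      · exact ⟨(⟨v, h7⟩, 1), Subtype.ext (by
          show s (b v) * TenB.zp z 1 = a
          rw [TenB.zp_one, ← h8])⟩
  rw [h2] at h1
  omega

end plus

/-- the transposition of the model -/
noncomputable def tB : BG := ⟨BabyM.Inst.M.t₀, BabyM.Instance.all.C_le_G BabyM.Instance.all.t₀_C⟩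

/-- the map of `C(t)` onto `BG` -/
structure Cov {G : Type*} [Group G] (t α : G) (P : G → BG) : Prop where
  mul : ∀ a b, a * t = t * a → b * t = t * b → P (a * b) = P a * P b
  surj : ∀ x, ∃ a, a * t = t * a ∧ P a = x
  ker : ∀ a, a * t = t * a → (P a = 1 ↔ a = 1 ∨ a = t)
  α_conj : IsConj tB (P α)
  four : ∀ b, b * b = t → Nat.card (Subgroup.centralizer ({b} : Set G)) ≤ 26489012826931200

section model

open Cfsg.Agent.MonsterX Cfsg.Agent.MonsterX.InstData Cfsg.Agent.MonsterX.MainPack Cfsg.Agent.MonsterU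
open Cfsg.Agent.MonsterN Cfsg.Agent.MonsterN.LitInst
open Cfsg.Agent.R2.H4.Mon.Frm Cfsg.Agent.R2.H4.Mon.GeoInst Cfsg.Agent.R2.H4.Mon.MonFr
open Cfsg.Agent.LThreeMB (KChart.Cent KChart.pi KChart.chart KChart.pi_eq)
open Cfsg.Agent.R2.H10.Mon
open Subgroup (centralizer mem_centralizer_singleton_iff)

theorem exists_frame : ∃ (Q : Subgroup ↥InstData.M.G) (eta : ↥InstData.M.G → Lam2.L2)
    (pi : centralizer ({KDone.K.z} : Set ↥InstData.M.G) →* Spor.Co1) (y τ : ↥InstData.M.G),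
      Fr Q KDone.K.z eta pi y τ := by
  have := finite_model
  have := simple_model
  have h := KChart.chart KDone.lft hc
  obtain ⟨g, h1, h2, -⟩ := Cfsg.Agent.MonsterU.Fused.exists_type_four h
  obtain ⟨s, τ, h3, h4, h5⟩ := Cfsg.Agent.MonsterU.AmalSideOf.exists_frame h h1 h2 ⟨g, rfl⟩
  exact ⟨_, _, _, _, τ,
    { ch := h.smul s
      hyQ := h1
      hy := h5
      τz := h3
      τy := h4
      noB := noB_smul noB_model s }⟩

theorem cj_iff {G : Type*} [Group G] {t : G} {a b : centralizer ({t} : Set G)} : Cj t a b ↔ IsConj a b := by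
  rw [isConj_iff]
  constructor
  · rintro ⟨g, h1, h2⟩
    exact ⟨⟨g, mem_centralizer_singleton_iff.2 h1⟩, Subtype.ext h2⟩
  · rintro ⟨g, h⟩
    exact ⟨g, mem_centralizer_singleton_iff.1 g.2, congrArg Subtype.val h⟩

/-- **The cover.** -/
theorem exists_cov : ∃ (G : Type) (_ : Group G) (_ : Finite G) (Γ : Geo G) (t α β δ : G) (P : G → BG),
    MF Γ t α β δ ∧ Cov t α P := by
  classical
  refine CTwoTab.BInst.elim ?_
  intro K iF iT hK hF i1 i2 i3 i4 q y h π f₁ f₂ f₃ f₄ M₁ hq h10 DK Fc hz hcz hcd hL hc5 big hq5 hcard Bs hr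
  obtain ⟨Q, eta, pi, y₀, τ₀, F₀⟩ := exists_frame
  obtain ⟨τ, F, hE⟩ := Fr.exists_TE F₀
  obtain ⟨o, ho⟩ := exists_octad
  have A := Final.facts_all ho F hE
  have hta : LThreeB.Row.TA (KDone.K.ι KLinkInst.x₀) := LThreeB.Par.ta_iota LitFin.all KDone.lnk KDone.lft
  have hA := TwoA.isA_of_ta hta
  have hk : ∀ a, a * a = 1 → (geo F.ch o).kap a = 1 → TwoA.IsA KDone.K.z a := fun a h1 h2 => by
    have h3 : ¬ (a = 1 ∨ a ∈ (geo F.ch o).Pt) := fun h4 => by
      rw [Ark.kap_eq_zero.2 h4] at h2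
      exact zero_ne_one h2
    exact ⟨h1, fun h4 => h3 (Or.inl h4), fun h4 => h3 (Or.inr h4)⟩
  have tc : ∀ x : BB KDone.K KLinkInst.x₀, tb KDone.K KLinkInst.x₀ * x = x * tb KDone.K KLinkInst.x₀ :=
    fun x => (Fc.cen x).symm
  refine ⟨↥InstData.M.G, inferInstance, i3, geo F.ch o, KDone.K.ι KLinkInst.x₀, f₁,
    (tb KDone.K KLinkInst.x₀ * (f₁ * f₂) : BB KDone.K KLinkInst.x₀), (f₁ * f₂ * f₃ : BB KDone.K KLinkInst.x₀),
    fun g => if hg : g ∈ BB KDone.K KLinkInst.x₀ then BM.KHAll.iso (q ⟨g, hg⟩) else 1,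
    ⟨A.basic, A.ark, A.qsq, hA.1, ?_, ?_, ⟨_, ⟨1, (cj_one _).symm⟩, gs_T ho F hE A.ark⟩, ?_, isConj_iff.1 hcz,
      isConj_iff.1 hcd, ?_, ?_, ?_⟩, ⟨?_, ?_, ?_, ?_, ?_⟩⟩
  · exact z2_ne.1 fun h1 => (Ark.kap_eq_zero.1 h1).elim hA.2.1 hA.2.2
  · exact fun a h1 h2 => TwoA.afacts_model.conj a _ (hk a h1 h2) hA
  · have h1 := Fc.a_t
    rw [tc] at h1
    exact cj_iff.2 h1
  · have h1 := Fc.d_t
    rw [tc] at h1
    exact cj_iff.2 h1
  · intro w hw
    rcases Fc.classes ⟨w, mem_centralizer_singleton_iff.2 hw.comm⟩ (Subtype.ext hw.sq)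
      (fun h1 => hw.ne (congrArg Subtype.val h1)) (fun h1 => hw.net (congrArg Subtype.val h1)) with h1 | h1 | h1 | h1
    · exact Or.inl (cj_iff.2 h1)
    · have h2 := FusionType.conj_mul_t Fc.cen h1
      rw [tc ⟨w, _⟩] at h2
      exact Or.inr (Or.inl (cj_iff.2 h2))
    · exact Or.inr (Or.inr (Or.inl (cj_iff.2 h1)))
    · exact Or.inr (Or.inr (Or.inr (cj_iff.2 h1)))
  · intro a b ha hb hab hd
    have ha' := ha.comm (mem_centralizer_singleton_iff.1 f₁.2)
    have hb' := hb.comm (mem_centralizer_singleton_iff.1 f₁.2)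
    exact Fc.aa ⟨a, mem_centralizer_singleton_iff.2 ha'⟩ ⟨b, mem_centralizer_singleton_iff.2 hb'⟩ (cj_iff.1 ha)
      (cj_iff.1 hb) (Subtype.ext hab) (cj_iff.1 hd)
  · intro a b ha hb
    have ha' : a ∈ BB KDone.K KLinkInst.x₀ := mem_centralizer_singleton_iff.2 ha
    have hb' : b ∈ BB KDone.K KLinkInst.x₀ := mem_centralizer_singleton_iff.2 hb
    rw [dif_pos ha', dif_pos hb', dif_pos (Subgroup.mul_mem _ ha' hb'), ← map_mul, ← map_mul]
    rfl
  · intro x
    obtain ⟨a, ha⟩ := hq.surj (BM.KHAll.iso.symm x)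
    exact ⟨a, mem_centralizer_singleton_iff.1 a.2, by rw [dif_pos a.2, ha, MulEquiv.apply_symm_apply]⟩
  · intro a ha
    have ha' : a ∈ BB KDone.K KLinkInst.x₀ := mem_centralizer_singleton_iff.2 ha
    rw [dif_pos ha', map_eq_one_iff _ BM.KHAll.iso.injective, hq.ker]
    exact or_congr Subtype.ext_iff Subtype.ext_iff
  · rw [dif_pos f₁.2]
    have h1 := BM.KHAll.iso.toMonoidHom.map_isConj ((q.map_isConj hc5).trans hq5)
    have h2 := BM.KH.conj_x .t1
    rw [← BM.KHAll.iso_gB] at h2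
    exact h2.trans h1.symm
  · exact fun b hb => H909.PwM.TwoA.card_cent_le hb hta

end model

end Cfsg.Agent.TAB.B.Geo
end

-- part: TAB/B/D/Tool
section
set_option linter.all false
open scoped Cfsg.Agent.FastGrp

/-!
# Types of words, orbits under centralizers (helper14, TAB)
-/

set_option autoImplicit false
set_option maxRecDepth 100000

namespace Cfsg.Agent.TAB.B.D

open Cfsg Subgroup Cfsg.Agent.TAB.Eng Cfsg.Agent.BMx.Fast
open Cfsg.Agent.TAB.B.Tr (chB finB)
open Cfsg.Agent.H819.U33 (g cj pw g_cj g_pw g_append)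
open Cfsg.Agent.BabyM.Conc (Ltr)

theorem exists_int (x : BG) : ∃ n : ℤ, tr x = n := by
  have := finB
  have h := Characters.GaloisBasic.isIntegral_apply isChar x
  have h1 : IsIntegral ℤ (tr x) :=
    (isIntegral_algebraMap_iff (R := ℤ) (A := ℚ) (B := ℂ) (algebraMap ℚ ℂ).injective).1 (by simpa using h)
  obtain ⟨n, hn⟩ := IsIntegrallyClosed.isIntegral_iff.1 h1
  exact ⟨n, by simpa using hn.symm⟩

theorem tr_cong {x : BG} {p : ℕ} (hp : p.Prime) {a b : ℤ} (ha : tr x = a) (hb : tr (x ^ p) = b) : (p : ℤ) ∣ a - b := by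
  have := finB
  refine J3Type.CharTools.int_congr isChar x hp ?_ ?_
  · rw [ha]; rfl
  · rw [hb]; rfl

theorem tr_bound {x : BG} {a : ℤ} (ha : tr x = a) : 1 + a ^ 2 ≤ (c1 x : ℤ) := by
  classical
  obtain ⟨χ, hχ, h1, h⟩ := H723.Pair.BChar.exists_chi
  have := finB
  have := Finite.of_equiv _ H863.BGL.iso.symm.toEquiv
  let e : IrrCharacter Spor.BabyMonster := ⟨1, Characters.Core.isIrr_one⟩
  have hne : e ≠ ⟨χ, hχ⟩ := by
    intro h2
    rw [← show (1 : Spor.BabyMonster → ℂ) = χ from congrArg Subtype.val h2] at h1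
    have h3 : (1 : ℂ) = (4371 : ℕ) := h1
    norm_num at h3
  have h2 := CharactersDeep.ColumnBessel.sum_norm_sq_le {e, ⟨χ, hχ⟩} (H863.BGL.iso.symm x)
  rw [Finset.sum_pair hne] at h2
  have h3 : ‖(e : Spor.BabyMonster → ℂ) (H863.BGL.iso.symm x)‖ = 1 := norm_one
  have h4 : ‖χ (H863.BGL.iso.symm x)‖ ^ 2 = ((a ^ 2 : ℤ) : ℝ) := by
    rw [h, ← tr_def, ha, Rat.cast_intCast, Complex.norm_intCast, sq_abs]
    push_cast
    rfl
  have h5 : Nat.card (centralizer ({H863.BGL.iso.symm x} : Set Spor.BabyMonster)) = c1 x :=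
    Nat.card_congr
      { toFun := fun c => ⟨H863.BGL.iso c, mem_centralizer_singleton_iff.2 (by
          have h6 := congrArg H863.BGL.iso (mem_centralizer_singleton_iff.1 c.2)
          rwa [map_mul, map_mul, MulEquiv.apply_symm_apply] at h6)⟩
        invFun := fun c => ⟨H863.BGL.iso.symm c, mem_centralizer_singleton_iff.2 (by
          rw [← map_mul, mem_centralizer_singleton_iff.1 c.2, map_mul])⟩
        left_inv := fun c => Subtype.ext (H863.BGL.iso.symm_apply_apply _)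
        right_inv := fun c => Subtype.ext (H863.BGL.iso.apply_symm_apply _) }
  have h7 : ‖(e : Spor.BabyMonster → ℂ) (H863.BGL.iso.symm x)‖ ^ 2 + ‖χ (H863.BGL.iso.symm x)‖ ^ 2 ≤ _ := h2
  rw [h3, h4, h5, one_pow] at h7
  exact_mod_cast h7

/-- the types of the powers -/
def Pw (x : BG) (L : List (ℕ × ℕ)) : Prop := L.Forall fun p => TyB p.2 (x ^ p.1)

/-- **the trace from congruences and the bound** -/
theorem tr_pin {x : BG} {c : ℕ} {a : ℤ} {L : List (ℕ × ℕ)} (hc : c1 x ≤ c) (hL : Pw x L)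
    (h : (∀ p ∈ L, p.1.Prime ∧ (1, p.2) ∈ dat.pw p.2) ∧ ∀ m < 2 * c, 1 + ((m : ℤ) - c) ^ 2 ≤ c →
      (∀ p ∈ L, (p.1 : ℤ) ∣ (m : ℤ) - c - val p.2) → (m : ℤ) - c = a) : tr x = a := by
  obtain ⟨n, hn⟩ := exists_int x
  have h1 : 1 + n ^ 2 ≤ (c : ℤ) := (tr_bound hn).trans (by exact_mod_cast hc)
  have h2 : -(c : ℤ) ≤ n ∧ n < c := by constructor <;> nlinarith
  obtain ⟨m, hm⟩ : ∃ m : ℕ, (m : ℤ) - c = n := ⟨(n + c).toNat, by omega⟩
  rw [hn, ← hm, h.2 m (by omega) (by rwa [hm]) fun p hp => ?_]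
  rw [hm]
  refine tr_cong (h.1 p hp).1 hn ?_
  have h3 : tr ((x ^ p.1) ^ 1) = _ := (List.forall_iff_forall_mem.1 hL p hp).2 _ (h.1 p hp).2
  rwa [pow_one] at h3

/-- **the type from the types of the powers** -/
theorem ty_mk {x : BG} {i o : ℕ} {a : ℤ} {L : List (ℕ × ℕ)} (ho : orderOf x = o) (ha : tr x = a) (hL : Pw x L)
    (h : dat.ord i = o ∧ ∀ q ∈ dat.pw i, q.1 = 1 ∧ val q.2 = a ∨
      ∃ p ∈ L, ∃ r ∈ dat.pw p.2, q.1 = p.1 * r.1 ∧ val q.2 = val r.2) : TyB i x := by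
  refine ⟨ho.trans h.1.symm, fun q hq => ?_⟩
  show tr (x ^ q.1) = val q.2
  rcases h.2 q hq with ⟨h1, h2⟩ | ⟨p, hp, r, hr, h1, h2⟩
  · rw [h1, h2, pow_one, ha]
  · rw [h1, h2, pow_mul]
    exact (List.forall_iff_forall_mem.1 hL p hp).2 r hr

theorem ty_pow {x : BG} {i : ℕ} (hx : TyB i x) (k : ℕ) {j : ℕ} (h : i < dat.n ∧ dat.pwf i k = j) : TyB j (x ^ k) := by
  have := finB
  exact h.2 ▸ (Ty.pow okPow h.1 hx k).2

/-- a power is conjugate to a power of a known element -/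
theorem ty_cj {v w : List Ltr} {i : ℕ} (hw : TyB i (g w)) (c : List Ltr) (k : ℕ) {p j : ℕ}
    (h : eqF (cj c (pw v p)) (pw w k) = true) (hj : i < dat.n ∧ dat.pwf i k = j) : TyB j (g v ^ p) := by
  have h1 := eq_of_eqF h
  rw [g_cj, g_pw, g_pw] at h1
  have h2 := Ty.conj (ty_pow hw k hj) (g c)
  rw [← h1, show g c * ((g c)⁻¹ * g v ^ p * g c) * (g c)⁻¹ = g v ^ p by group] at h2
  exact h2

theorem pow_of {v w : List Ltr} {k : ℕ} (h : eqF (pw v k) w = true) : g v ^ k = g w := (g_pw v k).symm.trans (eq_of_eqF h)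

theorem comm_of {v w : List Ltr} (h : eqF (v ++ w) (w ++ v) = true) : g v * g w = g w * g v := by
  rw [← g_append, ← g_append, eq_of_eqF h]

theorem box_of {x : BG} {i c : ℕ} (hx : TyB i x) (hc : c1 x ≤ c)
    (h : dat.cnt i * c ≤ 4154781481226426191177580544000000) : BoxCB i :=
  BoxC.of_le hx hc (card_B ▸ h)

theorem ord_pow {G : Type*} [Group G] {x : G} {o : ℕ} (ho : orderOf x = o) (j : ℕ) {n : ℕ}
    (h : j ≠ 0 ∧ o / Nat.gcd o j = n) : orderOf (x ^ j) = n := by rw [orderOf_pow' _ h.1, ho, h.2]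

/-- the order from two power relations -/
theorem ord_two {v a b c d : List Ltr} {p q k l m n o : ℕ} (h1 : eqF (cj c (pw v p)) (pw a k) = true)
    (ha : orderOf (g a) = m) (h2 : eqF (cj d (pw v q)) (pw b l) = true) (hb : orderOf (g b) = n)
    (h : k ≠ 0 ∧ l ≠ 0 ∧ p * (m / Nat.gcd m k) = o ∧ Nat.lcm (m / Nat.gcd m k) (n / Nat.gcd n l) = o) :
    orderOf (g v) = o := by
  have key : ∀ {a c : List Ltr} {p k m : ℕ}, eqF (cj c (pw v p)) (pw a k) = true → orderOf (g a) = m → k ≠ 0 →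
      orderOf (g v ^ p) = m / Nat.gcd m k := by
    intro a c p k m h1 ha hk
    have e := eq_of_eqF h1
    rw [g_cj, g_pw, g_pw] at e
    rw [← ord_pow ha k ⟨hk, rfl⟩]
    refine (SemiconjBy.orderOf_eq (g c) ?_).symm
    show g c * g a ^ k = g v ^ p * g c
    rw [← e, mul_assoc, mul_inv_cancel_left]
  have e1 := key h1 ha h.1
  have e2 := key h2 hb h.2.1
  refine Nat.dvd_antisymm (orderOf_dvd_of_pow_eq_one ?_) ?_
  · rw [← h.2.2.1, pow_mul, ← e1, pow_orderOf_eq_one]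
  · rw [← h.2.2.2]
    exact Nat.lcm_dvd (e1 ▸ orderOf_pow_dvd p) (e2 ▸ orderOf_pow_dvd q)

/-- a power through a power relation -/
theorem pow_via {v a : List Ltr} {y : BG} {p j m r k : ℕ} (t : ℕ) (h : eqF (cj [] (pw v p)) (pw a j) = true)
    (ha : orderOf (g a) = m) (hr : g a ^ r = y) (hk : k = p * t ∧ j * t % m = r % m) : g v ^ k = y := by
  have e := eq_of_eqF h
  rw [g_cj, g_pw, g_pw, H819.U33.g_nil, inv_one, one_mul, mul_one] at e
  rw [hk.1, pow_mul, e, ← pow_mul, ← pow_mod_orderOf, ha, hk.2, ← ha, pow_mod_orderOf, hr]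

theorem le_of_pows {G : Type*} [Group G] [Finite G] {h x : G} {i c : ℕ} (hx : h ^ i = x) (j : ℕ)
    (H : h ^ j * x = x * h ^ j → c2 x (h ^ j) ≤ c) : c1 h ≤ c :=
  (c1_le_c2 hx rfl).trans (H (hx ▸ (Commute.pow_pow_self h j i).eq))

/-! ### Orbits -/

/-- the register is new -/
noncomputable def newR (r : ℕ) (L : List ℕ) : Bool :=
  List.rec (motive := fun _ => Bool) true (fun a _ ih => and (not (Nat.beq r a)) ih) L

theorem newR_sound {r : ℕ} {L : List ℕ} (h : newR r L = true) : ∀ a ∈ L, r ≠ a := by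
  induction L with
  | nil => intro a ha; exact absurd ha (by simp)
  | cons b L ih =>
    have h' : and (not (Nat.beq r b)) (newR r L) = true := h
    rw [Bool.and_eq_true] at h'
    intro a ha
    rcases List.mem_cons.1 ha with rfl | ha
    · exact ne_of_not_beq h'.1
    · exact ih h'.2 a ha

/-- the conjugates are different -/
noncomputable def orbA (y : List Ltr) (T : List (List Ltr)) : List ℕ → Bool :=
  List.rec (motive := fun _ => List ℕ → Bool) (fun _ => true)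
    (fun t _ ih L => runW (cj t y) x0 fun r => and (newR r L) (ih (r :: L))) T

theorem orbA_sound {y : List Ltr} {T : List (List Ltr)} {L : List ℕ} (h : orbA y T L = true) :
    (T.map fun t => g (cj t y)).Nodup ∧ ∀ t ∈ T, ∀ a ∈ L, ∀ v, Reg a v → g (cj t y) ≠ g v := by
  induction T generalizing L with
  | nil => exact ⟨List.nodup_nil, fun t ht => absurd ht (by simp)⟩
  | cons t T ih =>
    obtain ⟨r, hr, hk⟩ := runW_sound reg0 (cj t y) _ h
    rw [List.nil_append] at hr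
    rw [Bool.and_eq_true] at hk
    obtain ⟨h1, h2⟩ := ih hk.2
    refine ⟨List.nodup_cons.2 ⟨fun h3 => ?_, h1⟩, fun s hs a ha v hv => ?_⟩
    · obtain ⟨s, hs, e⟩ := List.mem_map.1 h3
      exact h2 s hs r List.mem_cons_self _ hr e
    · rcases List.mem_cons.1 hs with rfl | hs
      · exact hr.ne hv (newR_sound hk.1 a ha)
      · exact h2 s hs a (List.mem_cons_of_mem _ ha) v hv

/-- the words commute with `h` -/
noncomputable def comA (h : List Ltr) (T : List (List Ltr)) : Bool :=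
  List.rec (motive := fun _ => Bool) true (fun t _ ih => and (eqF (t ++ h) (h ++ t)) ih) T

theorem comA_sound {h : List Ltr} {T : List (List Ltr)} (hc : comA h T = true) :
    ∀ t ∈ T, g t ∈ centralizer ({g h} : Set BG) := by
  induction T with
  | nil => intro a ha; exact absurd ha (by simp)
  | cons b T ih =>
    have h' : and (eqF (b ++ h) (h ++ b)) (comA h T) = true := hc
    rw [Bool.and_eq_true] at h'
    intro a ha
    rcases List.mem_cons.1 ha with rfl | ha
    · exact mem_centralizer_singleton_iff.2 (comm_of h'.1)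
    · exact ih h'.2 a ha

/-- **an orbit under a centralizer** -/
theorem c2_le {h y : List Ltr} {T : List (List Ltr)} (hc : comA h T = true) (ho : orbA y T [] = true) {N c : ℕ}
    (hN : c1 (g h) ≤ N) (hm : N < T.length * (c + 1)) : c2 (g h) (g y) ≤ c := by
  classical
  have := finB
  have h1 := BMx.Baer.chain_step (centralizer ({g h} : Set BG)) (g y) (T.map fun t => g (cj t y)).toFinset
    fun o ho => by
      obtain ⟨t, ht, rfl⟩ := List.mem_map.1 (List.mem_toFinset.1 ho)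
      exact ⟨g t, comA_sound hc t ht, (g_cj t y).symm⟩
  rw [List.toFinset_card_of_nodup (orbA_sound ho).1, List.length_map] at h1
  exact Nat.lt_succ_iff.1 (Nat.lt_of_mul_lt_mul_left ((h1.trans hN).trans_lt hm))

end Cfsg.Agent.TAB.B.D
end
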